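import Cfsg.Agent.Lib.Helper4.J2.H9

set_option autoImplicit false

/-! # The Hall-Janko group of the icosian lattice is the presented group -/

namespace Cfsg.Agent.Lib.Helper4.J2

open Quaternion Cfsg.Spor MQ MV
open Cfsg.Agent.Lib.Helper6.TC

theorem rl_zero : rl 0 = E2 := by decide +kernel

/-- the first generator is not in `{1, -1}` -/
theorem genT_zero_not_mem : genT 0 ∉ Z0 := by
  have hg : ∀ R ∈ [rl 0], goodM R = true := by decide +kernel
  have h0 : applyM [rl 0] E0 = some E0 := by decide +kernel
  have h2 : applyM [rl 0] E2 = some (negM E2) := by decide +kernel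
  have e0 := prodRefl_apply hg h0 ⟨toV E0, E0_mem⟩ rfl
  have e2 := prodRefl_apply hg h2 ⟨toV E2, E2_mem⟩ rfl
  rintro (h | h)
  · have h' : prodRefl [rl 0] = 1 := congrArg Subtype.val h
    rw [h', Equiv.Perm.one_apply] at e2
    have := toV_injective e2
    revert this
    decide +kernel
  · have h' : prodRefl [rl 0] = negP := congrArg Subtype.val h
    rw [h', negP_apply, ← toV_negM] at e0
    have := toV_injective e0
    revert this
    decide +kernel

theorem psi_injective : Function.Injective psi := by
  have hs := Cfsg.Agent.S0423.simple.1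
  rw [← MonoidHom.ker_eq_bot_iff]
  rcases (MonoidHom.normal_ker psi).eq_bot_or_eq_top with h | h
  · exact h
  · exfalso
    have : PresentedGroup.mk _ (FreeGroup.of (0 : Fin 5)) ∈ psi.ker := by
      rw [h]; exact Subgroup.mem_top _
    rw [MonoidHom.mem_ker, psi_of] at this
    exact genT_zero_not_mem ((QuotientGroup.eq_one_iff _).mp this)

/-- the isomorphism of the presented group with the reflection group modulo the negation -/
noncomputable def psiEquiv : Cfsg.Agent.Lib.Helper6.TCP.J2.G ≃* QJ :=
  MulEquiv.ofBijective psi ⟨psi_injective, psi_surjective⟩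

theorem card_QJ : Nat.card QJ = 604800 := by
  rw [← Nat.card_congr psiEquiv.toEquiv]
  exact Cfsg.Agent.S0423.simple.2

theorem simple_QJ : IsSimpleGroup QJ := by
  have := Cfsg.Agent.S0423.simple.1
  exact psiEquiv.symm.isSimpleGroup

theorem center_QJ : Subgroup.center QJ = ⊥ := by
  have := simple_QJ
  rcases (inferInstance : (Subgroup.center QJ).Normal).eq_bot_or_eq_top with h | h
  · exact h
  · exfalso
    have hc : IsMulCommutative QJ := by
      refine ⟨⟨fun a b => ?_⟩⟩
      have ha : a ∈ Subgroup.center QJ := by rw [h]; exact Subgroup.mem_top _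
      rw [Subgroup.mem_center_iff] at ha
      exact (ha b).symm
    have hp := Group.is_simple_iff_prime_card.mp this
    rw [card_QJ] at hp
    norm_num at hp

theorem center_eq : Subgroup.center ↥twoJ2 = Z0 := by
  apply le_antisymm
  · intro z hz
    have : (QuotientGroup.mk z : QJ) ∈ Subgroup.center QJ := by
      rw [Subgroup.mem_center_iff]
      intro q
      obtain ⟨g, rfl⟩ := QuotientGroup.mk_surjective q
      rw [Subgroup.mem_center_iff] at hz
      rw [← QuotientGroup.mk_mul, ← QuotientGroup.mk_mul, hz g]
    rw [center_QJ, Subgroup.mem_bot] at this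
    exact (QuotientGroup.eq_one_iff _).mp this
  · exact Z0_le_center

theorem card_twoJ2 : Nat.card ↥twoJ2 = 1209600 := by
  rw [Subgroup.card_eq_card_quotient_mul_card_subgroup Z0, card_QJ, card_Z0]

/-- the Hall-Janko group is the quotient by the negation -/
noncomputable def j2Equiv : J2 ≃* QJ := QuotientGroup.quotientMulEquivOfEq center_eq

/-- the Hall-Janko group of the icosian lattice is the presented group -/
noncomputable def isoJ2 : J2 ≃* Cfsg.Agent.Lib.Helper6.TCP.J2.G := j2Equiv.trans psiEquiv.symm

theorem card_J2 : Nat.card J2 = 604800 := by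
  rw [Nat.card_congr j2Equiv.toEquiv]
  exact card_QJ

theorem simple_J2 : IsSimpleGroup J2 := by
  have := simple_QJ
  exact j2Equiv.isSimpleGroup

theorem center_J2 : Subgroup.center J2 = ⊥ := by
  have e := j2Equiv
  rw [eq_bot_iff]
  intro z hz
  rw [Subgroup.mem_bot]
  have : e z ∈ Subgroup.center QJ := by
    rw [Subgroup.mem_center_iff] at hz ⊢
    intro q
    obtain ⟨g, rfl⟩ := e.surjective q
    rw [← map_mul, ← map_mul, hz g]
  rw [center_QJ, Subgroup.mem_bot] at this
  exact e.injective (this.trans (map_one e).symm)

theorem exists_not_comm : ∃ a b : J2, a * b ≠ b * a := by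
  by_contra hcon
  push Not at hcon
  have h : Subgroup.center J2 = ⊤ := by
    rw [eq_top_iff]
    intro z _
    rw [Subgroup.mem_center_iff]
    intro g
    exact hcon g z
  rw [center_J2] at h
  have hcard : Nat.card (⊥ : Subgroup J2) = Nat.card (⊤ : Subgroup J2) := by rw [h]
  rw [Subgroup.card_bot, Subgroup.card_top, card_J2] at hcard
  norm_num at hcard

end Cfsg.Agent.Lib.Helper4.J2
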