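import Mathlib
import Cfsg.Prelude.Def_Spor_J2

set_option autoImplicit false

/-! # Integer model of quaternions over `ℤ[√5]` scaled by 4, and its embedding in `ℍ[ℝ]` -/

namespace Cfsg.Agent.Lib.Helper4.J2

open Quaternion

/-- a model quaternion: the quaternion `((a0 + b0√5) + (a1 + b1√5) i + (a2 + b2√5) j + (a3 + b3√5) k)/4` -/
@[ext] structure MQ where
  a0 : ℤ
  b0 : ℤ
  a1 : ℤ
  b1 : ℤ
  a2 : ℤ
  b2 : ℤ
  a3 : ℤ
  b3 : ℤ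
deriving DecidableEq

namespace MQ

def zero : MQ := ⟨0, 0, 0, 0, 0, 0, 0, 0⟩

/-- the model of `1` -/
def one : MQ := ⟨4, 0, 0, 0, 0, 0, 0, 0⟩

def add (X Y : MQ) : MQ :=
  ⟨X.a0 + Y.a0, X.b0 + Y.b0, X.a1 + Y.a1, X.b1 + Y.b1, X.a2 + Y.a2, X.b2 + Y.b2, X.a3 + Y.a3,
    X.b3 + Y.b3⟩

def sub (X Y : MQ) : MQ :=
  ⟨X.a0 - Y.a0, X.b0 - Y.b0, X.a1 - Y.a1, X.b1 - Y.b1, X.a2 - Y.a2, X.b2 - Y.b2, X.a3 - Y.a3,
    X.b3 - Y.b3⟩

def neg (X : MQ) : MQ := ⟨-X.a0, -X.b0, -X.a1, -X.b1, -X.a2, -X.b2, -X.a3, -X.b3⟩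

def conj (X : MQ) : MQ := ⟨X.a0, X.b0, -X.a1, -X.b1, -X.a2, -X.b2, -X.a3, -X.b3⟩

def smulInt (n : ℤ) (X : MQ) : MQ :=
  ⟨n * X.a0, n * X.b0, n * X.a1, n * X.b1, n * X.a2, n * X.b2, n * X.a3, n * X.b3⟩

def divInt (X : MQ) (n : ℤ) : MQ :=
  ⟨X.a0 / n, X.b0 / n, X.a1 / n, X.b1 / n, X.a2 / n, X.b2 / n, X.a3 / n, X.b3 / n⟩

/-- all the coordinates are divisible by `n` -/
def dvdB (n : ℤ) (X : MQ) : Bool :=
  X.a0 % n == 0 && X.b0 % n == 0 && X.a1 % n == 0 && X.b1 % n == 0 && X.a2 % n == 0 &&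
    X.b2 % n == 0 && X.a3 % n == 0 && X.b3 % n == 0

/-- the product of the underlying quaternions over `ℤ[√5]`, without the scaling -/
def raw (X Y : MQ) : MQ where
  a0 := (X.a0*Y.a0 + 5*(X.b0*Y.b0)) - (X.a1*Y.a1 + 5*(X.b1*Y.b1)) - (X.a2*Y.a2 + 5*(X.b2*Y.b2)) - (X.a3*Y.a3 + 5*(X.b3*Y.b3))
  b0 := (X.a0*Y.b0 + X.b0*Y.a0) - (X.a1*Y.b1 + X.b1*Y.a1) - (X.a2*Y.b2 + X.b2*Y.a2) - (X.a3*Y.b3 + X.b3*Y.a3)
  a1 := (X.a0*Y.a1 + 5*(X.b0*Y.b1)) + (X.a1*Y.a0 + 5*(X.b1*Y.b0)) + (X.a2*Y.a3 + 5*(X.b2*Y.b3)) - (X.a3*Y.a2 + 5*(X.b3*Y.b2))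
  b1 := (X.a0*Y.b1 + X.b0*Y.a1) + (X.a1*Y.b0 + X.b1*Y.a0) + (X.a2*Y.b3 + X.b2*Y.a3) - (X.a3*Y.b2 + X.b3*Y.a2)
  a2 := (X.a0*Y.a2 + 5*(X.b0*Y.b2)) - (X.a1*Y.a3 + 5*(X.b1*Y.b3)) + (X.a2*Y.a0 + 5*(X.b2*Y.b0)) + (X.a3*Y.a1 + 5*(X.b3*Y.b1))
  b2 := (X.a0*Y.b2 + X.b0*Y.a2) - (X.a1*Y.b3 + X.b1*Y.a3) + (X.a2*Y.b0 + X.b2*Y.a0) + (X.a3*Y.b1 + X.b3*Y.a1)
  a3 := (X.a0*Y.a3 + 5*(X.b0*Y.b3)) + (X.a1*Y.a2 + 5*(X.b1*Y.b2)) - (X.a2*Y.a1 + 5*(X.b2*Y.b1)) + (X.a3*Y.a0 + 5*(X.b3*Y.b0))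
  b3 := (X.a0*Y.b3 + X.b0*Y.a3) + (X.a1*Y.b2 + X.b1*Y.a2) - (X.a2*Y.b1 + X.b2*Y.a1) + (X.a3*Y.b0 + X.b3*Y.a0)

/-- the rational part of the norm, scaled by 16 -/
def wt (X : MQ) : ℤ :=
  X.a0 * X.a0 + 5 * (X.b0 * X.b0) + (X.a1 * X.a1 + 5 * (X.b1 * X.b1)) +
    (X.a2 * X.a2 + 5 * (X.b2 * X.b2)) + (X.a3 * X.a3 + 5 * (X.b3 * X.b3))

/-- the `√5` part of the norm, scaled by 16 -/
def wi (X : MQ) : ℤ :=
  2 * (X.a0 * X.b0) + 2 * (X.a1 * X.b1) + 2 * (X.a2 * X.b2) + 2 * (X.a3 * X.b3)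

theorem raw_conj_self (X : MQ) : raw X (conj X) = ⟨wt X, wi X, 0, 0, 0, 0, 0, 0⟩ := by
  ext <;> simp only [raw, conj, wt, wi] <;> ring

/-- the real quaternion of a model quaternion -/
noncomputable def toH (X : MQ) : ℍ[ℝ] :=
  ⟨(X.a0 + X.b0 * Real.sqrt 5) / 4, (X.a1 + X.b1 * Real.sqrt 5) / 4,
    (X.a2 + X.b2 * Real.sqrt 5) / 4, (X.a3 + X.b3 * Real.sqrt 5) / 4⟩

theorem sqrt5_mul_self : Real.sqrt 5 * Real.sqrt 5 = 5 :=
  Real.mul_self_sqrt (by norm_num)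

theorem toH_re (X : MQ) : (toH X).re = (X.a0 + X.b0 * Real.sqrt 5) / 4 := rfl
theorem toH_imI (X : MQ) : (toH X).imI = (X.a1 + X.b1 * Real.sqrt 5) / 4 := rfl
theorem toH_imJ (X : MQ) : (toH X).imJ = (X.a2 + X.b2 * Real.sqrt 5) / 4 := rfl
theorem toH_imK (X : MQ) : (toH X).imK = (X.a3 + X.b3 * Real.sqrt 5) / 4 := rfl

theorem toH_zero : toH zero = 0 := by
  ext <;> simp [toH_re, toH_imI, toH_imJ, toH_imK, zero]

theorem toH_one : toH one = 1 := by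
  ext <;> simp [toH_re, toH_imI, toH_imJ, toH_imK, one]

theorem toH_add (X Y : MQ) : toH (add X Y) = toH X + toH Y := by
  ext <;> simp only [toH_re, toH_imI, toH_imJ, toH_imK, add, Quaternion.re_add,
    Quaternion.imI_add, Quaternion.imJ_add, Quaternion.imK_add] <;> push_cast <;> ring

theorem toH_sub (X Y : MQ) : toH (sub X Y) = toH X - toH Y := by
  ext <;> simp only [toH_re, toH_imI, toH_imJ, toH_imK, sub, Quaternion.re_sub,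
    Quaternion.imI_sub, Quaternion.imJ_sub, Quaternion.imK_sub] <;> push_cast <;> ring

theorem toH_neg (X : MQ) : toH (neg X) = -toH X := by
  ext <;> simp only [toH_re, toH_imI, toH_imJ, toH_imK, neg, Quaternion.re_neg,
    Quaternion.imI_neg, Quaternion.imJ_neg, Quaternion.imK_neg] <;> push_cast <;> ring

theorem toH_conj (X : MQ) : toH (conj X) = star (toH X) := by
  ext <;> simp only [toH_re, toH_imI, toH_imJ, toH_imK, conj, Quaternion.re_star,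
    Quaternion.imI_star, Quaternion.imJ_star, Quaternion.imK_star] <;> push_cast <;> ring

theorem toH_smulInt (n : ℤ) (X : MQ) : toH (smulInt n X) = (n : ℝ) • toH X := by
  ext <;> simp only [toH_re, toH_imI, toH_imJ, toH_imK, smulInt, Quaternion.re_smul,
    Quaternion.imI_smul, Quaternion.imJ_smul, Quaternion.imK_smul, smul_eq_mul] <;>
    push_cast <;> ring

theorem toH_raw (X Y : MQ) : toH (raw X Y) = (4 : ℝ) • (toH X * toH Y) := by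
  have h5 := sqrt5_mul_self
  ext
  · simp only [toH_re, toH_imI, toH_imJ, toH_imK, raw, Quaternion.re_smul, Quaternion.re_mul, smul_eq_mul]
    push_cast
    linear_combination (-(X.b0 * Y.b0 - X.b1 * Y.b1 - X.b2 * Y.b2 - X.b3 * Y.b3 : ℝ) / 4) * h5
  · simp only [toH_re, toH_imI, toH_imJ, toH_imK, raw, Quaternion.imI_smul, Quaternion.imI_mul, smul_eq_mul]
    push_cast
    linear_combination (-(X.b0 * Y.b1 + X.b1 * Y.b0 + X.b2 * Y.b3 - X.b3 * Y.b2 : ℝ) / 4) * h5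
  · simp only [toH_re, toH_imI, toH_imJ, toH_imK, raw, Quaternion.imJ_smul, Quaternion.imJ_mul, smul_eq_mul]
    push_cast
    linear_combination (-(X.b0 * Y.b2 - X.b1 * Y.b3 + X.b2 * Y.b0 + X.b3 * Y.b1 : ℝ) / 4) * h5
  · simp only [toH_re, toH_imI, toH_imJ, toH_imK, raw, Quaternion.imK_smul, Quaternion.imK_mul, smul_eq_mul]
    push_cast
    linear_combination (-(X.b0 * Y.b3 + X.b1 * Y.b2 - X.b2 * Y.b1 + X.b3 * Y.b0 : ℝ) / 4) * h5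

theorem eq_of_sqrt5 {a b c d : ℤ} (h : (a : ℝ) + b * Real.sqrt 5 = c + d * Real.sqrt 5) :
    a = c ∧ b = d := by
  have hirr : Irrational (Real.sqrt 5) := by
    have := Nat.Prime.irrational_sqrt (p := 5) (by norm_num)
    simpa using this
  by_cases hbd : b = d
  · subst hbd
    refine ⟨?_, rfl⟩
    have : (a : ℝ) = c := by linarith
    exact_mod_cast this
  · exfalso
    have hne : ((b - d : ℤ) : ℝ) ≠ 0 := by
      exact_mod_cast sub_ne_zero.mpr hbd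
    have h2 : Real.sqrt 5 = ((c - a : ℤ) : ℝ) / ((b - d : ℤ) : ℝ) := by
      rw [eq_div_iff hne]
      push_cast
      linarith
    rw [h2] at hirr
    exact hirr ⟨((c - a : ℤ) : ℚ) / ((b - d : ℤ) : ℚ), by push_cast; rfl⟩

theorem toH_injective : Function.Injective toH := by
  intro X Y h
  have h0 := congrArg (fun q : ℍ[ℝ] => q.re) h
  have h1 := congrArg (fun q : ℍ[ℝ] => q.imI) h
  have h2 := congrArg (fun q : ℍ[ℝ] => q.imJ) h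
  have h3 := congrArg (fun q : ℍ[ℝ] => q.imK) h
  simp only [toH_re, toH_imI, toH_imJ, toH_imK] at h0 h1 h2 h3
  obtain ⟨e0, f0⟩ := eq_of_sqrt5 (a := X.a0) (b := X.b0) (c := Y.a0) (d := Y.b0) (by linarith)
  obtain ⟨e1, f1⟩ := eq_of_sqrt5 (a := X.a1) (b := X.b1) (c := Y.a1) (d := Y.b1) (by linarith)
  obtain ⟨e2, f2⟩ := eq_of_sqrt5 (a := X.a2) (b := X.b2) (c := Y.a2) (d := Y.b2) (by linarith)
  obtain ⟨e3, f3⟩ := eq_of_sqrt5 (a := X.a3) (b := X.b3) (c := Y.a3) (d := Y.b3) (by linarith)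
  ext <;> assumption

/-- if the unscaled product is `4 Z` then `Z` is the model of the product -/
theorem toH_mul_of_raw {X Y Z : MQ} (h : raw X Y = smulInt 4 Z) : toH X * toH Y = toH Z := by
  have h1 := toH_raw X Y
  rw [h, toH_smulInt] at h1
  have h2 : ((4 : ℤ) : ℝ) • toH Z = (4 : ℝ) • toH Z := by norm_num
  rw [h2] at h1
  have h4 : (4 : ℝ) ≠ 0 := by norm_num
  exact (smul_right_injective _ h4 h1).symm

end MQ

end Cfsg.Agent.Lib.Helper4.J2
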