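import Cfsg.Agent.Lib.Helper4.J2.E2

set_option autoImplicit false

/-! # The icosians of weights 16, 24, 32 with their classes modulo the two ideals -/

namespace Cfsg.Agent.Lib.Helper4.J2

namespace MQ

/-- the icosians of weight 16, annotated -/
def A16lit : List AQ := [
  ⟨⟨0, 0, 0, 0, 0, 0, -4, 0⟩, (0, 1, 1, 1), (1, 0, 0, 1), 0⟩,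
  ⟨⟨0, 0, 0, 0, 0, 0, 4, 0⟩, (0, 1, 1, 1), (1, 0, 0, 1), 0⟩,
  ⟨⟨0, 0, 0, 0, -4, 0, 0, 0⟩, (0, 1, 1, 1), (0, 0, 0, 1), 0⟩,
  ⟨⟨0, 0, 0, 0, 4, 0, 0, 0⟩, (0, 1, 1, 1), (0, 0, 0, 1), 0⟩,
  ⟨⟨0, 0, -2, 0, -1, 1, -1, -1⟩, (1, 0, 1, 1), (1, 1, 1, 1), 0⟩,
  ⟨⟨0, 0, -2, 0, -1, 1, 1, 1⟩, (1, 0, 1, 0), (1, 0, 1, 1), 0⟩,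
  ⟨⟨0, 0, -2, 0, 1, -1, -1, -1⟩, (1, 1, 0, 1), (1, 1, 0, 0), 0⟩,
  ⟨⟨0, 0, -2, 0, 1, -1, 1, 1⟩, (1, 1, 0, 0), (1, 0, 0, 0), 0⟩,
  ⟨⟨0, 0, 2, 0, -1, 1, -1, -1⟩, (1, 1, 0, 0), (1, 0, 0, 0), 0⟩,
  ⟨⟨0, 0, 2, 0, -1, 1, 1, 1⟩, (1, 1, 0, 1), (1, 1, 0, 0), 0⟩,
  ⟨⟨0, 0, 2, 0, 1, -1, -1, -1⟩, (1, 0, 1, 0), (1, 0, 1, 1), 0⟩,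
  ⟨⟨0, 0, 2, 0, 1, -1, 1, 1⟩, (1, 0, 1, 1), (1, 1, 1, 1), 0⟩,
  ⟨⟨0, 0, -1, -1, -2, 0, -1, 1⟩, (1, 1, 1, 1), (1, 1, 1, 1), 0⟩,
  ⟨⟨0, 0, -1, -1, -2, 0, 1, -1⟩, (1, 0, 0, 1), (0, 0, 1, 0), 0⟩,
  ⟨⟨0, 0, -1, -1, 2, 0, -1, 1⟩, (1, 0, 0, 0), (1, 1, 1, 0), 0⟩,
  ⟨⟨0, 0, -1, -1, 2, 0, 1, -1⟩, (1, 1, 1, 0), (0, 0, 1, 1), 0⟩,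
  ⟨⟨0, 0, -1, 1, -1, -1, -2, 0⟩, (0, 0, 1, 1), (1, 1, 1, 1), 0⟩,
  ⟨⟨0, 0, -1, 1, -1, -1, 2, 0⟩, (0, 1, 0, 0), (0, 1, 1, 0), 0⟩,
  ⟨⟨0, 0, -1, 1, 1, 1, -2, 0⟩, (0, 0, 1, 0), (1, 1, 0, 1), 0⟩,
  ⟨⟨0, 0, -1, 1, 1, 1, 2, 0⟩, (0, 1, 0, 1), (0, 1, 0, 0), 0⟩,
  ⟨⟨0, 0, 1, -1, -1, -1, -2, 0⟩, (0, 1, 0, 1), (0, 1, 0, 0), 0⟩,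
  ⟨⟨0, 0, 1, -1, -1, -1, 2, 0⟩, (0, 0, 1, 0), (1, 1, 0, 1), 0⟩,
  ⟨⟨0, 0, 1, -1, 1, 1, -2, 0⟩, (0, 1, 0, 0), (0, 1, 1, 0), 0⟩,
  ⟨⟨0, 0, 1, -1, 1, 1, 2, 0⟩, (0, 0, 1, 1), (1, 1, 1, 1), 0⟩,
  ⟨⟨0, 0, 1, 1, -2, 0, -1, 1⟩, (1, 1, 1, 0), (0, 0, 1, 1), 0⟩,
  ⟨⟨0, 0, 1, 1, -2, 0, 1, -1⟩, (1, 0, 0, 0), (1, 1, 1, 0), 0⟩,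
  ⟨⟨0, 0, 1, 1, 2, 0, -1, 1⟩, (1, 0, 0, 1), (0, 0, 1, 0), 0⟩,
  ⟨⟨0, 0, 1, 1, 2, 0, 1, -1⟩, (1, 1, 1, 1), (1, 1, 1, 1), 0⟩,
  ⟨⟨0, 0, -4, 0, 0, 0, 0, 0⟩, (0, 1, 1, 1), (0, 1, 1, 1), 0⟩,
  ⟨⟨0, 0, 4, 0, 0, 0, 0, 0⟩, (0, 1, 1, 1), (0, 1, 1, 1), 0⟩,
  ⟨⟨-2, 0, 0, 0, -1, -1, -1, 1⟩, (1, 0, 1, 0), (1, 0, 1, 0), 0⟩,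
  ⟨⟨-2, 0, 0, 0, -1, -1, 1, -1⟩, (1, 1, 0, 0), (0, 1, 1, 1), 0⟩,
  ⟨⟨-2, 0, 0, 0, 1, 1, -1, 1⟩, (1, 0, 1, 1), (1, 0, 0, 0), 0⟩,
  ⟨⟨-2, 0, 0, 0, 1, 1, 1, -1⟩, (1, 1, 0, 1), (0, 1, 0, 1), 0⟩,
  ⟨⟨-2, 0, -2, 0, -2, 0, -2, 0⟩, (0, 0, 0, 1), (0, 1, 0, 1), 0⟩,
  ⟨⟨-2, 0, -2, 0, -2, 0, 2, 0⟩, (0, 1, 1, 0), (1, 1, 0, 0), 0⟩,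
  ⟨⟨-2, 0, -2, 0, 2, 0, -2, 0⟩, (0, 1, 1, 0), (0, 1, 0, 0), 0⟩,
  ⟨⟨-2, 0, -2, 0, 2, 0, 2, 0⟩, (0, 0, 0, 1), (1, 1, 0, 1), 0⟩,
  ⟨⟨-2, 0, 2, 0, -2, 0, -2, 0⟩, (0, 1, 1, 0), (0, 0, 1, 0), 0⟩,
  ⟨⟨-2, 0, 2, 0, -2, 0, 2, 0⟩, (0, 0, 0, 1), (1, 0, 1, 1), 0⟩,
  ⟨⟨-2, 0, 2, 0, 2, 0, -2, 0⟩, (0, 0, 0, 1), (0, 0, 1, 1), 0⟩,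
  ⟨⟨-2, 0, 2, 0, 2, 0, 2, 0⟩, (0, 1, 1, 0), (1, 0, 1, 0), 0⟩,
  ⟨⟨-2, 0, -1, -1, -1, 1, 0, 0⟩, (0, 0, 1, 0), (1, 0, 1, 0), 0⟩,
  ⟨⟨-2, 0, -1, -1, 1, -1, 0, 0⟩, (0, 1, 0, 0), (1, 0, 0, 1), 0⟩,
  ⟨⟨-2, 0, -1, 1, 0, 0, -1, -1⟩, (1, 1, 1, 0), (1, 0, 1, 0), 0⟩,
  ⟨⟨-2, 0, -1, 1, 0, 0, 1, 1⟩, (1, 1, 1, 1), (1, 1, 1, 0), 0⟩,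
  ⟨⟨-2, 0, 1, -1, 0, 0, -1, -1⟩, (1, 0, 0, 0), (0, 0, 0, 1), 0⟩,
  ⟨⟨-2, 0, 1, -1, 0, 0, 1, 1⟩, (1, 0, 0, 1), (0, 1, 0, 1), 0⟩,
  ⟨⟨-2, 0, 1, 1, -1, 1, 0, 0⟩, (0, 0, 1, 1), (0, 1, 1, 0), 0⟩,
  ⟨⟨-2, 0, 1, 1, 1, -1, 0, 0⟩, (0, 1, 0, 1), (0, 1, 0, 1), 0⟩,
  ⟨⟨2, 0, 0, 0, -1, -1, -1, 1⟩, (1, 1, 0, 1), (0, 1, 0, 1), 0⟩,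
  ⟨⟨2, 0, 0, 0, -1, -1, 1, -1⟩, (1, 0, 1, 1), (1, 0, 0, 0), 0⟩,
  ⟨⟨2, 0, 0, 0, 1, 1, -1, 1⟩, (1, 1, 0, 0), (0, 1, 1, 1), 0⟩,
  ⟨⟨2, 0, 0, 0, 1, 1, 1, -1⟩, (1, 0, 1, 0), (1, 0, 1, 0), 0⟩,
  ⟨⟨2, 0, -2, 0, -2, 0, -2, 0⟩, (0, 1, 1, 0), (1, 0, 1, 0), 0⟩,
  ⟨⟨2, 0, -2, 0, -2, 0, 2, 0⟩, (0, 0, 0, 1), (0, 0, 1, 1), 0⟩,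
  ⟨⟨2, 0, -2, 0, 2, 0, -2, 0⟩, (0, 0, 0, 1), (1, 0, 1, 1), 0⟩,
  ⟨⟨2, 0, -2, 0, 2, 0, 2, 0⟩, (0, 1, 1, 0), (0, 0, 1, 0), 0⟩,
  ⟨⟨2, 0, 2, 0, -2, 0, -2, 0⟩, (0, 0, 0, 1), (1, 1, 0, 1), 0⟩,
  ⟨⟨2, 0, 2, 0, -2, 0, 2, 0⟩, (0, 1, 1, 0), (0, 1, 0, 0), 0⟩,
  ⟨⟨2, 0, 2, 0, 2, 0, -2, 0⟩, (0, 1, 1, 0), (1, 1, 0, 0), 0⟩,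
  ⟨⟨2, 0, 2, 0, 2, 0, 2, 0⟩, (0, 0, 0, 1), (0, 1, 0, 1), 0⟩,
  ⟨⟨2, 0, -1, -1, -1, 1, 0, 0⟩, (0, 1, 0, 1), (0, 1, 0, 1), 0⟩,
  ⟨⟨2, 0, -1, -1, 1, -1, 0, 0⟩, (0, 0, 1, 1), (0, 1, 1, 0), 0⟩,
  ⟨⟨2, 0, -1, 1, 0, 0, -1, -1⟩, (1, 0, 0, 1), (0, 1, 0, 1), 0⟩,
  ⟨⟨2, 0, -1, 1, 0, 0, 1, 1⟩, (1, 0, 0, 0), (0, 0, 0, 1), 0⟩,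
  ⟨⟨2, 0, 1, -1, 0, 0, -1, -1⟩, (1, 1, 1, 1), (1, 1, 1, 0), 0⟩,
  ⟨⟨2, 0, 1, -1, 0, 0, 1, 1⟩, (1, 1, 1, 0), (1, 0, 1, 0), 0⟩,
  ⟨⟨2, 0, 1, 1, -1, 1, 0, 0⟩, (0, 1, 0, 0), (1, 0, 0, 1), 0⟩,
  ⟨⟨2, 0, 1, 1, 1, -1, 0, 0⟩, (0, 0, 1, 0), (1, 0, 1, 0), 0⟩,
  ⟨⟨-1, -1, 0, 0, -1, 1, -2, 0⟩, (1, 0, 0, 1), (1, 1, 1, 0), 0⟩,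
  ⟨⟨-1, -1, 0, 0, -1, 1, 2, 0⟩, (1, 1, 1, 0), (0, 1, 1, 1), 0⟩,
  ⟨⟨-1, -1, 0, 0, 1, -1, -2, 0⟩, (1, 1, 1, 1), (1, 1, 0, 1), 0⟩,
  ⟨⟨-1, -1, 0, 0, 1, -1, 2, 0⟩, (1, 0, 0, 0), (0, 1, 0, 0), 0⟩,
  ⟨⟨-1, -1, -2, 0, 0, 0, -1, 1⟩, (0, 1, 0, 1), (0, 1, 1, 0), 0⟩,
  ⟨⟨-1, -1, -2, 0, 0, 0, 1, -1⟩, (0, 0, 1, 1), (1, 0, 1, 1), 0⟩,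
  ⟨⟨-1, -1, 2, 0, 0, 0, -1, 1⟩, (0, 0, 1, 0), (0, 0, 0, 1), 0⟩,
  ⟨⟨-1, -1, 2, 0, 0, 0, 1, -1⟩, (0, 1, 0, 0), (1, 1, 0, 0), 0⟩,
  ⟨⟨-1, -1, -1, 1, -2, 0, 0, 0⟩, (1, 1, 0, 1), (1, 0, 0, 0), 0⟩,
  ⟨⟨-1, -1, -1, 1, 2, 0, 0, 0⟩, (1, 0, 1, 0), (1, 0, 0, 1), 0⟩,
  ⟨⟨-1, -1, 1, -1, -2, 0, 0, 0⟩, (1, 0, 1, 1), (0, 0, 1, 1), 0⟩,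
  ⟨⟨-1, -1, 1, -1, 2, 0, 0, 0⟩, (1, 1, 0, 0), (0, 0, 1, 0), 0⟩,
  ⟨⟨-1, 1, 0, 0, -2, 0, -1, -1⟩, (0, 1, 0, 0), (0, 0, 1, 1), 0⟩,
  ⟨⟨-1, 1, 0, 0, -2, 0, 1, 1⟩, (0, 1, 0, 1), (0, 1, 1, 1), 0⟩,
  ⟨⟨-1, 1, 0, 0, 2, 0, -1, -1⟩, (0, 0, 1, 1), (0, 0, 1, 0), 0⟩,
  ⟨⟨-1, 1, 0, 0, 2, 0, 1, 1⟩, (0, 0, 1, 0), (0, 1, 1, 0), 0⟩,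
  ⟨⟨-1, 1, -2, 0, -1, -1, 0, 0⟩, (1, 0, 0, 0), (1, 0, 1, 1), 0⟩,
  ⟨⟨-1, 1, -2, 0, 1, 1, 0, 0⟩, (1, 0, 0, 1), (1, 0, 0, 1), 0⟩,
  ⟨⟨-1, 1, 2, 0, -1, -1, 0, 0⟩, (1, 1, 1, 1), (1, 1, 0, 0), 0⟩,
  ⟨⟨-1, 1, 2, 0, 1, 1, 0, 0⟩, (1, 1, 1, 0), (1, 1, 1, 0), 0⟩,
  ⟨⟨-1, 1, -1, -1, 0, 0, -2, 0⟩, (1, 1, 0, 0), (1, 1, 0, 1), 0⟩,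
  ⟨⟨-1, 1, -1, -1, 0, 0, 2, 0⟩, (1, 0, 1, 1), (0, 1, 0, 0), 0⟩,
  ⟨⟨-1, 1, 1, 1, 0, 0, -2, 0⟩, (1, 1, 0, 1), (0, 0, 0, 1), 0⟩,
  ⟨⟨-1, 1, 1, 1, 0, 0, 2, 0⟩, (1, 0, 1, 0), (1, 0, 0, 0), 0⟩,
  ⟨⟨1, -1, 0, 0, -2, 0, -1, -1⟩, (0, 0, 1, 0), (0, 1, 1, 0), 0⟩,
  ⟨⟨1, -1, 0, 0, -2, 0, 1, 1⟩, (0, 0, 1, 1), (0, 0, 1, 0), 0⟩,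
  ⟨⟨1, -1, 0, 0, 2, 0, -1, -1⟩, (0, 1, 0, 1), (0, 1, 1, 1), 0⟩,
  ⟨⟨1, -1, 0, 0, 2, 0, 1, 1⟩, (0, 1, 0, 0), (0, 0, 1, 1), 0⟩,
  ⟨⟨1, -1, -2, 0, -1, -1, 0, 0⟩, (1, 1, 1, 0), (1, 1, 1, 0), 0⟩,
  ⟨⟨1, -1, -2, 0, 1, 1, 0, 0⟩, (1, 1, 1, 1), (1, 1, 0, 0), 0⟩,
  ⟨⟨1, -1, 2, 0, -1, -1, 0, 0⟩, (1, 0, 0, 1), (1, 0, 0, 1), 0⟩,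
  ⟨⟨1, -1, 2, 0, 1, 1, 0, 0⟩, (1, 0, 0, 0), (1, 0, 1, 1), 0⟩,
  ⟨⟨1, -1, -1, -1, 0, 0, -2, 0⟩, (1, 0, 1, 0), (1, 0, 0, 0), 0⟩,
  ⟨⟨1, -1, -1, -1, 0, 0, 2, 0⟩, (1, 1, 0, 1), (0, 0, 0, 1), 0⟩,
  ⟨⟨1, -1, 1, 1, 0, 0, -2, 0⟩, (1, 0, 1, 1), (0, 1, 0, 0), 0⟩,
  ⟨⟨1, -1, 1, 1, 0, 0, 2, 0⟩, (1, 1, 0, 0), (1, 1, 0, 1), 0⟩,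
  ⟨⟨1, 1, 0, 0, -1, 1, -2, 0⟩, (1, 0, 0, 0), (0, 1, 0, 0), 0⟩,
  ⟨⟨1, 1, 0, 0, -1, 1, 2, 0⟩, (1, 1, 1, 1), (1, 1, 0, 1), 0⟩,
  ⟨⟨1, 1, 0, 0, 1, -1, -2, 0⟩, (1, 1, 1, 0), (0, 1, 1, 1), 0⟩,
  ⟨⟨1, 1, 0, 0, 1, -1, 2, 0⟩, (1, 0, 0, 1), (1, 1, 1, 0), 0⟩,
  ⟨⟨1, 1, -2, 0, 0, 0, -1, 1⟩, (0, 1, 0, 0), (1, 1, 0, 0), 0⟩,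
  ⟨⟨1, 1, -2, 0, 0, 0, 1, -1⟩, (0, 0, 1, 0), (0, 0, 0, 1), 0⟩,
  ⟨⟨1, 1, 2, 0, 0, 0, -1, 1⟩, (0, 0, 1, 1), (1, 0, 1, 1), 0⟩,
  ⟨⟨1, 1, 2, 0, 0, 0, 1, -1⟩, (0, 1, 0, 1), (0, 1, 1, 0), 0⟩,
  ⟨⟨1, 1, -1, 1, -2, 0, 0, 0⟩, (1, 1, 0, 0), (0, 0, 1, 0), 0⟩,
  ⟨⟨1, 1, -1, 1, 2, 0, 0, 0⟩, (1, 0, 1, 1), (0, 0, 1, 1), 0⟩,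
  ⟨⟨1, 1, 1, -1, -2, 0, 0, 0⟩, (1, 0, 1, 0), (1, 0, 0, 1), 0⟩,
  ⟨⟨1, 1, 1, -1, 2, 0, 0, 0⟩, (1, 1, 0, 1), (1, 0, 0, 0), 0⟩,
  ⟨⟨-4, 0, 0, 0, 0, 0, 0, 0⟩, (0, 1, 1, 1), (1, 1, 1, 1), 0⟩,
  ⟨⟨4, 0, 0, 0, 0, 0, 0, 0⟩, (0, 1, 1, 1), (1, 1, 1, 1), 0⟩
]

/-- the icosians of weight 24, annotated -/
def A24lit : List AQ := [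
  ⟨⟨0, 0, 0, 0, 0, 0, -2, -2⟩, (0, 0, 0, 1), (0, 1, 0, 0), 8⟩,
  ⟨⟨0, 0, 0, 0, 0, 0, -2, 2⟩, (0, 1, 1, 0), (1, 1, 0, 1), -8⟩,
  ⟨⟨0, 0, 0, 0, 0, 0, 2, -2⟩, (0, 1, 1, 0), (1, 1, 0, 1), -8⟩,
  ⟨⟨0, 0, 0, 0, 0, 0, 2, 2⟩, (0, 0, 0, 1), (0, 1, 0, 0), 8⟩,
  ⟨⟨0, 0, 0, 0, -2, -2, 0, 0⟩, (0, 0, 0, 1), (0, 0, 1, 0), 8⟩,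
  ⟨⟨0, 0, 0, 0, -2, 2, 0, 0⟩, (0, 1, 1, 0), (0, 0, 1, 1), -8⟩,
  ⟨⟨0, 0, 0, 0, 2, -2, 0, 0⟩, (0, 1, 1, 0), (0, 0, 1, 1), -8⟩,
  ⟨⟨0, 0, 0, 0, 2, 2, 0, 0⟩, (0, 0, 0, 1), (0, 0, 1, 0), 8⟩,
  ⟨⟨0, 0, -2, 0, -1, 1, -3, 1⟩, (1, 1, 0, 1), (0, 0, 1, 0), -8⟩,
  ⟨⟨0, 0, -2, 0, -1, 1, 3, -1⟩, (1, 1, 0, 0), (0, 1, 1, 0), -8⟩,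
  ⟨⟨0, 0, -2, 0, 1, -1, -3, 1⟩, (1, 0, 1, 1), (0, 0, 0, 1), -8⟩,
  ⟨⟨0, 0, -2, 0, 1, -1, 3, -1⟩, (1, 0, 1, 0), (0, 1, 0, 1), -8⟩,
  ⟨⟨0, 0, -2, 0, -3, -1, -1, -1⟩, (1, 0, 1, 0), (1, 1, 0, 1), 8⟩,
  ⟨⟨0, 0, -2, 0, -3, -1, 1, 1⟩, (1, 0, 1, 1), (1, 0, 0, 1), 8⟩,
  ⟨⟨0, 0, -2, 0, 3, 1, -1, -1⟩, (1, 1, 0, 0), (1, 1, 1, 0), 8⟩,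
  ⟨⟨0, 0, -2, 0, 3, 1, 1, 1⟩, (1, 1, 0, 1), (1, 0, 1, 0), 8⟩,
  ⟨⟨0, 0, 2, 0, -1, 1, -3, 1⟩, (1, 0, 1, 0), (0, 1, 0, 1), -8⟩,
  ⟨⟨0, 0, 2, 0, -1, 1, 3, -1⟩, (1, 0, 1, 1), (0, 0, 0, 1), -8⟩,
  ⟨⟨0, 0, 2, 0, 1, -1, -3, 1⟩, (1, 1, 0, 0), (0, 1, 1, 0), -8⟩,
  ⟨⟨0, 0, 2, 0, 1, -1, 3, -1⟩, (1, 1, 0, 1), (0, 0, 1, 0), -8⟩,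
  ⟨⟨0, 0, 2, 0, -3, -1, -1, -1⟩, (1, 1, 0, 1), (1, 0, 1, 0), 8⟩,
  ⟨⟨0, 0, 2, 0, -3, -1, 1, 1⟩, (1, 1, 0, 0), (1, 1, 1, 0), 8⟩,
  ⟨⟨0, 0, 2, 0, 3, 1, -1, -1⟩, (1, 0, 1, 1), (1, 0, 0, 1), 8⟩,
  ⟨⟨0, 0, 2, 0, 3, 1, 1, 1⟩, (1, 0, 1, 0), (1, 1, 0, 1), 8⟩,
  ⟨⟨0, 0, -1, -1, -2, 0, -3, -1⟩, (1, 1, 1, 0), (1, 0, 1, 1), 8⟩,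
  ⟨⟨0, 0, -1, -1, -2, 0, 3, 1⟩, (1, 0, 0, 0), (0, 1, 1, 0), 8⟩,
  ⟨⟨0, 0, -1, -1, 2, 0, -3, -1⟩, (1, 0, 0, 1), (1, 0, 1, 0), 8⟩,
  ⟨⟨0, 0, -1, -1, 2, 0, 3, 1⟩, (1, 1, 1, 1), (0, 1, 1, 1), 8⟩,
  ⟨⟨0, 0, -1, 1, -3, 1, -2, 0⟩, (0, 1, 0, 1), (1, 1, 0, 0), -8⟩,
  ⟨⟨0, 0, -1, 1, -3, 1, 2, 0⟩, (0, 0, 1, 0), (0, 1, 0, 1), -8⟩,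
  ⟨⟨0, 0, -1, 1, 3, -1, -2, 0⟩, (0, 1, 0, 0), (1, 1, 1, 0), -8⟩,
  ⟨⟨0, 0, -1, 1, 3, -1, 2, 0⟩, (0, 0, 1, 1), (0, 1, 1, 1), -8⟩,
  ⟨⟨0, 0, 1, -1, -3, 1, -2, 0⟩, (0, 0, 1, 1), (0, 1, 1, 1), -8⟩,
  ⟨⟨0, 0, 1, -1, -3, 1, 2, 0⟩, (0, 1, 0, 0), (1, 1, 1, 0), -8⟩,
  ⟨⟨0, 0, 1, -1, 3, -1, -2, 0⟩, (0, 0, 1, 0), (0, 1, 0, 1), -8⟩,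
  ⟨⟨0, 0, 1, -1, 3, -1, 2, 0⟩, (0, 1, 0, 1), (1, 1, 0, 0), -8⟩,
  ⟨⟨0, 0, 1, 1, -2, 0, -3, -1⟩, (1, 1, 1, 1), (0, 1, 1, 1), 8⟩,
  ⟨⟨0, 0, 1, 1, -2, 0, 3, 1⟩, (1, 0, 0, 1), (1, 0, 1, 0), 8⟩,
  ⟨⟨0, 0, 1, 1, 2, 0, -3, -1⟩, (1, 0, 0, 0), (0, 1, 1, 0), 8⟩,
  ⟨⟨0, 0, 1, 1, 2, 0, 3, 1⟩, (1, 1, 1, 0), (1, 0, 1, 1), 8⟩,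
  ⟨⟨0, 0, -3, -1, -1, -1, -2, 0⟩, (0, 0, 1, 0), (0, 0, 1, 1), 8⟩,
  ⟨⟨0, 0, -3, -1, -1, -1, 2, 0⟩, (0, 1, 0, 1), (1, 0, 1, 0), 8⟩,
  ⟨⟨0, 0, -3, -1, 1, 1, -2, 0⟩, (0, 0, 1, 1), (0, 0, 0, 1), 8⟩,
  ⟨⟨0, 0, -3, -1, 1, 1, 2, 0⟩, (0, 1, 0, 0), (1, 0, 0, 0), 8⟩,
  ⟨⟨0, 0, -3, 1, -2, 0, -1, 1⟩, (1, 0, 0, 1), (0, 1, 0, 0), -8⟩,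
  ⟨⟨0, 0, -3, 1, -2, 0, 1, -1⟩, (1, 1, 1, 1), (1, 0, 0, 1), -8⟩,
  ⟨⟨0, 0, -3, 1, 2, 0, -1, 1⟩, (1, 1, 1, 0), (0, 1, 0, 1), -8⟩,
  ⟨⟨0, 0, -3, 1, 2, 0, 1, -1⟩, (1, 0, 0, 0), (1, 0, 0, 0), -8⟩,
  ⟨⟨0, 0, 3, -1, -2, 0, -1, 1⟩, (1, 0, 0, 0), (1, 0, 0, 0), -8⟩,
  ⟨⟨0, 0, 3, -1, -2, 0, 1, -1⟩, (1, 1, 1, 0), (0, 1, 0, 1), -8⟩,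
  ⟨⟨0, 0, 3, -1, 2, 0, -1, 1⟩, (1, 1, 1, 1), (1, 0, 0, 1), -8⟩,
  ⟨⟨0, 0, 3, -1, 2, 0, 1, -1⟩, (1, 0, 0, 1), (0, 1, 0, 0), -8⟩,
  ⟨⟨0, 0, 3, 1, -1, -1, -2, 0⟩, (0, 1, 0, 0), (1, 0, 0, 0), 8⟩,
  ⟨⟨0, 0, 3, 1, -1, -1, 2, 0⟩, (0, 0, 1, 1), (0, 0, 0, 1), 8⟩,
  ⟨⟨0, 0, 3, 1, 1, 1, -2, 0⟩, (0, 1, 0, 1), (1, 0, 1, 0), 8⟩,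
  ⟨⟨0, 0, 3, 1, 1, 1, 2, 0⟩, (0, 0, 1, 0), (0, 0, 1, 1), 8⟩,
  ⟨⟨0, 0, -2, -2, 0, 0, 0, 0⟩, (0, 0, 0, 1), (1, 1, 0, 0), 8⟩,
  ⟨⟨0, 0, -2, 2, 0, 0, 0, 0⟩, (0, 1, 1, 0), (1, 0, 1, 1), -8⟩,
  ⟨⟨0, 0, 2, -2, 0, 0, 0, 0⟩, (0, 1, 1, 0), (1, 0, 1, 1), -8⟩,
  ⟨⟨0, 0, 2, 2, 0, 0, 0, 0⟩, (0, 0, 0, 1), (1, 1, 0, 0), 8⟩,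
  ⟨⟨-2, 0, 0, 0, -1, -1, -3, -1⟩, (1, 0, 1, 1), (1, 1, 1, 0), 8⟩,
  ⟨⟨-2, 0, 0, 0, -1, -1, 3, 1⟩, (1, 1, 0, 1), (0, 0, 1, 1), 8⟩,
  ⟨⟨-2, 0, 0, 0, 1, 1, -3, -1⟩, (1, 0, 1, 0), (1, 1, 0, 0), 8⟩,
  ⟨⟨-2, 0, 0, 0, 1, 1, 3, 1⟩, (1, 1, 0, 0), (0, 0, 0, 1), 8⟩,
  ⟨⟨-2, 0, 0, 0, -3, 1, -1, 1⟩, (1, 1, 0, 0), (1, 0, 0, 1), -8⟩,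
  ⟨⟨-2, 0, 0, 0, -3, 1, 1, -1⟩, (1, 0, 1, 0), (0, 1, 0, 0), -8⟩,
  ⟨⟨-2, 0, 0, 0, 3, -1, -1, 1⟩, (1, 1, 0, 1), (1, 0, 1, 1), -8⟩,
  ⟨⟨-2, 0, 0, 0, 3, -1, 1, -1⟩, (1, 0, 1, 1), (0, 1, 1, 0), -8⟩,
  ⟨⟨-2, 0, -1, -1, -3, -1, 0, 0⟩, (0, 0, 1, 1), (1, 0, 0, 0), 8⟩,
  ⟨⟨-2, 0, -1, -1, 3, 1, 0, 0⟩, (0, 1, 0, 1), (1, 0, 1, 1), 8⟩,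
  ⟨⟨-2, 0, -1, 1, 0, 0, -3, 1⟩, (1, 0, 0, 0), (0, 1, 1, 1), -8⟩,
  ⟨⟨-2, 0, -1, 1, 0, 0, 3, -1⟩, (1, 0, 0, 1), (0, 0, 1, 1), -8⟩,
  ⟨⟨-2, 0, 1, -1, 0, 0, -3, 1⟩, (1, 1, 1, 0), (1, 1, 0, 0), -8⟩,
  ⟨⟨-2, 0, 1, -1, 0, 0, 3, -1⟩, (1, 1, 1, 1), (1, 0, 0, 0), -8⟩,
  ⟨⟨-2, 0, 1, 1, -3, -1, 0, 0⟩, (0, 0, 1, 0), (0, 1, 0, 0), 8⟩,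
  ⟨⟨-2, 0, 1, 1, 3, 1, 0, 0⟩, (0, 1, 0, 0), (0, 1, 1, 1), 8⟩,
  ⟨⟨-2, 0, -3, -1, 0, 0, -1, -1⟩, (1, 1, 1, 1), (0, 1, 1, 0), 8⟩,
  ⟨⟨-2, 0, -3, -1, 0, 0, 1, 1⟩, (1, 1, 1, 0), (0, 0, 1, 0), 8⟩,
  ⟨⟨-2, 0, -3, 1, -1, 1, 0, 0⟩, (0, 1, 0, 0), (0, 0, 0, 1), -8⟩,
  ⟨⟨-2, 0, -3, 1, 1, -1, 0, 0⟩, (0, 0, 1, 0), (0, 0, 1, 0), -8⟩,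
  ⟨⟨-2, 0, 3, -1, -1, 1, 0, 0⟩, (0, 1, 0, 1), (1, 1, 0, 1), -8⟩,
  ⟨⟨-2, 0, 3, -1, 1, -1, 0, 0⟩, (0, 0, 1, 1), (1, 1, 1, 0), -8⟩,
  ⟨⟨-2, 0, 3, 1, 0, 0, -1, -1⟩, (1, 0, 0, 1), (1, 1, 0, 1), 8⟩,
  ⟨⟨-2, 0, 3, 1, 0, 0, 1, 1⟩, (1, 0, 0, 0), (1, 0, 0, 1), 8⟩,
  ⟨⟨2, 0, 0, 0, -1, -1, -3, -1⟩, (1, 1, 0, 0), (0, 0, 0, 1), 8⟩,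
  ⟨⟨2, 0, 0, 0, -1, -1, 3, 1⟩, (1, 0, 1, 0), (1, 1, 0, 0), 8⟩,
  ⟨⟨2, 0, 0, 0, 1, 1, -3, -1⟩, (1, 1, 0, 1), (0, 0, 1, 1), 8⟩,
  ⟨⟨2, 0, 0, 0, 1, 1, 3, 1⟩, (1, 0, 1, 1), (1, 1, 1, 0), 8⟩,
  ⟨⟨2, 0, 0, 0, -3, 1, -1, 1⟩, (1, 0, 1, 1), (0, 1, 1, 0), -8⟩,
  ⟨⟨2, 0, 0, 0, -3, 1, 1, -1⟩, (1, 1, 0, 1), (1, 0, 1, 1), -8⟩,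
  ⟨⟨2, 0, 0, 0, 3, -1, -1, 1⟩, (1, 0, 1, 0), (0, 1, 0, 0), -8⟩,
  ⟨⟨2, 0, 0, 0, 3, -1, 1, -1⟩, (1, 1, 0, 0), (1, 0, 0, 1), -8⟩,
  ⟨⟨2, 0, -1, -1, -3, -1, 0, 0⟩, (0, 1, 0, 0), (0, 1, 1, 1), 8⟩,
  ⟨⟨2, 0, -1, -1, 3, 1, 0, 0⟩, (0, 0, 1, 0), (0, 1, 0, 0), 8⟩,
  ⟨⟨2, 0, -1, 1, 0, 0, -3, 1⟩, (1, 1, 1, 1), (1, 0, 0, 0), -8⟩,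
  ⟨⟨2, 0, -1, 1, 0, 0, 3, -1⟩, (1, 1, 1, 0), (1, 1, 0, 0), -8⟩,
  ⟨⟨2, 0, 1, -1, 0, 0, -3, 1⟩, (1, 0, 0, 1), (0, 0, 1, 1), -8⟩,
  ⟨⟨2, 0, 1, -1, 0, 0, 3, -1⟩, (1, 0, 0, 0), (0, 1, 1, 1), -8⟩,
  ⟨⟨2, 0, 1, 1, -3, -1, 0, 0⟩, (0, 1, 0, 1), (1, 0, 1, 1), 8⟩,
  ⟨⟨2, 0, 1, 1, 3, 1, 0, 0⟩, (0, 0, 1, 1), (1, 0, 0, 0), 8⟩,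
  ⟨⟨2, 0, -3, -1, 0, 0, -1, -1⟩, (1, 0, 0, 0), (1, 0, 0, 1), 8⟩,
  ⟨⟨2, 0, -3, -1, 0, 0, 1, 1⟩, (1, 0, 0, 1), (1, 1, 0, 1), 8⟩,
  ⟨⟨2, 0, -3, 1, -1, 1, 0, 0⟩, (0, 0, 1, 1), (1, 1, 1, 0), -8⟩,
  ⟨⟨2, 0, -3, 1, 1, -1, 0, 0⟩, (0, 1, 0, 1), (1, 1, 0, 1), -8⟩,
  ⟨⟨2, 0, 3, -1, -1, 1, 0, 0⟩, (0, 0, 1, 0), (0, 0, 1, 0), -8⟩,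
  ⟨⟨2, 0, 3, -1, 1, -1, 0, 0⟩, (0, 1, 0, 0), (0, 0, 0, 1), -8⟩,
  ⟨⟨2, 0, 3, 1, 0, 0, -1, -1⟩, (1, 1, 1, 0), (0, 0, 1, 0), 8⟩,
  ⟨⟨2, 0, 3, 1, 0, 0, 1, 1⟩, (1, 1, 1, 1), (0, 1, 1, 0), 8⟩,
  ⟨⟨-1, -1, 0, 0, -3, -1, -2, 0⟩, (1, 0, 0, 0), (1, 1, 0, 0), 8⟩,
  ⟨⟨-1, -1, 0, 0, -3, -1, 2, 0⟩, (1, 1, 1, 1), (0, 1, 0, 1), 8⟩,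
  ⟨⟨-1, -1, 0, 0, 3, 1, -2, 0⟩, (1, 1, 1, 0), (1, 1, 1, 1), 8⟩,
  ⟨⟨-1, -1, 0, 0, 3, 1, 2, 0⟩, (1, 0, 0, 1), (0, 1, 1, 0), 8⟩,
  ⟨⟨-1, -1, -2, 0, 0, 0, -3, -1⟩, (0, 1, 0, 0), (0, 0, 1, 0), 8⟩,
  ⟨⟨-1, -1, -2, 0, 0, 0, 3, 1⟩, (0, 0, 1, 0), (1, 1, 1, 1), 8⟩,
  ⟨⟨-1, -1, 2, 0, 0, 0, -3, -1⟩, (0, 0, 1, 1), (0, 1, 0, 1), 8⟩,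
  ⟨⟨-1, -1, 2, 0, 0, 0, 3, 1⟩, (0, 1, 0, 1), (1, 0, 0, 0), 8⟩,
  ⟨⟨-1, -1, -1, -1, -1, -1, -1, -1⟩, (0, 1, 1, 0), (1, 1, 1, 1), 8⟩,
  ⟨⟨-1, -1, -1, -1, -1, -1, 1, 1⟩, (0, 1, 1, 1), (1, 0, 1, 1), 8⟩,
  ⟨⟨-1, -1, -1, -1, 1, 1, -1, -1⟩, (0, 1, 1, 1), (1, 1, 0, 1), 8⟩,
  ⟨⟨-1, -1, -1, -1, 1, 1, 1, 1⟩, (0, 1, 1, 0), (1, 0, 0, 1), 8⟩,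
  ⟨⟨-1, -1, 1, 1, -1, -1, -1, -1⟩, (0, 1, 1, 1), (0, 0, 1, 1), 8⟩,
  ⟨⟨-1, -1, 1, 1, -1, -1, 1, 1⟩, (0, 1, 1, 0), (0, 1, 1, 1), 8⟩,
  ⟨⟨-1, -1, 1, 1, 1, 1, -1, -1⟩, (0, 1, 1, 0), (0, 0, 0, 1), 8⟩,
  ⟨⟨-1, -1, 1, 1, 1, 1, 1, 1⟩, (0, 1, 1, 1), (0, 1, 0, 1), 8⟩,
  ⟨⟨-1, -1, -3, -1, -2, 0, 0, 0⟩, (1, 1, 0, 0), (0, 1, 0, 0), 8⟩,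
  ⟨⟨-1, -1, -3, -1, 2, 0, 0, 0⟩, (1, 0, 1, 1), (0, 1, 0, 1), 8⟩,
  ⟨⟨-1, -1, 3, 1, -2, 0, 0, 0⟩, (1, 0, 1, 0), (1, 1, 1, 1), 8⟩,
  ⟨⟨-1, -1, 3, 1, 2, 0, 0, 0⟩, (1, 1, 0, 1), (1, 1, 1, 0), 8⟩,
  ⟨⟨-1, 1, 0, 0, -2, 0, -3, 1⟩, (0, 0, 1, 0), (1, 1, 1, 0), -8⟩,
  ⟨⟨-1, 1, 0, 0, -2, 0, 3, -1⟩, (0, 0, 1, 1), (1, 0, 1, 0), -8⟩,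
  ⟨⟨-1, 1, 0, 0, 2, 0, -3, 1⟩, (0, 1, 0, 1), (1, 1, 1, 1), -8⟩,
  ⟨⟨-1, 1, 0, 0, 2, 0, 3, -1⟩, (0, 1, 0, 0), (1, 0, 1, 1), -8⟩,
  ⟨⟨-1, 1, -2, 0, -3, 1, 0, 0⟩, (1, 1, 1, 0), (1, 0, 0, 0), -8⟩,
  ⟨⟨-1, 1, -2, 0, 3, -1, 0, 0⟩, (1, 1, 1, 1), (1, 0, 1, 0), -8⟩,
  ⟨⟨-1, 1, 2, 0, -3, 1, 0, 0⟩, (1, 0, 0, 1), (1, 1, 1, 1), -8⟩,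
  ⟨⟨-1, 1, 2, 0, 3, -1, 0, 0⟩, (1, 0, 0, 0), (1, 1, 0, 1), -8⟩,
  ⟨⟨-1, 1, -1, 1, -1, 1, -1, 1⟩, (0, 1, 1, 1), (1, 0, 1, 0), -8⟩,
  ⟨⟨-1, 1, -1, 1, -1, 1, 1, -1⟩, (0, 0, 0, 1), (0, 1, 1, 1), -8⟩,
  ⟨⟨-1, 1, -1, 1, 1, -1, -1, 1⟩, (0, 0, 0, 1), (1, 0, 0, 1), -8⟩,
  ⟨⟨-1, 1, -1, 1, 1, -1, 1, -1⟩, (0, 1, 1, 1), (0, 1, 0, 0), -8⟩,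
  ⟨⟨-1, 1, 1, -1, -1, 1, -1, 1⟩, (0, 0, 0, 1), (0, 0, 0, 1), -8⟩,
  ⟨⟨-1, 1, 1, -1, -1, 1, 1, -1⟩, (0, 1, 1, 1), (1, 1, 0, 0), -8⟩,
  ⟨⟨-1, 1, 1, -1, 1, -1, -1, 1⟩, (0, 1, 1, 1), (0, 0, 1, 0), -8⟩,
  ⟨⟨-1, 1, 1, -1, 1, -1, 1, -1⟩, (0, 0, 0, 1), (1, 1, 1, 1), -8⟩,
  ⟨⟨-1, 1, -3, 1, 0, 0, -2, 0⟩, (1, 0, 1, 0), (0, 1, 1, 0), -8⟩,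
  ⟨⟨-1, 1, -3, 1, 0, 0, 2, 0⟩, (1, 1, 0, 1), (1, 1, 1, 1), -8⟩,
  ⟨⟨-1, 1, 3, -1, 0, 0, -2, 0⟩, (1, 0, 1, 1), (1, 0, 1, 0), -8⟩,
  ⟨⟨-1, 1, 3, -1, 0, 0, 2, 0⟩, (1, 1, 0, 0), (0, 0, 1, 1), -8⟩,
  ⟨⟨1, -1, 0, 0, -2, 0, -3, 1⟩, (0, 1, 0, 0), (1, 0, 1, 1), -8⟩,
  ⟨⟨1, -1, 0, 0, -2, 0, 3, -1⟩, (0, 1, 0, 1), (1, 1, 1, 1), -8⟩,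
  ⟨⟨1, -1, 0, 0, 2, 0, -3, 1⟩, (0, 0, 1, 1), (1, 0, 1, 0), -8⟩,
  ⟨⟨1, -1, 0, 0, 2, 0, 3, -1⟩, (0, 0, 1, 0), (1, 1, 1, 0), -8⟩,
  ⟨⟨1, -1, -2, 0, -3, 1, 0, 0⟩, (1, 0, 0, 0), (1, 1, 0, 1), -8⟩,
  ⟨⟨1, -1, -2, 0, 3, -1, 0, 0⟩, (1, 0, 0, 1), (1, 1, 1, 1), -8⟩,
  ⟨⟨1, -1, 2, 0, -3, 1, 0, 0⟩, (1, 1, 1, 1), (1, 0, 1, 0), -8⟩,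
  ⟨⟨1, -1, 2, 0, 3, -1, 0, 0⟩, (1, 1, 1, 0), (1, 0, 0, 0), -8⟩,
  ⟨⟨1, -1, -1, 1, -1, 1, -1, 1⟩, (0, 0, 0, 1), (1, 1, 1, 1), -8⟩,
  ⟨⟨1, -1, -1, 1, -1, 1, 1, -1⟩, (0, 1, 1, 1), (0, 0, 1, 0), -8⟩,
  ⟨⟨1, -1, -1, 1, 1, -1, -1, 1⟩, (0, 1, 1, 1), (1, 1, 0, 0), -8⟩,
  ⟨⟨1, -1, -1, 1, 1, -1, 1, -1⟩, (0, 0, 0, 1), (0, 0, 0, 1), -8⟩,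
  ⟨⟨1, -1, 1, -1, -1, 1, -1, 1⟩, (0, 1, 1, 1), (0, 1, 0, 0), -8⟩,
  ⟨⟨1, -1, 1, -1, -1, 1, 1, -1⟩, (0, 0, 0, 1), (1, 0, 0, 1), -8⟩,
  ⟨⟨1, -1, 1, -1, 1, -1, -1, 1⟩, (0, 0, 0, 1), (0, 1, 1, 1), -8⟩,
  ⟨⟨1, -1, 1, -1, 1, -1, 1, -1⟩, (0, 1, 1, 1), (1, 0, 1, 0), -8⟩,
  ⟨⟨1, -1, -3, 1, 0, 0, -2, 0⟩, (1, 1, 0, 0), (0, 0, 1, 1), -8⟩,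
  ⟨⟨1, -1, -3, 1, 0, 0, 2, 0⟩, (1, 0, 1, 1), (1, 0, 1, 0), -8⟩,
  ⟨⟨1, -1, 3, -1, 0, 0, -2, 0⟩, (1, 1, 0, 1), (1, 1, 1, 1), -8⟩,
  ⟨⟨1, -1, 3, -1, 0, 0, 2, 0⟩, (1, 0, 1, 0), (0, 1, 1, 0), -8⟩,
  ⟨⟨1, 1, 0, 0, -3, -1, -2, 0⟩, (1, 0, 0, 1), (0, 1, 1, 0), 8⟩,
  ⟨⟨1, 1, 0, 0, -3, -1, 2, 0⟩, (1, 1, 1, 0), (1, 1, 1, 1), 8⟩,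
  ⟨⟨1, 1, 0, 0, 3, 1, -2, 0⟩, (1, 1, 1, 1), (0, 1, 0, 1), 8⟩,
  ⟨⟨1, 1, 0, 0, 3, 1, 2, 0⟩, (1, 0, 0, 0), (1, 1, 0, 0), 8⟩,
  ⟨⟨1, 1, -2, 0, 0, 0, -3, -1⟩, (0, 1, 0, 1), (1, 0, 0, 0), 8⟩,
  ⟨⟨1, 1, -2, 0, 0, 0, 3, 1⟩, (0, 0, 1, 1), (0, 1, 0, 1), 8⟩,
  ⟨⟨1, 1, 2, 0, 0, 0, -3, -1⟩, (0, 0, 1, 0), (1, 1, 1, 1), 8⟩,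
  ⟨⟨1, 1, 2, 0, 0, 0, 3, 1⟩, (0, 1, 0, 0), (0, 0, 1, 0), 8⟩,
  ⟨⟨1, 1, -1, -1, -1, -1, -1, -1⟩, (0, 1, 1, 1), (0, 1, 0, 1), 8⟩,
  ⟨⟨1, 1, -1, -1, -1, -1, 1, 1⟩, (0, 1, 1, 0), (0, 0, 0, 1), 8⟩,
  ⟨⟨1, 1, -1, -1, 1, 1, -1, -1⟩, (0, 1, 1, 0), (0, 1, 1, 1), 8⟩,
  ⟨⟨1, 1, -1, -1, 1, 1, 1, 1⟩, (0, 1, 1, 1), (0, 0, 1, 1), 8⟩,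
  ⟨⟨1, 1, 1, 1, -1, -1, -1, -1⟩, (0, 1, 1, 0), (1, 0, 0, 1), 8⟩,
  ⟨⟨1, 1, 1, 1, -1, -1, 1, 1⟩, (0, 1, 1, 1), (1, 1, 0, 1), 8⟩,
  ⟨⟨1, 1, 1, 1, 1, 1, -1, -1⟩, (0, 1, 1, 1), (1, 0, 1, 1), 8⟩,
  ⟨⟨1, 1, 1, 1, 1, 1, 1, 1⟩, (0, 1, 1, 0), (1, 1, 1, 1), 8⟩,
  ⟨⟨1, 1, -3, -1, -2, 0, 0, 0⟩, (1, 1, 0, 1), (1, 1, 1, 0), 8⟩,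
  ⟨⟨1, 1, -3, -1, 2, 0, 0, 0⟩, (1, 0, 1, 0), (1, 1, 1, 1), 8⟩,
  ⟨⟨1, 1, 3, 1, -2, 0, 0, 0⟩, (1, 0, 1, 1), (0, 1, 0, 1), 8⟩,
  ⟨⟨1, 1, 3, 1, 2, 0, 0, 0⟩, (1, 1, 0, 0), (0, 1, 0, 0), 8⟩,
  ⟨⟨-3, -1, 0, 0, -2, 0, -1, -1⟩, (0, 1, 0, 1), (1, 0, 0, 1), 8⟩,
  ⟨⟨-3, -1, 0, 0, -2, 0, 1, 1⟩, (0, 1, 0, 0), (1, 1, 0, 1), 8⟩,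
  ⟨⟨-3, -1, 0, 0, 2, 0, -1, -1⟩, (0, 0, 1, 0), (1, 0, 0, 0), 8⟩,
  ⟨⟨-3, -1, 0, 0, 2, 0, 1, 1⟩, (0, 0, 1, 1), (1, 1, 0, 0), 8⟩,
  ⟨⟨-3, -1, -2, 0, -1, -1, 0, 0⟩, (1, 0, 0, 1), (0, 0, 0, 1), 8⟩,
  ⟨⟨-3, -1, -2, 0, 1, 1, 0, 0⟩, (1, 0, 0, 0), (0, 0, 1, 1), 8⟩,
  ⟨⟨-3, -1, 2, 0, -1, -1, 0, 0⟩, (1, 1, 1, 0), (0, 1, 1, 0), 8⟩,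
  ⟨⟨-3, -1, 2, 0, 1, 1, 0, 0⟩, (1, 1, 1, 1), (0, 1, 0, 0), 8⟩,
  ⟨⟨-3, -1, -1, -1, 0, 0, -2, 0⟩, (1, 1, 0, 1), (0, 1, 1, 1), 8⟩,
  ⟨⟨-3, -1, -1, -1, 0, 0, 2, 0⟩, (1, 0, 1, 0), (1, 1, 1, 0), 8⟩,
  ⟨⟨-3, -1, 1, 1, 0, 0, -2, 0⟩, (1, 1, 0, 0), (1, 0, 1, 1), 8⟩,
  ⟨⟨-3, -1, 1, 1, 0, 0, 2, 0⟩, (1, 0, 1, 1), (0, 0, 1, 0), 8⟩,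
  ⟨⟨-3, 1, 0, 0, -1, 1, -2, 0⟩, (1, 1, 1, 1), (1, 0, 1, 1), -8⟩,
  ⟨⟨-3, 1, 0, 0, -1, 1, 2, 0⟩, (1, 0, 0, 0), (0, 0, 1, 0), -8⟩,
  ⟨⟨-3, 1, 0, 0, 1, -1, -2, 0⟩, (1, 0, 0, 1), (1, 0, 0, 0), -8⟩,
  ⟨⟨-3, 1, 0, 0, 1, -1, 2, 0⟩, (1, 1, 1, 0), (0, 0, 0, 1), -8⟩,
  ⟨⟨-3, 1, -2, 0, 0, 0, -1, 1⟩, (0, 0, 1, 1), (0, 0, 1, 1), -8⟩,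
  ⟨⟨-3, 1, -2, 0, 0, 0, 1, -1⟩, (0, 1, 0, 1), (1, 1, 1, 0), -8⟩,
  ⟨⟨-3, 1, 2, 0, 0, 0, -1, 1⟩, (0, 1, 0, 0), (0, 1, 0, 0), -8⟩,
  ⟨⟨-3, 1, 2, 0, 0, 0, 1, -1⟩, (0, 0, 1, 0), (1, 0, 0, 1), -8⟩,
  ⟨⟨-3, 1, -1, 1, -2, 0, 0, 0⟩, (1, 0, 1, 1), (1, 1, 0, 1), -8⟩,
  ⟨⟨-3, 1, -1, 1, 2, 0, 0, 0⟩, (1, 1, 0, 0), (1, 1, 0, 0), -8⟩,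
  ⟨⟨-3, 1, 1, -1, -2, 0, 0, 0⟩, (1, 1, 0, 1), (0, 1, 1, 0), -8⟩,
  ⟨⟨-3, 1, 1, -1, 2, 0, 0, 0⟩, (1, 0, 1, 0), (0, 1, 1, 1), -8⟩,
  ⟨⟨3, -1, 0, 0, -1, 1, -2, 0⟩, (1, 1, 1, 0), (0, 0, 0, 1), -8⟩,
  ⟨⟨3, -1, 0, 0, -1, 1, 2, 0⟩, (1, 0, 0, 1), (1, 0, 0, 0), -8⟩,
  ⟨⟨3, -1, 0, 0, 1, -1, -2, 0⟩, (1, 0, 0, 0), (0, 0, 1, 0), -8⟩,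
  ⟨⟨3, -1, 0, 0, 1, -1, 2, 0⟩, (1, 1, 1, 1), (1, 0, 1, 1), -8⟩,
  ⟨⟨3, -1, -2, 0, 0, 0, -1, 1⟩, (0, 0, 1, 0), (1, 0, 0, 1), -8⟩,
  ⟨⟨3, -1, -2, 0, 0, 0, 1, -1⟩, (0, 1, 0, 0), (0, 1, 0, 0), -8⟩,
  ⟨⟨3, -1, 2, 0, 0, 0, -1, 1⟩, (0, 1, 0, 1), (1, 1, 1, 0), -8⟩,
  ⟨⟨3, -1, 2, 0, 0, 0, 1, -1⟩, (0, 0, 1, 1), (0, 0, 1, 1), -8⟩,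
  ⟨⟨3, -1, -1, 1, -2, 0, 0, 0⟩, (1, 0, 1, 0), (0, 1, 1, 1), -8⟩,
  ⟨⟨3, -1, -1, 1, 2, 0, 0, 0⟩, (1, 1, 0, 1), (0, 1, 1, 0), -8⟩,
  ⟨⟨3, -1, 1, -1, -2, 0, 0, 0⟩, (1, 1, 0, 0), (1, 1, 0, 0), -8⟩,
  ⟨⟨3, -1, 1, -1, 2, 0, 0, 0⟩, (1, 0, 1, 1), (1, 1, 0, 1), -8⟩,
  ⟨⟨3, 1, 0, 0, -2, 0, -1, -1⟩, (0, 0, 1, 1), (1, 1, 0, 0), 8⟩,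
  ⟨⟨3, 1, 0, 0, -2, 0, 1, 1⟩, (0, 0, 1, 0), (1, 0, 0, 0), 8⟩,
  ⟨⟨3, 1, 0, 0, 2, 0, -1, -1⟩, (0, 1, 0, 0), (1, 1, 0, 1), 8⟩,
  ⟨⟨3, 1, 0, 0, 2, 0, 1, 1⟩, (0, 1, 0, 1), (1, 0, 0, 1), 8⟩,
  ⟨⟨3, 1, -2, 0, -1, -1, 0, 0⟩, (1, 1, 1, 1), (0, 1, 0, 0), 8⟩,
  ⟨⟨3, 1, -2, 0, 1, 1, 0, 0⟩, (1, 1, 1, 0), (0, 1, 1, 0), 8⟩,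
  ⟨⟨3, 1, 2, 0, -1, -1, 0, 0⟩, (1, 0, 0, 0), (0, 0, 1, 1), 8⟩,
  ⟨⟨3, 1, 2, 0, 1, 1, 0, 0⟩, (1, 0, 0, 1), (0, 0, 0, 1), 8⟩,
  ⟨⟨3, 1, -1, -1, 0, 0, -2, 0⟩, (1, 0, 1, 1), (0, 0, 1, 0), 8⟩,
  ⟨⟨3, 1, -1, -1, 0, 0, 2, 0⟩, (1, 1, 0, 0), (1, 0, 1, 1), 8⟩,
  ⟨⟨3, 1, 1, 1, 0, 0, -2, 0⟩, (1, 0, 1, 0), (1, 1, 1, 0), 8⟩,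
  ⟨⟨3, 1, 1, 1, 0, 0, 2, 0⟩, (1, 1, 0, 1), (0, 1, 1, 1), 8⟩,
  ⟨⟨-2, -2, 0, 0, 0, 0, 0, 0⟩, (0, 0, 0, 1), (1, 0, 1, 0), 8⟩,
  ⟨⟨-2, 2, 0, 0, 0, 0, 0, 0⟩, (0, 1, 1, 0), (0, 1, 0, 1), -8⟩,
  ⟨⟨2, -2, 0, 0, 0, 0, 0, 0⟩, (0, 1, 1, 0), (0, 1, 0, 1), -8⟩,
  ⟨⟨2, 2, 0, 0, 0, 0, 0, 0⟩, (0, 0, 0, 1), (1, 0, 1, 0), 8⟩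
]

/-- the icosians of weight 32, annotated -/
def A32lit : List AQ := [
  ⟨⟨0, 0, 0, 0, -4, 0, -4, 0⟩, (0, 0, 0, 0), (1, 0, 0, 0), 0⟩,
  ⟨⟨0, 0, 0, 0, -4, 0, 4, 0⟩, (0, 0, 0, 0), (1, 0, 0, 0), 0⟩,
  ⟨⟨0, 0, 0, 0, 4, 0, -4, 0⟩, (0, 0, 0, 0), (1, 0, 0, 0), 0⟩,
  ⟨⟨0, 0, 0, 0, 4, 0, 4, 0⟩, (0, 0, 0, 0), (1, 0, 0, 0), 0⟩,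
  ⟨⟨0, 0, -2, 0, -3, -1, -3, 1⟩, (1, 1, 0, 0), (0, 0, 0, 0), 0⟩,
  ⟨⟨0, 0, -2, 0, -3, -1, 3, -1⟩, (1, 1, 0, 1), (0, 1, 0, 0), 0⟩,
  ⟨⟨0, 0, -2, 0, 3, 1, -3, 1⟩, (1, 0, 1, 0), (0, 0, 1, 1), 0⟩,
  ⟨⟨0, 0, -2, 0, 3, 1, 3, -1⟩, (1, 0, 1, 1), (0, 1, 1, 1), 0⟩,
  ⟨⟨0, 0, 2, 0, -3, -1, -3, 1⟩, (1, 0, 1, 1), (0, 1, 1, 1), 0⟩,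
  ⟨⟨0, 0, 2, 0, -3, -1, 3, -1⟩, (1, 0, 1, 0), (0, 0, 1, 1), 0⟩,
  ⟨⟨0, 0, 2, 0, 3, 1, -3, 1⟩, (1, 1, 0, 1), (0, 1, 0, 0), 0⟩,
  ⟨⟨0, 0, 2, 0, 3, 1, 3, -1⟩, (1, 1, 0, 0), (0, 0, 0, 0), 0⟩,
  ⟨⟨0, 0, -1, -1, 0, -2, -1, 1⟩, (1, 0, 0, 1), (1, 1, 0, 0), 0⟩,
  ⟨⟨0, 0, -1, -1, 0, -2, 1, -1⟩, (1, 1, 1, 1), (0, 0, 0, 1), 0⟩,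
  ⟨⟨0, 0, -1, -1, 0, 2, -1, 1⟩, (1, 1, 1, 0), (1, 1, 0, 1), 0⟩,
  ⟨⟨0, 0, -1, -1, 0, 2, 1, -1⟩, (1, 0, 0, 0), (0, 0, 0, 0), 0⟩,
  ⟨⟨0, 0, -1, 1, -1, -1, 0, -2⟩, (0, 1, 0, 1), (0, 0, 1, 0), 0⟩,
  ⟨⟨0, 0, -1, 1, -1, -1, 0, 2⟩, (0, 0, 1, 0), (1, 0, 1, 1), 0⟩,
  ⟨⟨0, 0, -1, 1, 1, 1, 0, -2⟩, (0, 1, 0, 0), (0, 0, 0, 0), 0⟩,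
  ⟨⟨0, 0, -1, 1, 1, 1, 0, 2⟩, (0, 0, 1, 1), (1, 0, 0, 1), 0⟩,
  ⟨⟨0, 0, 1, -1, -1, -1, 0, -2⟩, (0, 0, 1, 1), (1, 0, 0, 1), 0⟩,
  ⟨⟨0, 0, 1, -1, -1, -1, 0, 2⟩, (0, 1, 0, 0), (0, 0, 0, 0), 0⟩,
  ⟨⟨0, 0, 1, -1, 1, 1, 0, -2⟩, (0, 0, 1, 0), (1, 0, 1, 1), 0⟩,
  ⟨⟨0, 0, 1, -1, 1, 1, 0, 2⟩, (0, 1, 0, 1), (0, 0, 1, 0), 0⟩,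
  ⟨⟨0, 0, 1, 1, 0, -2, -1, 1⟩, (1, 0, 0, 0), (0, 0, 0, 0), 0⟩,
  ⟨⟨0, 0, 1, 1, 0, -2, 1, -1⟩, (1, 1, 1, 0), (1, 1, 0, 1), 0⟩,
  ⟨⟨0, 0, 1, 1, 0, 2, -1, 1⟩, (1, 1, 1, 1), (0, 0, 0, 1), 0⟩,
  ⟨⟨0, 0, 1, 1, 0, 2, 1, -1⟩, (1, 0, 0, 1), (1, 1, 0, 0), 0⟩,
  ⟨⟨0, 0, -3, -1, -3, 1, -2, 0⟩, (0, 1, 0, 0), (0, 0, 0, 0), 0⟩,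
  ⟨⟨0, 0, -3, -1, -3, 1, 2, 0⟩, (0, 0, 1, 1), (1, 0, 0, 1), 0⟩,
  ⟨⟨0, 0, -3, -1, 3, -1, -2, 0⟩, (0, 1, 0, 1), (0, 0, 1, 0), 0⟩,
  ⟨⟨0, 0, -3, -1, 3, -1, 2, 0⟩, (0, 0, 1, 0), (1, 0, 1, 1), 0⟩,
  ⟨⟨0, 0, -3, 1, -2, 0, -3, -1⟩, (1, 0, 0, 0), (0, 0, 0, 0), 0⟩,
  ⟨⟨0, 0, -3, 1, -2, 0, 3, 1⟩, (1, 1, 1, 0), (1, 1, 0, 1), 0⟩,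
  ⟨⟨0, 0, -3, 1, 2, 0, -3, -1⟩, (1, 1, 1, 1), (0, 0, 0, 1), 0⟩,
  ⟨⟨0, 0, -3, 1, 2, 0, 3, 1⟩, (1, 0, 0, 1), (1, 1, 0, 0), 0⟩,
  ⟨⟨0, 0, 3, -1, -2, 0, -3, -1⟩, (1, 0, 0, 1), (1, 1, 0, 0), 0⟩,
  ⟨⟨0, 0, 3, -1, -2, 0, 3, 1⟩, (1, 1, 1, 1), (0, 0, 0, 1), 0⟩,
  ⟨⟨0, 0, 3, -1, 2, 0, -3, -1⟩, (1, 1, 1, 0), (1, 1, 0, 1), 0⟩,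
  ⟨⟨0, 0, 3, -1, 2, 0, 3, 1⟩, (1, 0, 0, 0), (0, 0, 0, 0), 0⟩,
  ⟨⟨0, 0, 3, 1, -3, 1, -2, 0⟩, (0, 0, 1, 0), (1, 0, 1, 1), 0⟩,
  ⟨⟨0, 0, 3, 1, -3, 1, 2, 0⟩, (0, 1, 0, 1), (0, 0, 1, 0), 0⟩,
  ⟨⟨0, 0, 3, 1, 3, -1, -2, 0⟩, (0, 0, 1, 1), (1, 0, 0, 1), 0⟩,
  ⟨⟨0, 0, 3, 1, 3, -1, 2, 0⟩, (0, 1, 0, 0), (0, 0, 0, 0), 0⟩,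
  ⟨⟨0, 0, -4, 0, 0, 0, -4, 0⟩, (0, 0, 0, 0), (1, 1, 1, 0), 0⟩,
  ⟨⟨0, 0, -4, 0, 0, 0, 4, 0⟩, (0, 0, 0, 0), (1, 1, 1, 0), 0⟩,
  ⟨⟨0, 0, -4, 0, -4, 0, 0, 0⟩, (0, 0, 0, 0), (0, 1, 1, 0), 0⟩,
  ⟨⟨0, 0, -4, 0, 4, 0, 0, 0⟩, (0, 0, 0, 0), (0, 1, 1, 0), 0⟩,
  ⟨⟨0, 0, 4, 0, 0, 0, -4, 0⟩, (0, 0, 0, 0), (1, 1, 1, 0), 0⟩,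
  ⟨⟨0, 0, 4, 0, 0, 0, 4, 0⟩, (0, 0, 0, 0), (1, 1, 1, 0), 0⟩,
  ⟨⟨0, 0, 4, 0, -4, 0, 0, 0⟩, (0, 0, 0, 0), (0, 1, 1, 0), 0⟩,
  ⟨⟨0, 0, 4, 0, 4, 0, 0, 0⟩, (0, 0, 0, 0), (0, 1, 1, 0), 0⟩,
  ⟨⟨0, 0, 0, -2, -1, 1, -1, -1⟩, (1, 1, 0, 1), (0, 1, 0, 0), 0⟩,
  ⟨⟨0, 0, 0, -2, -1, 1, 1, 1⟩, (1, 1, 0, 0), (0, 0, 0, 0), 0⟩,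
  ⟨⟨0, 0, 0, -2, 1, -1, -1, -1⟩, (1, 0, 1, 1), (0, 1, 1, 1), 0⟩,
  ⟨⟨0, 0, 0, -2, 1, -1, 1, 1⟩, (1, 0, 1, 0), (0, 0, 1, 1), 0⟩,
  ⟨⟨0, 0, 0, 2, -1, 1, -1, -1⟩, (1, 0, 1, 0), (0, 0, 1, 1), 0⟩,
  ⟨⟨0, 0, 0, 2, -1, 1, 1, 1⟩, (1, 0, 1, 1), (0, 1, 1, 1), 0⟩,
  ⟨⟨0, 0, 0, 2, 1, -1, -1, -1⟩, (1, 1, 0, 0), (0, 0, 0, 0), 0⟩,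
  ⟨⟨0, 0, 0, 2, 1, -1, 1, 1⟩, (1, 1, 0, 1), (0, 1, 0, 0), 0⟩,
  ⟨⟨-2, 0, 0, 0, -3, 1, -3, -1⟩, (1, 1, 0, 1), (1, 1, 0, 1), 0⟩,
  ⟨⟨-2, 0, 0, 0, -3, 1, 3, 1⟩, (1, 0, 1, 1), (0, 0, 0, 0), 0⟩,
  ⟨⟨-2, 0, 0, 0, 3, -1, -3, -1⟩, (1, 1, 0, 0), (1, 1, 1, 1), 0⟩,
  ⟨⟨-2, 0, 0, 0, 3, -1, 3, 1⟩, (1, 0, 1, 0), (0, 0, 1, 0), 0⟩,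
  ⟨⟨-2, 0, -2, 0, -2, 0, 0, -2⟩, (0, 1, 1, 1), (1, 0, 0, 0), 0⟩,
  ⟨⟨-2, 0, -2, 0, -2, 0, 0, 2⟩, (0, 0, 0, 0), (0, 0, 0, 1), 0⟩,
  ⟨⟨-2, 0, -2, 0, 2, 0, 0, -2⟩, (0, 0, 0, 0), (1, 0, 0, 1), 0⟩,
  ⟨⟨-2, 0, -2, 0, 2, 0, 0, 2⟩, (0, 1, 1, 1), (0, 0, 0, 0), 0⟩,
  ⟨⟨-2, 0, -2, 0, 0, -2, -2, 0⟩, (0, 1, 1, 1), (0, 1, 1, 0), 0⟩,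
  ⟨⟨-2, 0, -2, 0, 0, -2, 2, 0⟩, (0, 0, 0, 0), (1, 1, 1, 1), 0⟩,
  ⟨⟨-2, 0, -2, 0, 0, 2, -2, 0⟩, (0, 0, 0, 0), (0, 1, 1, 1), 0⟩,
  ⟨⟨-2, 0, -2, 0, 0, 2, 2, 0⟩, (0, 1, 1, 1), (1, 1, 1, 0), 0⟩,
  ⟨⟨-2, 0, 2, 0, -2, 0, 0, -2⟩, (0, 0, 0, 0), (1, 1, 1, 1), 0⟩,
  ⟨⟨-2, 0, 2, 0, -2, 0, 0, 2⟩, (0, 1, 1, 1), (0, 1, 1, 0), 0⟩,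
  ⟨⟨-2, 0, 2, 0, 2, 0, 0, -2⟩, (0, 1, 1, 1), (1, 1, 1, 0), 0⟩,
  ⟨⟨-2, 0, 2, 0, 2, 0, 0, 2⟩, (0, 0, 0, 0), (0, 1, 1, 1), 0⟩,
  ⟨⟨-2, 0, 2, 0, 0, -2, -2, 0⟩, (0, 0, 0, 0), (0, 0, 0, 1), 0⟩,
  ⟨⟨-2, 0, 2, 0, 0, -2, 2, 0⟩, (0, 1, 1, 1), (1, 0, 0, 0), 0⟩,
  ⟨⟨-2, 0, 2, 0, 0, 2, -2, 0⟩, (0, 1, 1, 1), (0, 0, 0, 0), 0⟩,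
  ⟨⟨-2, 0, 2, 0, 0, 2, 2, 0⟩, (0, 0, 0, 0), (1, 0, 0, 1), 0⟩,
  ⟨⟨-2, 0, -1, -1, -1, 1, -4, 0⟩, (0, 1, 0, 1), (0, 0, 1, 1), 0⟩,
  ⟨⟨-2, 0, -1, -1, -1, 1, 4, 0⟩, (0, 1, 0, 1), (0, 0, 1, 1), 0⟩,
  ⟨⟨-2, 0, -1, -1, 1, -1, -4, 0⟩, (0, 0, 1, 1), (0, 0, 0, 0), 0⟩,
  ⟨⟨-2, 0, -1, -1, 1, -1, 4, 0⟩, (0, 0, 1, 1), (0, 0, 0, 0), 0⟩,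
  ⟨⟨-2, 0, -1, 1, -4, 0, -1, -1⟩, (1, 0, 0, 1), (1, 0, 1, 1), 0⟩,
  ⟨⟨-2, 0, -1, 1, -4, 0, 1, 1⟩, (1, 0, 0, 0), (1, 1, 1, 1), 0⟩,
  ⟨⟨-2, 0, -1, 1, 4, 0, -1, -1⟩, (1, 0, 0, 1), (1, 0, 1, 1), 0⟩,
  ⟨⟨-2, 0, -1, 1, 4, 0, 1, 1⟩, (1, 0, 0, 0), (1, 1, 1, 1), 0⟩,
  ⟨⟨-2, 0, 1, -1, -4, 0, -1, -1⟩, (1, 1, 1, 1), (0, 0, 0, 0), 0⟩,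
  ⟨⟨-2, 0, 1, -1, -4, 0, 1, 1⟩, (1, 1, 1, 0), (0, 1, 0, 0), 0⟩,
  ⟨⟨-2, 0, 1, -1, 4, 0, -1, -1⟩, (1, 1, 1, 1), (0, 0, 0, 0), 0⟩,
  ⟨⟨-2, 0, 1, -1, 4, 0, 1, 1⟩, (1, 1, 1, 0), (0, 1, 0, 0), 0⟩,
  ⟨⟨-2, 0, 1, 1, -1, 1, -4, 0⟩, (0, 1, 0, 0), (1, 1, 1, 1), 0⟩,
  ⟨⟨-2, 0, 1, 1, -1, 1, 4, 0⟩, (0, 1, 0, 0), (1, 1, 1, 1), 0⟩,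
  ⟨⟨-2, 0, 1, 1, 1, -1, -4, 0⟩, (0, 0, 1, 0), (1, 1, 0, 0), 0⟩,
  ⟨⟨-2, 0, 1, 1, 1, -1, 4, 0⟩, (0, 0, 1, 0), (1, 1, 0, 0), 0⟩,
  ⟨⟨-2, 0, -3, -1, 0, 0, -3, 1⟩, (1, 0, 0, 1), (1, 0, 1, 1), 0⟩,
  ⟨⟨-2, 0, -3, -1, 0, 0, 3, -1⟩, (1, 0, 0, 0), (1, 1, 1, 1), 0⟩,
  ⟨⟨-2, 0, -3, 1, -3, -1, 0, 0⟩, (0, 1, 0, 1), (0, 0, 1, 1), 0⟩,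
  ⟨⟨-2, 0, -3, 1, 3, 1, 0, 0⟩, (0, 0, 1, 1), (0, 0, 0, 0), 0⟩,
  ⟨⟨-2, 0, 3, -1, -3, -1, 0, 0⟩, (0, 1, 0, 0), (1, 1, 1, 1), 0⟩,
  ⟨⟨-2, 0, 3, -1, 3, 1, 0, 0⟩, (0, 0, 1, 0), (1, 1, 0, 0), 0⟩,
  ⟨⟨-2, 0, 3, 1, 0, 0, -3, 1⟩, (1, 1, 1, 1), (0, 0, 0, 0), 0⟩,
  ⟨⟨-2, 0, 3, 1, 0, 0, 3, -1⟩, (1, 1, 1, 0), (0, 1, 0, 0), 0⟩,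
  ⟨⟨-2, 0, -4, 0, -1, -1, -1, 1⟩, (1, 1, 0, 1), (1, 1, 0, 1), 0⟩,
  ⟨⟨-2, 0, -4, 0, -1, -1, 1, -1⟩, (1, 0, 1, 1), (0, 0, 0, 0), 0⟩,
  ⟨⟨-2, 0, -4, 0, 1, 1, -1, 1⟩, (1, 1, 0, 0), (1, 1, 1, 1), 0⟩,
  ⟨⟨-2, 0, -4, 0, 1, 1, 1, -1⟩, (1, 0, 1, 0), (0, 0, 1, 0), 0⟩,
  ⟨⟨-2, 0, 4, 0, -1, -1, -1, 1⟩, (1, 1, 0, 1), (1, 1, 0, 1), 0⟩,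
  ⟨⟨-2, 0, 4, 0, -1, -1, 1, -1⟩, (1, 0, 1, 1), (0, 0, 0, 0), 0⟩,
  ⟨⟨-2, 0, 4, 0, 1, 1, -1, 1⟩, (1, 1, 0, 0), (1, 1, 1, 1), 0⟩,
  ⟨⟨-2, 0, 4, 0, 1, 1, 1, -1⟩, (1, 0, 1, 0), (0, 0, 1, 0), 0⟩,
  ⟨⟨-2, 0, 0, -2, -2, 0, -2, 0⟩, (0, 1, 1, 1), (1, 1, 1, 0), 0⟩,
  ⟨⟨-2, 0, 0, -2, -2, 0, 2, 0⟩, (0, 0, 0, 0), (0, 1, 1, 1), 0⟩,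
  ⟨⟨-2, 0, 0, -2, 2, 0, -2, 0⟩, (0, 0, 0, 0), (1, 1, 1, 1), 0⟩,
  ⟨⟨-2, 0, 0, -2, 2, 0, 2, 0⟩, (0, 1, 1, 1), (0, 1, 1, 0), 0⟩,
  ⟨⟨-2, 0, 0, 2, -2, 0, -2, 0⟩, (0, 0, 0, 0), (1, 0, 0, 1), 0⟩,
  ⟨⟨-2, 0, 0, 2, -2, 0, 2, 0⟩, (0, 1, 1, 1), (0, 0, 0, 0), 0⟩,
  ⟨⟨-2, 0, 0, 2, 2, 0, -2, 0⟩, (0, 1, 1, 1), (1, 0, 0, 0), 0⟩,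
  ⟨⟨-2, 0, 0, 2, 2, 0, 2, 0⟩, (0, 0, 0, 0), (0, 0, 0, 1), 0⟩,
  ⟨⟨2, 0, 0, 0, -3, 1, -3, -1⟩, (1, 0, 1, 0), (0, 0, 1, 0), 0⟩,
  ⟨⟨2, 0, 0, 0, -3, 1, 3, 1⟩, (1, 1, 0, 0), (1, 1, 1, 1), 0⟩,
  ⟨⟨2, 0, 0, 0, 3, -1, -3, -1⟩, (1, 0, 1, 1), (0, 0, 0, 0), 0⟩,
  ⟨⟨2, 0, 0, 0, 3, -1, 3, 1⟩, (1, 1, 0, 1), (1, 1, 0, 1), 0⟩,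
  ⟨⟨2, 0, -2, 0, -2, 0, 0, -2⟩, (0, 0, 0, 0), (0, 1, 1, 1), 0⟩,
  ⟨⟨2, 0, -2, 0, -2, 0, 0, 2⟩, (0, 1, 1, 1), (1, 1, 1, 0), 0⟩,
  ⟨⟨2, 0, -2, 0, 2, 0, 0, -2⟩, (0, 1, 1, 1), (0, 1, 1, 0), 0⟩,
  ⟨⟨2, 0, -2, 0, 2, 0, 0, 2⟩, (0, 0, 0, 0), (1, 1, 1, 1), 0⟩,
  ⟨⟨2, 0, -2, 0, 0, -2, -2, 0⟩, (0, 0, 0, 0), (1, 0, 0, 1), 0⟩,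
  ⟨⟨2, 0, -2, 0, 0, -2, 2, 0⟩, (0, 1, 1, 1), (0, 0, 0, 0), 0⟩,
  ⟨⟨2, 0, -2, 0, 0, 2, -2, 0⟩, (0, 1, 1, 1), (1, 0, 0, 0), 0⟩,
  ⟨⟨2, 0, -2, 0, 0, 2, 2, 0⟩, (0, 0, 0, 0), (0, 0, 0, 1), 0⟩,
  ⟨⟨2, 0, 2, 0, -2, 0, 0, -2⟩, (0, 1, 1, 1), (0, 0, 0, 0), 0⟩,
  ⟨⟨2, 0, 2, 0, -2, 0, 0, 2⟩, (0, 0, 0, 0), (1, 0, 0, 1), 0⟩,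
  ⟨⟨2, 0, 2, 0, 2, 0, 0, -2⟩, (0, 0, 0, 0), (0, 0, 0, 1), 0⟩,
  ⟨⟨2, 0, 2, 0, 2, 0, 0, 2⟩, (0, 1, 1, 1), (1, 0, 0, 0), 0⟩,
  ⟨⟨2, 0, 2, 0, 0, -2, -2, 0⟩, (0, 1, 1, 1), (1, 1, 1, 0), 0⟩,
  ⟨⟨2, 0, 2, 0, 0, -2, 2, 0⟩, (0, 0, 0, 0), (0, 1, 1, 1), 0⟩,
  ⟨⟨2, 0, 2, 0, 0, 2, -2, 0⟩, (0, 0, 0, 0), (1, 1, 1, 1), 0⟩,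
  ⟨⟨2, 0, 2, 0, 0, 2, 2, 0⟩, (0, 1, 1, 1), (0, 1, 1, 0), 0⟩,
  ⟨⟨2, 0, -1, -1, -1, 1, -4, 0⟩, (0, 0, 1, 0), (1, 1, 0, 0), 0⟩,
  ⟨⟨2, 0, -1, -1, -1, 1, 4, 0⟩, (0, 0, 1, 0), (1, 1, 0, 0), 0⟩,
  ⟨⟨2, 0, -1, -1, 1, -1, -4, 0⟩, (0, 1, 0, 0), (1, 1, 1, 1), 0⟩,
  ⟨⟨2, 0, -1, -1, 1, -1, 4, 0⟩, (0, 1, 0, 0), (1, 1, 1, 1), 0⟩,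
  ⟨⟨2, 0, -1, 1, -4, 0, -1, -1⟩, (1, 1, 1, 0), (0, 1, 0, 0), 0⟩,
  ⟨⟨2, 0, -1, 1, -4, 0, 1, 1⟩, (1, 1, 1, 1), (0, 0, 0, 0), 0⟩,
  ⟨⟨2, 0, -1, 1, 4, 0, -1, -1⟩, (1, 1, 1, 0), (0, 1, 0, 0), 0⟩,
  ⟨⟨2, 0, -1, 1, 4, 0, 1, 1⟩, (1, 1, 1, 1), (0, 0, 0, 0), 0⟩,
  ⟨⟨2, 0, 1, -1, -4, 0, -1, -1⟩, (1, 0, 0, 0), (1, 1, 1, 1), 0⟩,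
  ⟨⟨2, 0, 1, -1, -4, 0, 1, 1⟩, (1, 0, 0, 1), (1, 0, 1, 1), 0⟩,
  ⟨⟨2, 0, 1, -1, 4, 0, -1, -1⟩, (1, 0, 0, 0), (1, 1, 1, 1), 0⟩,
  ⟨⟨2, 0, 1, -1, 4, 0, 1, 1⟩, (1, 0, 0, 1), (1, 0, 1, 1), 0⟩,
  ⟨⟨2, 0, 1, 1, -1, 1, -4, 0⟩, (0, 0, 1, 1), (0, 0, 0, 0), 0⟩,
  ⟨⟨2, 0, 1, 1, -1, 1, 4, 0⟩, (0, 0, 1, 1), (0, 0, 0, 0), 0⟩,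
  ⟨⟨2, 0, 1, 1, 1, -1, -4, 0⟩, (0, 1, 0, 1), (0, 0, 1, 1), 0⟩,
  ⟨⟨2, 0, 1, 1, 1, -1, 4, 0⟩, (0, 1, 0, 1), (0, 0, 1, 1), 0⟩,
  ⟨⟨2, 0, -3, -1, 0, 0, -3, 1⟩, (1, 1, 1, 0), (0, 1, 0, 0), 0⟩,
  ⟨⟨2, 0, -3, -1, 0, 0, 3, -1⟩, (1, 1, 1, 1), (0, 0, 0, 0), 0⟩,
  ⟨⟨2, 0, -3, 1, -3, -1, 0, 0⟩, (0, 0, 1, 0), (1, 1, 0, 0), 0⟩,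
  ⟨⟨2, 0, -3, 1, 3, 1, 0, 0⟩, (0, 1, 0, 0), (1, 1, 1, 1), 0⟩,
  ⟨⟨2, 0, 3, -1, -3, -1, 0, 0⟩, (0, 0, 1, 1), (0, 0, 0, 0), 0⟩,
  ⟨⟨2, 0, 3, -1, 3, 1, 0, 0⟩, (0, 1, 0, 1), (0, 0, 1, 1), 0⟩,
  ⟨⟨2, 0, 3, 1, 0, 0, -3, 1⟩, (1, 0, 0, 0), (1, 1, 1, 1), 0⟩,
  ⟨⟨2, 0, 3, 1, 0, 0, 3, -1⟩, (1, 0, 0, 1), (1, 0, 1, 1), 0⟩,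
  ⟨⟨2, 0, -4, 0, -1, -1, -1, 1⟩, (1, 0, 1, 0), (0, 0, 1, 0), 0⟩,
  ⟨⟨2, 0, -4, 0, -1, -1, 1, -1⟩, (1, 1, 0, 0), (1, 1, 1, 1), 0⟩,
  ⟨⟨2, 0, -4, 0, 1, 1, -1, 1⟩, (1, 0, 1, 1), (0, 0, 0, 0), 0⟩,
  ⟨⟨2, 0, -4, 0, 1, 1, 1, -1⟩, (1, 1, 0, 1), (1, 1, 0, 1), 0⟩,
  ⟨⟨2, 0, 4, 0, -1, -1, -1, 1⟩, (1, 0, 1, 0), (0, 0, 1, 0), 0⟩,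
  ⟨⟨2, 0, 4, 0, -1, -1, 1, -1⟩, (1, 1, 0, 0), (1, 1, 1, 1), 0⟩,
  ⟨⟨2, 0, 4, 0, 1, 1, -1, 1⟩, (1, 0, 1, 1), (0, 0, 0, 0), 0⟩,
  ⟨⟨2, 0, 4, 0, 1, 1, 1, -1⟩, (1, 1, 0, 1), (1, 1, 0, 1), 0⟩,
  ⟨⟨2, 0, 0, -2, -2, 0, -2, 0⟩, (0, 0, 0, 0), (0, 0, 0, 1), 0⟩,
  ⟨⟨2, 0, 0, -2, -2, 0, 2, 0⟩, (0, 1, 1, 1), (1, 0, 0, 0), 0⟩,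
  ⟨⟨2, 0, 0, -2, 2, 0, -2, 0⟩, (0, 1, 1, 1), (0, 0, 0, 0), 0⟩,
  ⟨⟨2, 0, 0, -2, 2, 0, 2, 0⟩, (0, 0, 0, 0), (1, 0, 0, 1), 0⟩,
  ⟨⟨2, 0, 0, 2, -2, 0, -2, 0⟩, (0, 1, 1, 1), (0, 1, 1, 0), 0⟩,
  ⟨⟨2, 0, 0, 2, -2, 0, 2, 0⟩, (0, 0, 0, 0), (1, 1, 1, 1), 0⟩,
  ⟨⟨2, 0, 0, 2, 2, 0, -2, 0⟩, (0, 0, 0, 0), (0, 1, 1, 1), 0⟩,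
  ⟨⟨2, 0, 0, 2, 2, 0, 2, 0⟩, (0, 1, 1, 1), (1, 1, 1, 0), 0⟩,
  ⟨⟨-1, -1, 0, 0, -1, 1, 0, -2⟩, (1, 1, 1, 1), (0, 0, 1, 1), 0⟩,
  ⟨⟨-1, -1, 0, 0, -1, 1, 0, 2⟩, (1, 0, 0, 0), (1, 0, 1, 0), 0⟩,
  ⟨⟨-1, -1, 0, 0, 1, -1, 0, -2⟩, (1, 0, 0, 1), (0, 0, 0, 0), 0⟩,
  ⟨⟨-1, -1, 0, 0, 1, -1, 0, 2⟩, (1, 1, 1, 0), (1, 0, 0, 1), 0⟩,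
  ⟨⟨-1, -1, -2, 0, -4, 0, -1, 1⟩, (0, 0, 1, 0), (0, 1, 1, 1), 0⟩,
  ⟨⟨-1, -1, -2, 0, -4, 0, 1, -1⟩, (0, 1, 0, 0), (1, 0, 1, 0), 0⟩,
  ⟨⟨-1, -1, -2, 0, 4, 0, -1, 1⟩, (0, 0, 1, 0), (0, 1, 1, 1), 0⟩,
  ⟨⟨-1, -1, -2, 0, 4, 0, 1, -1⟩, (0, 1, 0, 0), (1, 0, 1, 0), 0⟩,
  ⟨⟨-1, -1, 2, 0, -4, 0, -1, 1⟩, (0, 1, 0, 1), (0, 0, 0, 0), 0⟩,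
  ⟨⟨-1, -1, 2, 0, -4, 0, 1, -1⟩, (0, 0, 1, 1), (1, 1, 0, 1), 0⟩,
  ⟨⟨-1, -1, 2, 0, 4, 0, -1, 1⟩, (0, 1, 0, 1), (0, 0, 0, 0), 0⟩,
  ⟨⟨-1, -1, 2, 0, 4, 0, 1, -1⟩, (0, 0, 1, 1), (1, 1, 0, 1), 0⟩,
  ⟨⟨-1, -1, -1, -1, -1, -1, -3, 1⟩, (0, 0, 0, 0), (0, 0, 1, 0), 0⟩,
  ⟨⟨-1, -1, -1, -1, -1, -1, 3, -1⟩, (0, 0, 0, 1), (0, 1, 1, 0), 0⟩,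
  ⟨⟨-1, -1, -1, -1, 1, 1, -3, 1⟩, (0, 0, 0, 1), (0, 0, 0, 0), 0⟩,
  ⟨⟨-1, -1, -1, -1, 1, 1, 3, -1⟩, (0, 0, 0, 0), (0, 1, 0, 0), 0⟩,
  ⟨⟨-1, -1, -1, -1, -3, 1, -1, -1⟩, (0, 0, 0, 0), (1, 1, 0, 0), 0⟩,
  ⟨⟨-1, -1, -1, -1, -3, 1, 1, 1⟩, (0, 0, 0, 1), (1, 0, 0, 0), 0⟩,
  ⟨⟨-1, -1, -1, -1, 3, -1, -1, -1⟩, (0, 0, 0, 1), (1, 1, 1, 0), 0⟩,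
  ⟨⟨-1, -1, -1, -1, 3, -1, 1, 1⟩, (0, 0, 0, 0), (1, 0, 1, 0), 0⟩,
  ⟨⟨-1, -1, -1, 1, -2, 0, -4, 0⟩, (1, 0, 1, 0), (0, 0, 0, 1), 0⟩,
  ⟨⟨-1, -1, -1, 1, -2, 0, 4, 0⟩, (1, 0, 1, 0), (0, 0, 0, 1), 0⟩,
  ⟨⟨-1, -1, -1, 1, 2, 0, -4, 0⟩, (1, 1, 0, 1), (0, 0, 0, 0), 0⟩,
  ⟨⟨-1, -1, -1, 1, 2, 0, 4, 0⟩, (1, 1, 0, 1), (0, 0, 0, 0), 0⟩,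
  ⟨⟨-1, -1, -1, 1, 0, -2, 0, 0⟩, (1, 0, 1, 1), (1, 0, 1, 1), 0⟩,
  ⟨⟨-1, -1, -1, 1, 0, 2, 0, 0⟩, (1, 1, 0, 0), (1, 0, 1, 0), 0⟩,
  ⟨⟨-1, -1, 1, -1, -2, 0, -4, 0⟩, (1, 1, 0, 0), (1, 0, 1, 0), 0⟩,
  ⟨⟨-1, -1, 1, -1, -2, 0, 4, 0⟩, (1, 1, 0, 0), (1, 0, 1, 0), 0⟩,
  ⟨⟨-1, -1, 1, -1, 2, 0, -4, 0⟩, (1, 0, 1, 1), (1, 0, 1, 1), 0⟩,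
  ⟨⟨-1, -1, 1, -1, 2, 0, 4, 0⟩, (1, 0, 1, 1), (1, 0, 1, 1), 0⟩,
  ⟨⟨-1, -1, 1, -1, 0, -2, 0, 0⟩, (1, 1, 0, 1), (0, 0, 0, 0), 0⟩,
  ⟨⟨-1, -1, 1, -1, 0, 2, 0, 0⟩, (1, 0, 1, 0), (0, 0, 0, 1), 0⟩,
  ⟨⟨-1, -1, 1, 1, -1, -1, -3, 1⟩, (0, 0, 0, 1), (1, 1, 1, 0), 0⟩,
  ⟨⟨-1, -1, 1, 1, -1, -1, 3, -1⟩, (0, 0, 0, 0), (1, 0, 1, 0), 0⟩,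
  ⟨⟨-1, -1, 1, 1, 1, 1, -3, 1⟩, (0, 0, 0, 0), (1, 1, 0, 0), 0⟩,
  ⟨⟨-1, -1, 1, 1, 1, 1, 3, -1⟩, (0, 0, 0, 1), (1, 0, 0, 0), 0⟩,
  ⟨⟨-1, -1, 1, 1, -3, 1, -1, -1⟩, (0, 0, 0, 1), (0, 0, 0, 0), 0⟩,
  ⟨⟨-1, -1, 1, 1, -3, 1, 1, 1⟩, (0, 0, 0, 0), (0, 1, 0, 0), 0⟩,
  ⟨⟨-1, -1, 1, 1, 3, -1, -1, -1⟩, (0, 0, 0, 0), (0, 0, 1, 0), 0⟩,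
  ⟨⟨-1, -1, 1, 1, 3, -1, 1, 1⟩, (0, 0, 0, 1), (0, 1, 1, 0), 0⟩,
  ⟨⟨-1, -1, -3, 1, -1, -1, -1, -1⟩, (0, 0, 0, 0), (0, 1, 0, 0), 0⟩,
  ⟨⟨-1, -1, -3, 1, -1, -1, 1, 1⟩, (0, 0, 0, 1), (0, 0, 0, 0), 0⟩,
  ⟨⟨-1, -1, -3, 1, 1, 1, -1, -1⟩, (0, 0, 0, 1), (0, 1, 1, 0), 0⟩,
  ⟨⟨-1, -1, -3, 1, 1, 1, 1, 1⟩, (0, 0, 0, 0), (0, 0, 1, 0), 0⟩,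
  ⟨⟨-1, -1, 3, -1, -1, -1, -1, -1⟩, (0, 0, 0, 1), (1, 0, 0, 0), 0⟩,
  ⟨⟨-1, -1, 3, -1, -1, -1, 1, 1⟩, (0, 0, 0, 0), (1, 1, 0, 0), 0⟩,
  ⟨⟨-1, -1, 3, -1, 1, 1, -1, -1⟩, (0, 0, 0, 0), (1, 0, 1, 0), 0⟩,
  ⟨⟨-1, -1, 3, -1, 1, 1, 1, 1⟩, (0, 0, 0, 1), (1, 1, 1, 0), 0⟩,
  ⟨⟨-1, -1, -4, 0, -1, 1, -2, 0⟩, (1, 1, 1, 0), (1, 0, 0, 1), 0⟩,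
  ⟨⟨-1, -1, -4, 0, -1, 1, 2, 0⟩, (1, 0, 0, 1), (0, 0, 0, 0), 0⟩,
  ⟨⟨-1, -1, -4, 0, 1, -1, -2, 0⟩, (1, 0, 0, 0), (1, 0, 1, 0), 0⟩,
  ⟨⟨-1, -1, -4, 0, 1, -1, 2, 0⟩, (1, 1, 1, 1), (0, 0, 1, 1), 0⟩,
  ⟨⟨-1, -1, 4, 0, -1, 1, -2, 0⟩, (1, 1, 1, 0), (1, 0, 0, 1), 0⟩,
  ⟨⟨-1, -1, 4, 0, -1, 1, 2, 0⟩, (1, 0, 0, 1), (0, 0, 0, 0), 0⟩,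
  ⟨⟨-1, -1, 4, 0, 1, -1, -2, 0⟩, (1, 0, 0, 0), (1, 0, 1, 0), 0⟩,
  ⟨⟨-1, -1, 4, 0, 1, -1, 2, 0⟩, (1, 1, 1, 1), (0, 0, 1, 1), 0⟩,
  ⟨⟨-1, -1, 0, -2, 0, 0, -1, 1⟩, (0, 0, 1, 1), (1, 1, 0, 1), 0⟩,
  ⟨⟨-1, -1, 0, -2, 0, 0, 1, -1⟩, (0, 1, 0, 1), (0, 0, 0, 0), 0⟩,
  ⟨⟨-1, -1, 0, 2, 0, 0, -1, 1⟩, (0, 1, 0, 0), (1, 0, 1, 0), 0⟩,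
  ⟨⟨-1, -1, 0, 2, 0, 0, 1, -1⟩, (0, 0, 1, 0), (0, 1, 1, 1), 0⟩,
  ⟨⟨-1, 1, 0, 0, 0, -2, -1, -1⟩, (0, 0, 1, 0), (0, 0, 0, 0), 0⟩,
  ⟨⟨-1, 1, 0, 0, 0, -2, 1, 1⟩, (0, 0, 1, 1), (0, 1, 0, 0), 0⟩,
  ⟨⟨-1, 1, 0, 0, 0, 2, -1, -1⟩, (0, 1, 0, 1), (0, 0, 0, 1), 0⟩,
  ⟨⟨-1, 1, 0, 0, 0, 2, 1, 1⟩, (0, 1, 0, 0), (0, 1, 0, 1), 0⟩,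
  ⟨⟨-1, 1, -2, 0, -1, -1, -4, 0⟩, (1, 1, 1, 1), (0, 0, 1, 0), 0⟩,
  ⟨⟨-1, 1, -2, 0, -1, -1, 4, 0⟩, (1, 1, 1, 1), (0, 0, 1, 0), 0⟩,
  ⟨⟨-1, 1, -2, 0, 1, 1, -4, 0⟩, (1, 1, 1, 0), (0, 0, 0, 0), 0⟩,
  ⟨⟨-1, 1, -2, 0, 1, 1, 4, 0⟩, (1, 1, 1, 0), (0, 0, 0, 0), 0⟩,
  ⟨⟨-1, 1, 2, 0, -1, -1, -4, 0⟩, (1, 0, 0, 0), (0, 1, 0, 1), 0⟩,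
  ⟨⟨-1, 1, 2, 0, -1, -1, 4, 0⟩, (1, 0, 0, 0), (0, 1, 0, 1), 0⟩,
  ⟨⟨-1, 1, 2, 0, 1, 1, -4, 0⟩, (1, 0, 0, 1), (0, 1, 1, 1), 0⟩,
  ⟨⟨-1, 1, 2, 0, 1, 1, 4, 0⟩, (1, 0, 0, 1), (0, 1, 1, 1), 0⟩,
  ⟨⟨-1, 1, -1, -1, 0, 0, 0, -2⟩, (1, 0, 1, 0), (0, 0, 0, 0), 0⟩,
  ⟨⟨-1, 1, -1, -1, 0, 0, 0, 2⟩, (1, 1, 0, 1), (1, 0, 0, 1), 0⟩,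
  ⟨⟨-1, 1, -1, -1, -4, 0, -2, 0⟩, (1, 0, 1, 1), (1, 1, 0, 0), 0⟩,
  ⟨⟨-1, 1, -1, -1, -4, 0, 2, 0⟩, (1, 1, 0, 0), (0, 1, 0, 1), 0⟩,
  ⟨⟨-1, 1, -1, -1, 4, 0, -2, 0⟩, (1, 0, 1, 1), (1, 1, 0, 0), 0⟩,
  ⟨⟨-1, 1, -1, -1, 4, 0, 2, 0⟩, (1, 1, 0, 0), (0, 1, 0, 1), 0⟩,
  ⟨⟨-1, 1, -1, 1, -1, 1, -3, -1⟩, (0, 1, 1, 0), (1, 1, 1, 0), 0⟩,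
  ⟨⟨-1, 1, -1, 1, -1, 1, 3, 1⟩, (0, 0, 0, 0), (0, 0, 1, 1), 0⟩,
  ⟨⟨-1, 1, -1, 1, 1, -1, -3, -1⟩, (0, 0, 0, 0), (1, 1, 0, 1), 0⟩,
  ⟨⟨-1, 1, -1, 1, 1, -1, 3, 1⟩, (0, 1, 1, 0), (0, 0, 0, 0), 0⟩,
  ⟨⟨-1, 1, -1, 1, -3, -1, -1, 1⟩, (0, 1, 1, 0), (1, 0, 0, 0), 0⟩,
  ⟨⟨-1, 1, -1, 1, -3, -1, 1, -1⟩, (0, 0, 0, 0), (0, 1, 0, 1), 0⟩,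
  ⟨⟨-1, 1, -1, 1, 3, 1, -1, 1⟩, (0, 0, 0, 0), (1, 0, 1, 1), 0⟩,
  ⟨⟨-1, 1, -1, 1, 3, 1, 1, -1⟩, (0, 1, 1, 0), (0, 1, 1, 0), 0⟩,
  ⟨⟨-1, 1, 1, -1, -1, 1, -3, -1⟩, (0, 0, 0, 0), (0, 1, 0, 1), 0⟩,
  ⟨⟨-1, 1, 1, -1, -1, 1, 3, 1⟩, (0, 1, 1, 0), (1, 0, 0, 0), 0⟩,
  ⟨⟨-1, 1, 1, -1, 1, -1, -3, -1⟩, (0, 1, 1, 0), (0, 1, 1, 0), 0⟩,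
  ⟨⟨-1, 1, 1, -1, 1, -1, 3, 1⟩, (0, 0, 0, 0), (1, 0, 1, 1), 0⟩,
  ⟨⟨-1, 1, 1, -1, -3, -1, -1, 1⟩, (0, 0, 0, 0), (0, 0, 1, 1), 0⟩,
  ⟨⟨-1, 1, 1, -1, -3, -1, 1, -1⟩, (0, 1, 1, 0), (1, 1, 1, 0), 0⟩,
  ⟨⟨-1, 1, 1, -1, 3, 1, -1, 1⟩, (0, 1, 1, 0), (0, 0, 0, 0), 0⟩,
  ⟨⟨-1, 1, 1, -1, 3, 1, 1, -1⟩, (0, 0, 0, 0), (1, 1, 0, 1), 0⟩,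
  ⟨⟨-1, 1, 1, 1, 0, 0, 0, -2⟩, (1, 0, 1, 1), (1, 1, 0, 0), 0⟩,
  ⟨⟨-1, 1, 1, 1, 0, 0, 0, 2⟩, (1, 1, 0, 0), (0, 1, 0, 1), 0⟩,
  ⟨⟨-1, 1, 1, 1, -4, 0, -2, 0⟩, (1, 0, 1, 0), (0, 0, 0, 0), 0⟩,
  ⟨⟨-1, 1, 1, 1, -4, 0, 2, 0⟩, (1, 1, 0, 1), (1, 0, 0, 1), 0⟩,
  ⟨⟨-1, 1, 1, 1, 4, 0, -2, 0⟩, (1, 0, 1, 0), (0, 0, 0, 0), 0⟩,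
  ⟨⟨-1, 1, 1, 1, 4, 0, 2, 0⟩, (1, 1, 0, 1), (1, 0, 0, 1), 0⟩,
  ⟨⟨-1, 1, -3, -1, -1, 1, -1, 1⟩, (0, 1, 1, 0), (0, 1, 1, 0), 0⟩,
  ⟨⟨-1, 1, -3, -1, -1, 1, 1, -1⟩, (0, 0, 0, 0), (1, 0, 1, 1), 0⟩,
  ⟨⟨-1, 1, -3, -1, 1, -1, -1, 1⟩, (0, 0, 0, 0), (0, 1, 0, 1), 0⟩,
  ⟨⟨-1, 1, -3, -1, 1, -1, 1, -1⟩, (0, 1, 1, 0), (1, 0, 0, 0), 0⟩,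
  ⟨⟨-1, 1, 3, 1, -1, 1, -1, 1⟩, (0, 0, 0, 0), (1, 1, 0, 1), 0⟩,
  ⟨⟨-1, 1, 3, 1, -1, 1, 1, -1⟩, (0, 1, 1, 0), (0, 0, 0, 0), 0⟩,
  ⟨⟨-1, 1, 3, 1, 1, -1, -1, 1⟩, (0, 1, 1, 0), (1, 1, 1, 0), 0⟩,
  ⟨⟨-1, 1, 3, 1, 1, -1, 1, -1⟩, (0, 0, 0, 0), (0, 0, 1, 1), 0⟩,
  ⟨⟨-1, 1, -4, 0, -2, 0, -1, -1⟩, (0, 0, 1, 1), (0, 1, 0, 0), 0⟩,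
  ⟨⟨-1, 1, -4, 0, -2, 0, 1, 1⟩, (0, 0, 1, 0), (0, 0, 0, 0), 0⟩,
  ⟨⟨-1, 1, -4, 0, 2, 0, -1, -1⟩, (0, 1, 0, 0), (0, 1, 0, 1), 0⟩,
  ⟨⟨-1, 1, -4, 0, 2, 0, 1, 1⟩, (0, 1, 0, 1), (0, 0, 0, 1), 0⟩,
  ⟨⟨-1, 1, 4, 0, -2, 0, -1, -1⟩, (0, 0, 1, 1), (0, 1, 0, 0), 0⟩,
  ⟨⟨-1, 1, 4, 0, -2, 0, 1, 1⟩, (0, 0, 1, 0), (0, 0, 0, 0), 0⟩,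
  ⟨⟨-1, 1, 4, 0, 2, 0, -1, -1⟩, (0, 1, 0, 0), (0, 1, 0, 1), 0⟩,
  ⟨⟨-1, 1, 4, 0, 2, 0, 1, 1⟩, (0, 1, 0, 1), (0, 0, 0, 1), 0⟩,
  ⟨⟨-1, 1, 0, -2, -1, -1, 0, 0⟩, (1, 1, 1, 0), (0, 0, 0, 0), 0⟩,
  ⟨⟨-1, 1, 0, -2, 1, 1, 0, 0⟩, (1, 1, 1, 1), (0, 0, 1, 0), 0⟩,
  ⟨⟨-1, 1, 0, 2, -1, -1, 0, 0⟩, (1, 0, 0, 1), (0, 1, 1, 1), 0⟩,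
  ⟨⟨-1, 1, 0, 2, 1, 1, 0, 0⟩, (1, 0, 0, 0), (0, 1, 0, 1), 0⟩,
  ⟨⟨1, -1, 0, 0, 0, -2, -1, -1⟩, (0, 1, 0, 0), (0, 1, 0, 1), 0⟩,
  ⟨⟨1, -1, 0, 0, 0, -2, 1, 1⟩, (0, 1, 0, 1), (0, 0, 0, 1), 0⟩,
  ⟨⟨1, -1, 0, 0, 0, 2, -1, -1⟩, (0, 0, 1, 1), (0, 1, 0, 0), 0⟩,
  ⟨⟨1, -1, 0, 0, 0, 2, 1, 1⟩, (0, 0, 1, 0), (0, 0, 0, 0), 0⟩,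
  ⟨⟨1, -1, -2, 0, -1, -1, -4, 0⟩, (1, 0, 0, 1), (0, 1, 1, 1), 0⟩,
  ⟨⟨1, -1, -2, 0, -1, -1, 4, 0⟩, (1, 0, 0, 1), (0, 1, 1, 1), 0⟩,
  ⟨⟨1, -1, -2, 0, 1, 1, -4, 0⟩, (1, 0, 0, 0), (0, 1, 0, 1), 0⟩,
  ⟨⟨1, -1, -2, 0, 1, 1, 4, 0⟩, (1, 0, 0, 0), (0, 1, 0, 1), 0⟩,
  ⟨⟨1, -1, 2, 0, -1, -1, -4, 0⟩, (1, 1, 1, 0), (0, 0, 0, 0), 0⟩,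
  ⟨⟨1, -1, 2, 0, -1, -1, 4, 0⟩, (1, 1, 1, 0), (0, 0, 0, 0), 0⟩,
  ⟨⟨1, -1, 2, 0, 1, 1, -4, 0⟩, (1, 1, 1, 1), (0, 0, 1, 0), 0⟩,
  ⟨⟨1, -1, 2, 0, 1, 1, 4, 0⟩, (1, 1, 1, 1), (0, 0, 1, 0), 0⟩,
  ⟨⟨1, -1, -1, -1, 0, 0, 0, -2⟩, (1, 1, 0, 0), (0, 1, 0, 1), 0⟩,
  ⟨⟨1, -1, -1, -1, 0, 0, 0, 2⟩, (1, 0, 1, 1), (1, 1, 0, 0), 0⟩,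
  ⟨⟨1, -1, -1, -1, -4, 0, -2, 0⟩, (1, 1, 0, 1), (1, 0, 0, 1), 0⟩,
  ⟨⟨1, -1, -1, -1, -4, 0, 2, 0⟩, (1, 0, 1, 0), (0, 0, 0, 0), 0⟩,
  ⟨⟨1, -1, -1, -1, 4, 0, -2, 0⟩, (1, 1, 0, 1), (1, 0, 0, 1), 0⟩,
  ⟨⟨1, -1, -1, -1, 4, 0, 2, 0⟩, (1, 0, 1, 0), (0, 0, 0, 0), 0⟩,
  ⟨⟨1, -1, -1, 1, -1, 1, -3, -1⟩, (0, 0, 0, 0), (1, 0, 1, 1), 0⟩,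
  ⟨⟨1, -1, -1, 1, -1, 1, 3, 1⟩, (0, 1, 1, 0), (0, 1, 1, 0), 0⟩,
  ⟨⟨1, -1, -1, 1, 1, -1, -3, -1⟩, (0, 1, 1, 0), (1, 0, 0, 0), 0⟩,
  ⟨⟨1, -1, -1, 1, 1, -1, 3, 1⟩, (0, 0, 0, 0), (0, 1, 0, 1), 0⟩,
  ⟨⟨1, -1, -1, 1, -3, -1, -1, 1⟩, (0, 0, 0, 0), (1, 1, 0, 1), 0⟩,
  ⟨⟨1, -1, -1, 1, -3, -1, 1, -1⟩, (0, 1, 1, 0), (0, 0, 0, 0), 0⟩,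
  ⟨⟨1, -1, -1, 1, 3, 1, -1, 1⟩, (0, 1, 1, 0), (1, 1, 1, 0), 0⟩,
  ⟨⟨1, -1, -1, 1, 3, 1, 1, -1⟩, (0, 0, 0, 0), (0, 0, 1, 1), 0⟩,
  ⟨⟨1, -1, 1, -1, -1, 1, -3, -1⟩, (0, 1, 1, 0), (0, 0, 0, 0), 0⟩,
  ⟨⟨1, -1, 1, -1, -1, 1, 3, 1⟩, (0, 0, 0, 0), (1, 1, 0, 1), 0⟩,
  ⟨⟨1, -1, 1, -1, 1, -1, -3, -1⟩, (0, 0, 0, 0), (0, 0, 1, 1), 0⟩,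
  ⟨⟨1, -1, 1, -1, 1, -1, 3, 1⟩, (0, 1, 1, 0), (1, 1, 1, 0), 0⟩,
  ⟨⟨1, -1, 1, -1, -3, -1, -1, 1⟩, (0, 1, 1, 0), (0, 1, 1, 0), 0⟩,
  ⟨⟨1, -1, 1, -1, -3, -1, 1, -1⟩, (0, 0, 0, 0), (1, 0, 1, 1), 0⟩,
  ⟨⟨1, -1, 1, -1, 3, 1, -1, 1⟩, (0, 0, 0, 0), (0, 1, 0, 1), 0⟩,
  ⟨⟨1, -1, 1, -1, 3, 1, 1, -1⟩, (0, 1, 1, 0), (1, 0, 0, 0), 0⟩,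
  ⟨⟨1, -1, 1, 1, 0, 0, 0, -2⟩, (1, 1, 0, 1), (1, 0, 0, 1), 0⟩,
  ⟨⟨1, -1, 1, 1, 0, 0, 0, 2⟩, (1, 0, 1, 0), (0, 0, 0, 0), 0⟩,
  ⟨⟨1, -1, 1, 1, -4, 0, -2, 0⟩, (1, 1, 0, 0), (0, 1, 0, 1), 0⟩,
  ⟨⟨1, -1, 1, 1, -4, 0, 2, 0⟩, (1, 0, 1, 1), (1, 1, 0, 0), 0⟩,
  ⟨⟨1, -1, 1, 1, 4, 0, -2, 0⟩, (1, 1, 0, 0), (0, 1, 0, 1), 0⟩,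
  ⟨⟨1, -1, 1, 1, 4, 0, 2, 0⟩, (1, 0, 1, 1), (1, 1, 0, 0), 0⟩,
  ⟨⟨1, -1, -3, -1, -1, 1, -1, 1⟩, (0, 0, 0, 0), (0, 0, 1, 1), 0⟩,
  ⟨⟨1, -1, -3, -1, -1, 1, 1, -1⟩, (0, 1, 1, 0), (1, 1, 1, 0), 0⟩,
  ⟨⟨1, -1, -3, -1, 1, -1, -1, 1⟩, (0, 1, 1, 0), (0, 0, 0, 0), 0⟩,
  ⟨⟨1, -1, -3, -1, 1, -1, 1, -1⟩, (0, 0, 0, 0), (1, 1, 0, 1), 0⟩,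
  ⟨⟨1, -1, 3, 1, -1, 1, -1, 1⟩, (0, 1, 1, 0), (1, 0, 0, 0), 0⟩,
  ⟨⟨1, -1, 3, 1, -1, 1, 1, -1⟩, (0, 0, 0, 0), (0, 1, 0, 1), 0⟩,
  ⟨⟨1, -1, 3, 1, 1, -1, -1, 1⟩, (0, 0, 0, 0), (1, 0, 1, 1), 0⟩,
  ⟨⟨1, -1, 3, 1, 1, -1, 1, -1⟩, (0, 1, 1, 0), (0, 1, 1, 0), 0⟩,
  ⟨⟨1, -1, -4, 0, -2, 0, -1, -1⟩, (0, 1, 0, 1), (0, 0, 0, 1), 0⟩,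
  ⟨⟨1, -1, -4, 0, -2, 0, 1, 1⟩, (0, 1, 0, 0), (0, 1, 0, 1), 0⟩,
  ⟨⟨1, -1, -4, 0, 2, 0, -1, -1⟩, (0, 0, 1, 0), (0, 0, 0, 0), 0⟩,
  ⟨⟨1, -1, -4, 0, 2, 0, 1, 1⟩, (0, 0, 1, 1), (0, 1, 0, 0), 0⟩,
  ⟨⟨1, -1, 4, 0, -2, 0, -1, -1⟩, (0, 1, 0, 1), (0, 0, 0, 1), 0⟩,
  ⟨⟨1, -1, 4, 0, -2, 0, 1, 1⟩, (0, 1, 0, 0), (0, 1, 0, 1), 0⟩,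
  ⟨⟨1, -1, 4, 0, 2, 0, -1, -1⟩, (0, 0, 1, 0), (0, 0, 0, 0), 0⟩,
  ⟨⟨1, -1, 4, 0, 2, 0, 1, 1⟩, (0, 0, 1, 1), (0, 1, 0, 0), 0⟩,
  ⟨⟨1, -1, 0, -2, -1, -1, 0, 0⟩, (1, 0, 0, 0), (0, 1, 0, 1), 0⟩,
  ⟨⟨1, -1, 0, -2, 1, 1, 0, 0⟩, (1, 0, 0, 1), (0, 1, 1, 1), 0⟩,
  ⟨⟨1, -1, 0, 2, -1, -1, 0, 0⟩, (1, 1, 1, 1), (0, 0, 1, 0), 0⟩,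
  ⟨⟨1, -1, 0, 2, 1, 1, 0, 0⟩, (1, 1, 1, 0), (0, 0, 0, 0), 0⟩,
  ⟨⟨1, 1, 0, 0, -1, 1, 0, -2⟩, (1, 1, 1, 0), (1, 0, 0, 1), 0⟩,
  ⟨⟨1, 1, 0, 0, -1, 1, 0, 2⟩, (1, 0, 0, 1), (0, 0, 0, 0), 0⟩,
  ⟨⟨1, 1, 0, 0, 1, -1, 0, -2⟩, (1, 0, 0, 0), (1, 0, 1, 0), 0⟩,
  ⟨⟨1, 1, 0, 0, 1, -1, 0, 2⟩, (1, 1, 1, 1), (0, 0, 1, 1), 0⟩,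
  ⟨⟨1, 1, -2, 0, -4, 0, -1, 1⟩, (0, 0, 1, 1), (1, 1, 0, 1), 0⟩,
  ⟨⟨1, 1, -2, 0, -4, 0, 1, -1⟩, (0, 1, 0, 1), (0, 0, 0, 0), 0⟩,
  ⟨⟨1, 1, -2, 0, 4, 0, -1, 1⟩, (0, 0, 1, 1), (1, 1, 0, 1), 0⟩,
  ⟨⟨1, 1, -2, 0, 4, 0, 1, -1⟩, (0, 1, 0, 1), (0, 0, 0, 0), 0⟩,
  ⟨⟨1, 1, 2, 0, -4, 0, -1, 1⟩, (0, 1, 0, 0), (1, 0, 1, 0), 0⟩,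
  ⟨⟨1, 1, 2, 0, -4, 0, 1, -1⟩, (0, 0, 1, 0), (0, 1, 1, 1), 0⟩,
  ⟨⟨1, 1, 2, 0, 4, 0, -1, 1⟩, (0, 1, 0, 0), (1, 0, 1, 0), 0⟩,
  ⟨⟨1, 1, 2, 0, 4, 0, 1, -1⟩, (0, 0, 1, 0), (0, 1, 1, 1), 0⟩,
  ⟨⟨1, 1, -1, -1, -1, -1, -3, 1⟩, (0, 0, 0, 1), (1, 0, 0, 0), 0⟩,
  ⟨⟨1, 1, -1, -1, -1, -1, 3, -1⟩, (0, 0, 0, 0), (1, 1, 0, 0), 0⟩,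
  ⟨⟨1, 1, -1, -1, 1, 1, -3, 1⟩, (0, 0, 0, 0), (1, 0, 1, 0), 0⟩,
  ⟨⟨1, 1, -1, -1, 1, 1, 3, -1⟩, (0, 0, 0, 1), (1, 1, 1, 0), 0⟩,
  ⟨⟨1, 1, -1, -1, -3, 1, -1, -1⟩, (0, 0, 0, 1), (0, 1, 1, 0), 0⟩,
  ⟨⟨1, 1, -1, -1, -3, 1, 1, 1⟩, (0, 0, 0, 0), (0, 0, 1, 0), 0⟩,
  ⟨⟨1, 1, -1, -1, 3, -1, -1, -1⟩, (0, 0, 0, 0), (0, 1, 0, 0), 0⟩,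
  ⟨⟨1, 1, -1, -1, 3, -1, 1, 1⟩, (0, 0, 0, 1), (0, 0, 0, 0), 0⟩,
  ⟨⟨1, 1, -1, 1, -2, 0, -4, 0⟩, (1, 0, 1, 1), (1, 0, 1, 1), 0⟩,
  ⟨⟨1, 1, -1, 1, -2, 0, 4, 0⟩, (1, 0, 1, 1), (1, 0, 1, 1), 0⟩,
  ⟨⟨1, 1, -1, 1, 2, 0, -4, 0⟩, (1, 1, 0, 0), (1, 0, 1, 0), 0⟩,
  ⟨⟨1, 1, -1, 1, 2, 0, 4, 0⟩, (1, 1, 0, 0), (1, 0, 1, 0), 0⟩,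
  ⟨⟨1, 1, -1, 1, 0, -2, 0, 0⟩, (1, 0, 1, 0), (0, 0, 0, 1), 0⟩,
  ⟨⟨1, 1, -1, 1, 0, 2, 0, 0⟩, (1, 1, 0, 1), (0, 0, 0, 0), 0⟩,
  ⟨⟨1, 1, 1, -1, -2, 0, -4, 0⟩, (1, 1, 0, 1), (0, 0, 0, 0), 0⟩,
  ⟨⟨1, 1, 1, -1, -2, 0, 4, 0⟩, (1, 1, 0, 1), (0, 0, 0, 0), 0⟩,
  ⟨⟨1, 1, 1, -1, 2, 0, -4, 0⟩, (1, 0, 1, 0), (0, 0, 0, 1), 0⟩,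
  ⟨⟨1, 1, 1, -1, 2, 0, 4, 0⟩, (1, 0, 1, 0), (0, 0, 0, 1), 0⟩,
  ⟨⟨1, 1, 1, -1, 0, -2, 0, 0⟩, (1, 1, 0, 0), (1, 0, 1, 0), 0⟩,
  ⟨⟨1, 1, 1, -1, 0, 2, 0, 0⟩, (1, 0, 1, 1), (1, 0, 1, 1), 0⟩,
  ⟨⟨1, 1, 1, 1, -1, -1, -3, 1⟩, (0, 0, 0, 0), (0, 1, 0, 0), 0⟩,
  ⟨⟨1, 1, 1, 1, -1, -1, 3, -1⟩, (0, 0, 0, 1), (0, 0, 0, 0), 0⟩,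
  ⟨⟨1, 1, 1, 1, 1, 1, -3, 1⟩, (0, 0, 0, 1), (0, 1, 1, 0), 0⟩,
  ⟨⟨1, 1, 1, 1, 1, 1, 3, -1⟩, (0, 0, 0, 0), (0, 0, 1, 0), 0⟩,
  ⟨⟨1, 1, 1, 1, -3, 1, -1, -1⟩, (0, 0, 0, 0), (1, 0, 1, 0), 0⟩,
  ⟨⟨1, 1, 1, 1, -3, 1, 1, 1⟩, (0, 0, 0, 1), (1, 1, 1, 0), 0⟩,
  ⟨⟨1, 1, 1, 1, 3, -1, -1, -1⟩, (0, 0, 0, 1), (1, 0, 0, 0), 0⟩,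
  ⟨⟨1, 1, 1, 1, 3, -1, 1, 1⟩, (0, 0, 0, 0), (1, 1, 0, 0), 0⟩,
  ⟨⟨1, 1, -3, 1, -1, -1, -1, -1⟩, (0, 0, 0, 1), (1, 1, 1, 0), 0⟩,
  ⟨⟨1, 1, -3, 1, -1, -1, 1, 1⟩, (0, 0, 0, 0), (1, 0, 1, 0), 0⟩,
  ⟨⟨1, 1, -3, 1, 1, 1, -1, -1⟩, (0, 0, 0, 0), (1, 1, 0, 0), 0⟩,
  ⟨⟨1, 1, -3, 1, 1, 1, 1, 1⟩, (0, 0, 0, 1), (1, 0, 0, 0), 0⟩,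
  ⟨⟨1, 1, 3, -1, -1, -1, -1, -1⟩, (0, 0, 0, 0), (0, 0, 1, 0), 0⟩,
  ⟨⟨1, 1, 3, -1, -1, -1, 1, 1⟩, (0, 0, 0, 1), (0, 1, 1, 0), 0⟩,
  ⟨⟨1, 1, 3, -1, 1, 1, -1, -1⟩, (0, 0, 0, 1), (0, 0, 0, 0), 0⟩,
  ⟨⟨1, 1, 3, -1, 1, 1, 1, 1⟩, (0, 0, 0, 0), (0, 1, 0, 0), 0⟩,
  ⟨⟨1, 1, -4, 0, -1, 1, -2, 0⟩, (1, 1, 1, 1), (0, 0, 1, 1), 0⟩,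
  ⟨⟨1, 1, -4, 0, -1, 1, 2, 0⟩, (1, 0, 0, 0), (1, 0, 1, 0), 0⟩,
  ⟨⟨1, 1, -4, 0, 1, -1, -2, 0⟩, (1, 0, 0, 1), (0, 0, 0, 0), 0⟩,
  ⟨⟨1, 1, -4, 0, 1, -1, 2, 0⟩, (1, 1, 1, 0), (1, 0, 0, 1), 0⟩,
  ⟨⟨1, 1, 4, 0, -1, 1, -2, 0⟩, (1, 1, 1, 1), (0, 0, 1, 1), 0⟩,
  ⟨⟨1, 1, 4, 0, -1, 1, 2, 0⟩, (1, 0, 0, 0), (1, 0, 1, 0), 0⟩,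
  ⟨⟨1, 1, 4, 0, 1, -1, -2, 0⟩, (1, 0, 0, 1), (0, 0, 0, 0), 0⟩,
  ⟨⟨1, 1, 4, 0, 1, -1, 2, 0⟩, (1, 1, 1, 0), (1, 0, 0, 1), 0⟩,
  ⟨⟨1, 1, 0, -2, 0, 0, -1, 1⟩, (0, 0, 1, 0), (0, 1, 1, 1), 0⟩,
  ⟨⟨1, 1, 0, -2, 0, 0, 1, -1⟩, (0, 1, 0, 0), (1, 0, 1, 0), 0⟩,
  ⟨⟨1, 1, 0, 2, 0, 0, -1, 1⟩, (0, 1, 0, 1), (0, 0, 0, 0), 0⟩,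
  ⟨⟨1, 1, 0, 2, 0, 0, 1, -1⟩, (0, 0, 1, 1), (1, 1, 0, 1), 0⟩,
  ⟨⟨-3, -1, 0, 0, -2, 0, -3, 1⟩, (0, 0, 1, 1), (0, 1, 0, 0), 0⟩,
  ⟨⟨-3, -1, 0, 0, -2, 0, 3, -1⟩, (0, 0, 1, 0), (0, 0, 0, 0), 0⟩,
  ⟨⟨-3, -1, 0, 0, 2, 0, -3, 1⟩, (0, 1, 0, 0), (0, 1, 0, 1), 0⟩,
  ⟨⟨-3, -1, 0, 0, 2, 0, 3, -1⟩, (0, 1, 0, 1), (0, 0, 0, 1), 0⟩,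
  ⟨⟨-3, -1, -2, 0, -3, 1, 0, 0⟩, (1, 1, 1, 1), (0, 0, 1, 0), 0⟩,
  ⟨⟨-3, -1, -2, 0, 3, -1, 0, 0⟩, (1, 1, 1, 0), (0, 0, 0, 0), 0⟩,
  ⟨⟨-3, -1, 2, 0, -3, 1, 0, 0⟩, (1, 0, 0, 0), (0, 1, 0, 1), 0⟩,
  ⟨⟨-3, -1, 2, 0, 3, -1, 0, 0⟩, (1, 0, 0, 1), (0, 1, 1, 1), 0⟩,
  ⟨⟨-3, -1, -1, 1, -1, 1, -1, 1⟩, (0, 1, 1, 0), (0, 0, 0, 0), 0⟩,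
  ⟨⟨-3, -1, -1, 1, -1, 1, 1, -1⟩, (0, 0, 0, 0), (1, 1, 0, 1), 0⟩,
  ⟨⟨-3, -1, -1, 1, 1, -1, -1, 1⟩, (0, 0, 0, 0), (0, 0, 1, 1), 0⟩,
  ⟨⟨-3, -1, -1, 1, 1, -1, 1, -1⟩, (0, 1, 1, 0), (1, 1, 1, 0), 0⟩,
  ⟨⟨-3, -1, 1, -1, -1, 1, -1, 1⟩, (0, 0, 0, 0), (1, 0, 1, 1), 0⟩,
  ⟨⟨-3, -1, 1, -1, -1, 1, 1, -1⟩, (0, 1, 1, 0), (0, 1, 1, 0), 0⟩,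
  ⟨⟨-3, -1, 1, -1, 1, -1, -1, 1⟩, (0, 1, 1, 0), (1, 0, 0, 0), 0⟩,
  ⟨⟨-3, -1, 1, -1, 1, -1, 1, -1⟩, (0, 0, 0, 0), (0, 1, 0, 1), 0⟩,
  ⟨⟨-3, -1, -3, 1, 0, 0, -2, 0⟩, (1, 0, 1, 1), (1, 1, 0, 0), 0⟩,
  ⟨⟨-3, -1, -3, 1, 0, 0, 2, 0⟩, (1, 1, 0, 0), (0, 1, 0, 1), 0⟩,
  ⟨⟨-3, -1, 3, -1, 0, 0, -2, 0⟩, (1, 0, 1, 0), (0, 0, 0, 0), 0⟩,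
  ⟨⟨-3, -1, 3, -1, 0, 0, 2, 0⟩, (1, 1, 0, 1), (1, 0, 0, 1), 0⟩,
  ⟨⟨-3, 1, 0, 0, -3, -1, -2, 0⟩, (1, 1, 1, 0), (1, 0, 0, 1), 0⟩,
  ⟨⟨-3, 1, 0, 0, -3, -1, 2, 0⟩, (1, 0, 0, 1), (0, 0, 0, 0), 0⟩,
  ⟨⟨-3, 1, 0, 0, 3, 1, -2, 0⟩, (1, 0, 0, 0), (1, 0, 1, 0), 0⟩,
  ⟨⟨-3, 1, 0, 0, 3, 1, 2, 0⟩, (1, 1, 1, 1), (0, 0, 1, 1), 0⟩,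
  ⟨⟨-3, 1, -2, 0, 0, 0, -3, -1⟩, (0, 0, 1, 0), (0, 1, 1, 1), 0⟩,
  ⟨⟨-3, 1, -2, 0, 0, 0, 3, 1⟩, (0, 1, 0, 0), (1, 0, 1, 0), 0⟩,
  ⟨⟨-3, 1, 2, 0, 0, 0, -3, -1⟩, (0, 1, 0, 1), (0, 0, 0, 0), 0⟩,
  ⟨⟨-3, 1, 2, 0, 0, 0, 3, 1⟩, (0, 0, 1, 1), (1, 1, 0, 1), 0⟩,
  ⟨⟨-3, 1, -1, -1, -1, -1, -1, -1⟩, (0, 0, 0, 0), (1, 0, 1, 0), 0⟩,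
  ⟨⟨-3, 1, -1, -1, -1, -1, 1, 1⟩, (0, 0, 0, 1), (1, 1, 1, 0), 0⟩,
  ⟨⟨-3, 1, -1, -1, 1, 1, -1, -1⟩, (0, 0, 0, 1), (1, 0, 0, 0), 0⟩,
  ⟨⟨-3, 1, -1, -1, 1, 1, 1, 1⟩, (0, 0, 0, 0), (1, 1, 0, 0), 0⟩,
  ⟨⟨-3, 1, 1, 1, -1, -1, -1, -1⟩, (0, 0, 0, 1), (0, 1, 1, 0), 0⟩,
  ⟨⟨-3, 1, 1, 1, -1, -1, 1, 1⟩, (0, 0, 0, 0), (0, 0, 1, 0), 0⟩,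
  ⟨⟨-3, 1, 1, 1, 1, 1, -1, -1⟩, (0, 0, 0, 0), (0, 1, 0, 0), 0⟩,
  ⟨⟨-3, 1, 1, 1, 1, 1, 1, 1⟩, (0, 0, 0, 1), (0, 0, 0, 0), 0⟩,
  ⟨⟨-3, 1, -3, -1, -2, 0, 0, 0⟩, (1, 0, 1, 0), (0, 0, 0, 1), 0⟩,
  ⟨⟨-3, 1, -3, -1, 2, 0, 0, 0⟩, (1, 1, 0, 1), (0, 0, 0, 0), 0⟩,
  ⟨⟨-3, 1, 3, 1, -2, 0, 0, 0⟩, (1, 1, 0, 0), (1, 0, 1, 0), 0⟩,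
  ⟨⟨-3, 1, 3, 1, 2, 0, 0, 0⟩, (1, 0, 1, 1), (1, 0, 1, 1), 0⟩,
  ⟨⟨3, -1, 0, 0, -3, -1, -2, 0⟩, (1, 1, 1, 1), (0, 0, 1, 1), 0⟩,
  ⟨⟨3, -1, 0, 0, -3, -1, 2, 0⟩, (1, 0, 0, 0), (1, 0, 1, 0), 0⟩,
  ⟨⟨3, -1, 0, 0, 3, 1, -2, 0⟩, (1, 0, 0, 1), (0, 0, 0, 0), 0⟩,
  ⟨⟨3, -1, 0, 0, 3, 1, 2, 0⟩, (1, 1, 1, 0), (1, 0, 0, 1), 0⟩,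
  ⟨⟨3, -1, -2, 0, 0, 0, -3, -1⟩, (0, 0, 1, 1), (1, 1, 0, 1), 0⟩,
  ⟨⟨3, -1, -2, 0, 0, 0, 3, 1⟩, (0, 1, 0, 1), (0, 0, 0, 0), 0⟩,
  ⟨⟨3, -1, 2, 0, 0, 0, -3, -1⟩, (0, 1, 0, 0), (1, 0, 1, 0), 0⟩,
  ⟨⟨3, -1, 2, 0, 0, 0, 3, 1⟩, (0, 0, 1, 0), (0, 1, 1, 1), 0⟩,
  ⟨⟨3, -1, -1, -1, -1, -1, -1, -1⟩, (0, 0, 0, 1), (0, 0, 0, 0), 0⟩,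
  ⟨⟨3, -1, -1, -1, -1, -1, 1, 1⟩, (0, 0, 0, 0), (0, 1, 0, 0), 0⟩,
  ⟨⟨3, -1, -1, -1, 1, 1, -1, -1⟩, (0, 0, 0, 0), (0, 0, 1, 0), 0⟩,
  ⟨⟨3, -1, -1, -1, 1, 1, 1, 1⟩, (0, 0, 0, 1), (0, 1, 1, 0), 0⟩,
  ⟨⟨3, -1, 1, 1, -1, -1, -1, -1⟩, (0, 0, 0, 0), (1, 1, 0, 0), 0⟩,
  ⟨⟨3, -1, 1, 1, -1, -1, 1, 1⟩, (0, 0, 0, 1), (1, 0, 0, 0), 0⟩,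
  ⟨⟨3, -1, 1, 1, 1, 1, -1, -1⟩, (0, 0, 0, 1), (1, 1, 1, 0), 0⟩,
  ⟨⟨3, -1, 1, 1, 1, 1, 1, 1⟩, (0, 0, 0, 0), (1, 0, 1, 0), 0⟩,
  ⟨⟨3, -1, -3, -1, -2, 0, 0, 0⟩, (1, 0, 1, 1), (1, 0, 1, 1), 0⟩,
  ⟨⟨3, -1, -3, -1, 2, 0, 0, 0⟩, (1, 1, 0, 0), (1, 0, 1, 0), 0⟩,
  ⟨⟨3, -1, 3, 1, -2, 0, 0, 0⟩, (1, 1, 0, 1), (0, 0, 0, 0), 0⟩,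
  ⟨⟨3, -1, 3, 1, 2, 0, 0, 0⟩, (1, 0, 1, 0), (0, 0, 0, 1), 0⟩,
  ⟨⟨3, 1, 0, 0, -2, 0, -3, 1⟩, (0, 1, 0, 1), (0, 0, 0, 1), 0⟩,
  ⟨⟨3, 1, 0, 0, -2, 0, 3, -1⟩, (0, 1, 0, 0), (0, 1, 0, 1), 0⟩,
  ⟨⟨3, 1, 0, 0, 2, 0, -3, 1⟩, (0, 0, 1, 0), (0, 0, 0, 0), 0⟩,
  ⟨⟨3, 1, 0, 0, 2, 0, 3, -1⟩, (0, 0, 1, 1), (0, 1, 0, 0), 0⟩,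
  ⟨⟨3, 1, -2, 0, -3, 1, 0, 0⟩, (1, 0, 0, 1), (0, 1, 1, 1), 0⟩,
  ⟨⟨3, 1, -2, 0, 3, -1, 0, 0⟩, (1, 0, 0, 0), (0, 1, 0, 1), 0⟩,
  ⟨⟨3, 1, 2, 0, -3, 1, 0, 0⟩, (1, 1, 1, 0), (0, 0, 0, 0), 0⟩,
  ⟨⟨3, 1, 2, 0, 3, -1, 0, 0⟩, (1, 1, 1, 1), (0, 0, 1, 0), 0⟩,
  ⟨⟨3, 1, -1, 1, -1, 1, -1, 1⟩, (0, 0, 0, 0), (0, 1, 0, 1), 0⟩,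
  ⟨⟨3, 1, -1, 1, -1, 1, 1, -1⟩, (0, 1, 1, 0), (1, 0, 0, 0), 0⟩,
  ⟨⟨3, 1, -1, 1, 1, -1, -1, 1⟩, (0, 1, 1, 0), (0, 1, 1, 0), 0⟩,
  ⟨⟨3, 1, -1, 1, 1, -1, 1, -1⟩, (0, 0, 0, 0), (1, 0, 1, 1), 0⟩,
  ⟨⟨3, 1, 1, -1, -1, 1, -1, 1⟩, (0, 1, 1, 0), (1, 1, 1, 0), 0⟩,
  ⟨⟨3, 1, 1, -1, -1, 1, 1, -1⟩, (0, 0, 0, 0), (0, 0, 1, 1), 0⟩,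
  ⟨⟨3, 1, 1, -1, 1, -1, -1, 1⟩, (0, 0, 0, 0), (1, 1, 0, 1), 0⟩,
  ⟨⟨3, 1, 1, -1, 1, -1, 1, -1⟩, (0, 1, 1, 0), (0, 0, 0, 0), 0⟩,
  ⟨⟨3, 1, -3, 1, 0, 0, -2, 0⟩, (1, 1, 0, 1), (1, 0, 0, 1), 0⟩,
  ⟨⟨3, 1, -3, 1, 0, 0, 2, 0⟩, (1, 0, 1, 0), (0, 0, 0, 0), 0⟩,
  ⟨⟨3, 1, 3, -1, 0, 0, -2, 0⟩, (1, 1, 0, 0), (0, 1, 0, 1), 0⟩,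
  ⟨⟨3, 1, 3, -1, 0, 0, 2, 0⟩, (1, 0, 1, 1), (1, 1, 0, 0), 0⟩,
  ⟨⟨-4, 0, 0, 0, 0, 0, -4, 0⟩, (0, 0, 0, 0), (0, 1, 1, 0), 0⟩,
  ⟨⟨-4, 0, 0, 0, 0, 0, 4, 0⟩, (0, 0, 0, 0), (0, 1, 1, 0), 0⟩,
  ⟨⟨-4, 0, 0, 0, -4, 0, 0, 0⟩, (0, 0, 0, 0), (1, 1, 1, 0), 0⟩,
  ⟨⟨-4, 0, 0, 0, 4, 0, 0, 0⟩, (0, 0, 0, 0), (1, 1, 1, 0), 0⟩,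
  ⟨⟨-4, 0, -2, 0, -1, 1, -1, -1⟩, (1, 1, 0, 0), (0, 0, 0, 0), 0⟩,
  ⟨⟨-4, 0, -2, 0, -1, 1, 1, 1⟩, (1, 1, 0, 1), (0, 1, 0, 0), 0⟩,
  ⟨⟨-4, 0, -2, 0, 1, -1, -1, -1⟩, (1, 0, 1, 0), (0, 0, 1, 1), 0⟩,
  ⟨⟨-4, 0, -2, 0, 1, -1, 1, 1⟩, (1, 0, 1, 1), (0, 1, 1, 1), 0⟩,
  ⟨⟨-4, 0, 2, 0, -1, 1, -1, -1⟩, (1, 0, 1, 1), (0, 1, 1, 1), 0⟩,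
  ⟨⟨-4, 0, 2, 0, -1, 1, 1, 1⟩, (1, 0, 1, 0), (0, 0, 1, 1), 0⟩,
  ⟨⟨-4, 0, 2, 0, 1, -1, -1, -1⟩, (1, 1, 0, 1), (0, 1, 0, 0), 0⟩,
  ⟨⟨-4, 0, 2, 0, 1, -1, 1, 1⟩, (1, 1, 0, 0), (0, 0, 0, 0), 0⟩,
  ⟨⟨-4, 0, -1, -1, -2, 0, -1, 1⟩, (1, 0, 0, 0), (0, 0, 0, 0), 0⟩,
  ⟨⟨-4, 0, -1, -1, -2, 0, 1, -1⟩, (1, 1, 1, 0), (1, 1, 0, 1), 0⟩,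
  ⟨⟨-4, 0, -1, -1, 2, 0, -1, 1⟩, (1, 1, 1, 1), (0, 0, 0, 1), 0⟩,
  ⟨⟨-4, 0, -1, -1, 2, 0, 1, -1⟩, (1, 0, 0, 1), (1, 1, 0, 0), 0⟩,
  ⟨⟨-4, 0, -1, 1, -1, -1, -2, 0⟩, (0, 1, 0, 0), (0, 0, 0, 0), 0⟩,
  ⟨⟨-4, 0, -1, 1, -1, -1, 2, 0⟩, (0, 0, 1, 1), (1, 0, 0, 1), 0⟩,
  ⟨⟨-4, 0, -1, 1, 1, 1, -2, 0⟩, (0, 1, 0, 1), (0, 0, 1, 0), 0⟩,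
  ⟨⟨-4, 0, -1, 1, 1, 1, 2, 0⟩, (0, 0, 1, 0), (1, 0, 1, 1), 0⟩,
  ⟨⟨-4, 0, 1, -1, -1, -1, -2, 0⟩, (0, 0, 1, 0), (1, 0, 1, 1), 0⟩,
  ⟨⟨-4, 0, 1, -1, -1, -1, 2, 0⟩, (0, 1, 0, 1), (0, 0, 1, 0), 0⟩,
  ⟨⟨-4, 0, 1, -1, 1, 1, -2, 0⟩, (0, 0, 1, 1), (1, 0, 0, 1), 0⟩,
  ⟨⟨-4, 0, 1, -1, 1, 1, 2, 0⟩, (0, 1, 0, 0), (0, 0, 0, 0), 0⟩,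
  ⟨⟨-4, 0, 1, 1, -2, 0, -1, 1⟩, (1, 0, 0, 1), (1, 1, 0, 0), 0⟩,
  ⟨⟨-4, 0, 1, 1, -2, 0, 1, -1⟩, (1, 1, 1, 1), (0, 0, 0, 1), 0⟩,
  ⟨⟨-4, 0, 1, 1, 2, 0, -1, 1⟩, (1, 1, 1, 0), (1, 1, 0, 1), 0⟩,
  ⟨⟨-4, 0, 1, 1, 2, 0, 1, -1⟩, (1, 0, 0, 0), (0, 0, 0, 0), 0⟩,
  ⟨⟨-4, 0, -4, 0, 0, 0, 0, 0⟩, (0, 0, 0, 0), (1, 0, 0, 0), 0⟩,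
  ⟨⟨-4, 0, 4, 0, 0, 0, 0, 0⟩, (0, 0, 0, 0), (1, 0, 0, 0), 0⟩,
  ⟨⟨4, 0, 0, 0, 0, 0, -4, 0⟩, (0, 0, 0, 0), (0, 1, 1, 0), 0⟩,
  ⟨⟨4, 0, 0, 0, 0, 0, 4, 0⟩, (0, 0, 0, 0), (0, 1, 1, 0), 0⟩,
  ⟨⟨4, 0, 0, 0, -4, 0, 0, 0⟩, (0, 0, 0, 0), (1, 1, 1, 0), 0⟩,
  ⟨⟨4, 0, 0, 0, 4, 0, 0, 0⟩, (0, 0, 0, 0), (1, 1, 1, 0), 0⟩,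
  ⟨⟨4, 0, -2, 0, -1, 1, -1, -1⟩, (1, 1, 0, 0), (0, 0, 0, 0), 0⟩,
  ⟨⟨4, 0, -2, 0, -1, 1, 1, 1⟩, (1, 1, 0, 1), (0, 1, 0, 0), 0⟩,
  ⟨⟨4, 0, -2, 0, 1, -1, -1, -1⟩, (1, 0, 1, 0), (0, 0, 1, 1), 0⟩,
  ⟨⟨4, 0, -2, 0, 1, -1, 1, 1⟩, (1, 0, 1, 1), (0, 1, 1, 1), 0⟩,
  ⟨⟨4, 0, 2, 0, -1, 1, -1, -1⟩, (1, 0, 1, 1), (0, 1, 1, 1), 0⟩,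
  ⟨⟨4, 0, 2, 0, -1, 1, 1, 1⟩, (1, 0, 1, 0), (0, 0, 1, 1), 0⟩,
  ⟨⟨4, 0, 2, 0, 1, -1, -1, -1⟩, (1, 1, 0, 1), (0, 1, 0, 0), 0⟩,
  ⟨⟨4, 0, 2, 0, 1, -1, 1, 1⟩, (1, 1, 0, 0), (0, 0, 0, 0), 0⟩,
  ⟨⟨4, 0, -1, -1, -2, 0, -1, 1⟩, (1, 0, 0, 0), (0, 0, 0, 0), 0⟩,
  ⟨⟨4, 0, -1, -1, -2, 0, 1, -1⟩, (1, 1, 1, 0), (1, 1, 0, 1), 0⟩,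
  ⟨⟨4, 0, -1, -1, 2, 0, -1, 1⟩, (1, 1, 1, 1), (0, 0, 0, 1), 0⟩,
  ⟨⟨4, 0, -1, -1, 2, 0, 1, -1⟩, (1, 0, 0, 1), (1, 1, 0, 0), 0⟩,
  ⟨⟨4, 0, -1, 1, -1, -1, -2, 0⟩, (0, 1, 0, 0), (0, 0, 0, 0), 0⟩,
  ⟨⟨4, 0, -1, 1, -1, -1, 2, 0⟩, (0, 0, 1, 1), (1, 0, 0, 1), 0⟩,
  ⟨⟨4, 0, -1, 1, 1, 1, -2, 0⟩, (0, 1, 0, 1), (0, 0, 1, 0), 0⟩,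
  ⟨⟨4, 0, -1, 1, 1, 1, 2, 0⟩, (0, 0, 1, 0), (1, 0, 1, 1), 0⟩,
  ⟨⟨4, 0, 1, -1, -1, -1, -2, 0⟩, (0, 0, 1, 0), (1, 0, 1, 1), 0⟩,
  ⟨⟨4, 0, 1, -1, -1, -1, 2, 0⟩, (0, 1, 0, 1), (0, 0, 1, 0), 0⟩,
  ⟨⟨4, 0, 1, -1, 1, 1, -2, 0⟩, (0, 0, 1, 1), (1, 0, 0, 1), 0⟩,
  ⟨⟨4, 0, 1, -1, 1, 1, 2, 0⟩, (0, 1, 0, 0), (0, 0, 0, 0), 0⟩,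
  ⟨⟨4, 0, 1, 1, -2, 0, -1, 1⟩, (1, 0, 0, 1), (1, 1, 0, 0), 0⟩,
  ⟨⟨4, 0, 1, 1, -2, 0, 1, -1⟩, (1, 1, 1, 1), (0, 0, 0, 1), 0⟩,
  ⟨⟨4, 0, 1, 1, 2, 0, -1, 1⟩, (1, 1, 1, 0), (1, 1, 0, 1), 0⟩,
  ⟨⟨4, 0, 1, 1, 2, 0, 1, -1⟩, (1, 0, 0, 0), (0, 0, 0, 0), 0⟩,
  ⟨⟨4, 0, -4, 0, 0, 0, 0, 0⟩, (0, 0, 0, 0), (1, 0, 0, 0), 0⟩,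
  ⟨⟨4, 0, 4, 0, 0, 0, 0, 0⟩, (0, 0, 0, 0), (1, 0, 0, 0), 0⟩,
  ⟨⟨0, -2, 0, 0, -1, -1, -1, 1⟩, (1, 1, 0, 0), (1, 1, 1, 1), 0⟩,
  ⟨⟨0, -2, 0, 0, -1, -1, 1, -1⟩, (1, 0, 1, 0), (0, 0, 1, 0), 0⟩,
  ⟨⟨0, -2, 0, 0, 1, 1, -1, 1⟩, (1, 1, 0, 1), (1, 1, 0, 1), 0⟩,
  ⟨⟨0, -2, 0, 0, 1, 1, 1, -1⟩, (1, 0, 1, 1), (0, 0, 0, 0), 0⟩,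
  ⟨⟨0, -2, -2, 0, -2, 0, -2, 0⟩, (0, 1, 1, 1), (0, 0, 0, 0), 0⟩,
  ⟨⟨0, -2, -2, 0, -2, 0, 2, 0⟩, (0, 0, 0, 0), (1, 0, 0, 1), 0⟩,
  ⟨⟨0, -2, -2, 0, 2, 0, -2, 0⟩, (0, 0, 0, 0), (0, 0, 0, 1), 0⟩,
  ⟨⟨0, -2, -2, 0, 2, 0, 2, 0⟩, (0, 1, 1, 1), (1, 0, 0, 0), 0⟩,
  ⟨⟨0, -2, 2, 0, -2, 0, -2, 0⟩, (0, 0, 0, 0), (0, 1, 1, 1), 0⟩,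
  ⟨⟨0, -2, 2, 0, -2, 0, 2, 0⟩, (0, 1, 1, 1), (1, 1, 1, 0), 0⟩,
  ⟨⟨0, -2, 2, 0, 2, 0, -2, 0⟩, (0, 1, 1, 1), (0, 1, 1, 0), 0⟩,
  ⟨⟨0, -2, 2, 0, 2, 0, 2, 0⟩, (0, 0, 0, 0), (1, 1, 1, 1), 0⟩,
  ⟨⟨0, -2, -1, -1, -1, 1, 0, 0⟩, (0, 1, 0, 0), (1, 1, 1, 1), 0⟩,
  ⟨⟨0, -2, -1, -1, 1, -1, 0, 0⟩, (0, 0, 1, 0), (1, 1, 0, 0), 0⟩,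
  ⟨⟨0, -2, -1, 1, 0, 0, -1, -1⟩, (1, 0, 0, 0), (1, 1, 1, 1), 0⟩,
  ⟨⟨0, -2, -1, 1, 0, 0, 1, 1⟩, (1, 0, 0, 1), (1, 0, 1, 1), 0⟩,
  ⟨⟨0, -2, 1, -1, 0, 0, -1, -1⟩, (1, 1, 1, 0), (0, 1, 0, 0), 0⟩,
  ⟨⟨0, -2, 1, -1, 0, 0, 1, 1⟩, (1, 1, 1, 1), (0, 0, 0, 0), 0⟩,
  ⟨⟨0, -2, 1, 1, -1, 1, 0, 0⟩, (0, 1, 0, 1), (0, 0, 1, 1), 0⟩,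
  ⟨⟨0, -2, 1, 1, 1, -1, 0, 0⟩, (0, 0, 1, 1), (0, 0, 0, 0), 0⟩,
  ⟨⟨0, 2, 0, 0, -1, -1, -1, 1⟩, (1, 0, 1, 1), (0, 0, 0, 0), 0⟩,
  ⟨⟨0, 2, 0, 0, -1, -1, 1, -1⟩, (1, 1, 0, 1), (1, 1, 0, 1), 0⟩,
  ⟨⟨0, 2, 0, 0, 1, 1, -1, 1⟩, (1, 0, 1, 0), (0, 0, 1, 0), 0⟩,
  ⟨⟨0, 2, 0, 0, 1, 1, 1, -1⟩, (1, 1, 0, 0), (1, 1, 1, 1), 0⟩,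
  ⟨⟨0, 2, -2, 0, -2, 0, -2, 0⟩, (0, 0, 0, 0), (1, 1, 1, 1), 0⟩,
  ⟨⟨0, 2, -2, 0, -2, 0, 2, 0⟩, (0, 1, 1, 1), (0, 1, 1, 0), 0⟩,
  ⟨⟨0, 2, -2, 0, 2, 0, -2, 0⟩, (0, 1, 1, 1), (1, 1, 1, 0), 0⟩,
  ⟨⟨0, 2, -2, 0, 2, 0, 2, 0⟩, (0, 0, 0, 0), (0, 1, 1, 1), 0⟩,
  ⟨⟨0, 2, 2, 0, -2, 0, -2, 0⟩, (0, 1, 1, 1), (1, 0, 0, 0), 0⟩,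
  ⟨⟨0, 2, 2, 0, -2, 0, 2, 0⟩, (0, 0, 0, 0), (0, 0, 0, 1), 0⟩,
  ⟨⟨0, 2, 2, 0, 2, 0, -2, 0⟩, (0, 0, 0, 0), (1, 0, 0, 1), 0⟩,
  ⟨⟨0, 2, 2, 0, 2, 0, 2, 0⟩, (0, 1, 1, 1), (0, 0, 0, 0), 0⟩,
  ⟨⟨0, 2, -1, -1, -1, 1, 0, 0⟩, (0, 0, 1, 1), (0, 0, 0, 0), 0⟩,
  ⟨⟨0, 2, -1, -1, 1, -1, 0, 0⟩, (0, 1, 0, 1), (0, 0, 1, 1), 0⟩,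
  ⟨⟨0, 2, -1, 1, 0, 0, -1, -1⟩, (1, 1, 1, 1), (0, 0, 0, 0), 0⟩,
  ⟨⟨0, 2, -1, 1, 0, 0, 1, 1⟩, (1, 1, 1, 0), (0, 1, 0, 0), 0⟩,
  ⟨⟨0, 2, 1, -1, 0, 0, -1, -1⟩, (1, 0, 0, 1), (1, 0, 1, 1), 0⟩,
  ⟨⟨0, 2, 1, -1, 0, 0, 1, 1⟩, (1, 0, 0, 0), (1, 1, 1, 1), 0⟩,
  ⟨⟨0, 2, 1, 1, -1, 1, 0, 0⟩, (0, 0, 1, 0), (1, 1, 0, 0), 0⟩,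
  ⟨⟨0, 2, 1, 1, 1, -1, 0, 0⟩, (0, 1, 0, 0), (1, 1, 1, 1), 0⟩
]

end MQ

end Cfsg.Agent.Lib.Helper4.J2
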