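import Cfsg.Agent.Lib.Helper4.J2.AL

set_option autoImplicit false

/-! # The annotated lists are the lists of all icosians of weights 16, 24, 32 -/

namespace Cfsg.Agent.Lib.Helper4.J2

namespace MQ

theorem A16_eq : L16.map annot = A16lit := by decide +kernel
theorem A24_eq : L24.map annot = A24lit := by decide +kernel
theorem A32_eq : L32.map annot = A32lit := by decide +kernel

theorem annot_mem_A16 {X : MQ} (h : inI X = true) (hw : wt X = 16) : annot X ∈ A16lit :=
  A16_eq ▸ List.mem_map_of_mem (mem_L16 h hw)

theorem annot_mem_A24 {X : MQ} (h : inI X = true) (hw : wt X = 24) : annot X ∈ A24lit :=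
  A24_eq ▸ List.mem_map_of_mem (mem_L24 h hw)

theorem annot_mem_A32 {X : MQ} (h : inI X = true) (hw : wt X = 32) : annot X ∈ A32lit :=
  A32_eq ▸ List.mem_map_of_mem (mem_L32 h hw)

end MQ

end Cfsg.Agent.Lib.Helper4.J2
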