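import Cfsg.Agent.Lib.Helper4.J2.A

set_option autoImplicit false

/-! # The icosian ring in the integer model -/

namespace Cfsg.Agent.Lib.Helper4.J2

open Quaternion

namespace MQ

/-- the icosian with coordinates `n` in the basis `1, g, i, gi, ig, gig, igi, gigi` -/
def ofC (n : MQ) : MQ where
  a0 := 4*n.a0 + 2*n.b0 - n.b1 - n.a2 - n.b2 - 2*n.a3 - n.b3
  b0 := n.b1 + n.a2 + n.b2 - n.b3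
  a1 := n.b0 + 4*n.a1 + 2*n.b1 + 2*n.a2 + n.b2 - n.a3 - n.b3
  b1 := -n.b0 + n.b2 + n.a3 + n.b3
  a2 := n.b1 - n.a2 + 2*n.b3
  b2 := n.b1 - n.a2
  a3 := n.b0 + 2*n.b2 + n.a3
  b3 := n.b0 + n.a3

/-- four times the coordinates in the basis of the icosians -/
def cI (X : MQ) : MQ where
  a0 := X.a0 + X.b0 + 2*X.b1 - X.a3 + X.b3
  b0 := -2*X.b1 + X.a2 - X.b2 + X.a3 + X.b3
  a1 := -2*X.b0 + X.a1 + X.b1 - X.a2 + X.b2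
  b1 := 2*X.b0 + X.a2 + X.b2 - X.a3 + X.b3
  a2 := 2*X.b0 + X.a2 - 3*X.b2 - X.a3 + X.b3
  b2 := 2*X.a3 - 2*X.b3
  a3 := 2*X.b1 - X.a2 + X.b2 - X.a3 + 3*X.b3
  b3 := 2*X.a2 - 2*X.b2

/-- the coordinates of a product -/
def mulC (n m : MQ) : MQ where
  a0 := n.a0*m.a0 - n.b0*m.b0 - n.a1*m.a1 - n.a1*m.b3 + n.b1*m.a2 + n.b1*m.b2 - n.b1*m.b3 + n.a2*m.b1 - n.a2*m.a3 - n.a2*m.b3 + n.b2*m.a2 - n.b2*m.a3 - n.b2*m.b3 - n.a3*m.b1 - n.a3*m.b2 - n.a3*m.a3 + n.b3*m.b0 - n.b3*m.b1 - n.b3*m.b2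
  b0 := n.a0*m.b0 + n.b0*m.a0 + n.b0*m.b0 - n.a1*m.a2 - n.a1*m.b2 + n.a1*m.b3 - n.b1*m.a1 - n.b1*m.a2 - n.b1*m.b2 - n.a2*m.a2 + n.a2*m.a3 + n.a2*m.b3 + n.b2*m.b1 - n.b2*m.a2 - n.a3*m.b0 + n.a3*m.b1 + n.a3*m.b2 - n.b3*m.b0 - n.b3*m.a3
  a1 := n.a0*m.a1 - n.b0*m.b1 + n.a1*m.a0 + n.a1*m.b2 + n.b1*m.b2 + n.b1*m.a3 + n.b1*m.b3 - n.a2*m.b0 + n.a2*m.a2 + n.a2*m.b2 + n.b2*m.a2 + n.b2*m.b2 + n.b2*m.a3 + n.a3*m.b0 + n.a3*m.a2 - n.a3*m.b3 + n.b3*m.b0 + n.b3*m.b1 - n.b3*m.b3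
  b1 := n.a0*m.b1 + n.b0*m.a1 + n.b0*m.b1 - n.a1*m.b2 - n.a1*m.a3 - n.a1*m.b3 + n.b1*m.a0 - n.b1*m.a3 - n.b1*m.b3 - n.a2*m.a2 - n.a2*m.b2 - n.a2*m.a3 - n.b2*m.b0 - n.b2*m.a3 - n.a3*m.b0 - n.a3*m.b1 + n.a3*m.b3 - n.b3*m.b1 + n.b3*m.a2
  a2 := n.a0*m.a2 - n.b0*m.b2 + n.a1*m.b0 - n.a1*m.b2 - n.a1*m.b3 - n.b1*m.b3 + n.a2*m.a0 + n.a2*m.b0 - n.a2*m.a2 - n.a2*m.b2 - n.a2*m.a3 - n.a2*m.b3 - n.b2*m.a3 - n.b2*m.b3 - n.a3*m.b0 - n.a3*m.a1 - n.a3*m.b1 - n.a3*m.a2 + n.a3*m.b3 - n.b3*m.b1 + n.b3*m.b3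
  b2 := n.a0*m.b2 + n.b0*m.a2 + n.b0*m.b2 + n.a1*m.b3 + n.b1*m.b0 - n.b1*m.b2 + n.a2*m.a3 + n.a2*m.b3 + n.b2*m.a0 + n.b2*m.b0 - n.b2*m.a2 - n.b2*m.b2 + n.a3*m.b1 - n.a3*m.b3 - n.b3*m.b0 - n.b3*m.a1 - n.b3*m.a2
  a3 := n.a0*m.a3 - n.b0*m.b3 + n.a1*m.b1 + n.a1*m.b2 - n.a1*m.b3 + n.b1*m.b2 + n.a2*m.a1 + n.a2*m.b1 + n.a2*m.a2 + n.a2*m.b2 - n.a2*m.a3 - n.a2*m.b3 + n.b2*m.a2 + n.b2*m.b2 + n.a3*m.a0 + n.a3*m.b0 - n.a3*m.b1 - n.a3*m.b2 - n.a3*m.a3 + n.b3*m.b0 - n.b3*m.b2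
  b3 := n.a0*m.b3 + n.b0*m.a3 + n.b0*m.b3 - n.a1*m.b2 + n.b1*m.b1 - n.b1*m.b3 - n.a2*m.a2 - n.a2*m.b2 + n.b2*m.a1 + n.b2*m.b1 - n.b2*m.a3 - n.b2*m.b3 - n.a3*m.b0 + n.a3*m.b2 + n.b3*m.a0 - n.b3*m.b1 - n.b3*m.a3

/-- membership in the icosian ring (in the model) -/
def inI (X : MQ) : Bool := dvdB 4 (cI X)

theorem cI_ofC (n : MQ) : cI (ofC n) = smulInt 4 n := by
  ext <;> simp only [cI, ofC, smulInt] <;> ring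

theorem raw_ofC (n m : MQ) : raw (ofC n) (ofC m) = smulInt 4 (ofC (mulC n m)) := by
  ext <;> simp only [raw, ofC, mulC, smulInt] <;> ring

theorem ofC_add (n m : MQ) : ofC (add n m) = add (ofC n) (ofC m) := by
  ext <;> simp only [ofC, add] <;> ring

theorem ofC_neg (n : MQ) : ofC (neg n) = neg (ofC n) := by
  ext <;> simp only [ofC, neg] <;> ring

theorem dvdB_iff (k : ℤ) (X : MQ) : dvdB k X = true ↔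
    X.a0 % k = 0 ∧ X.b0 % k = 0 ∧ X.a1 % k = 0 ∧ X.b1 % k = 0 ∧ X.a2 % k = 0 ∧ X.b2 % k = 0 ∧
      X.a3 % k = 0 ∧ X.b3 % k = 0 := by
  simp only [dvdB, Bool.and_eq_true, beq_iff_eq]
  tauto

theorem inI_ofC (n : MQ) : inI (ofC n) = true := by
  unfold inI
  rw [cI_ofC, dvdB_iff]
  simp only [smulInt]
  refine ⟨?_, ?_, ?_, ?_, ?_, ?_, ?_, ?_⟩ <;> omega

theorem ofC_cI {X : MQ} (h : inI X = true) : ofC (divInt (cI X) 4) = X := by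
  unfold inI at h
  rw [dvdB_iff] at h
  obtain ⟨h0, h1, h2, h3, h4, h5, h6, h7⟩ := h
  simp only [cI] at h0 h1 h2 h3 h4 h5 h6 h7
  ext <;> simp only [ofC, divInt, cI] <;> omega

theorem inI_iff (X : MQ) : inI X = true ↔ ∃ n, X = ofC n :=
  ⟨fun h => ⟨_, (ofC_cI h).symm⟩, fun ⟨n, hn⟩ => hn ▸ inI_ofC n⟩

end MQ

end Cfsg.Agent.Lib.Helper4.J2
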