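import Cfsg.Agent.Lib.Helper4.J2.B

set_option autoImplicit false

/-! # The icosian ring is the image of the model -/

namespace Cfsg.Agent.Lib.Helper4.J2

open Quaternion Cfsg.Spor

namespace MQ

def B0 : MQ := ⟨4, 0, 0, 0, 0, 0, 0, 0⟩
def B1 : MQ := ⟨2, 0, 1, -1, 0, 0, 1, 1⟩
def B2 : MQ := ⟨0, 0, 4, 0, 0, 0, 0, 0⟩
def B3 : MQ := ⟨-1, 1, 2, 0, 1, 1, 0, 0⟩
def B4 : MQ := ⟨-1, 1, 2, 0, -1, -1, 0, 0⟩
def B5 : MQ := ⟨-1, 1, 1, 1, 0, 0, 2, 0⟩
def B6 : MQ := ⟨-2, 0, -1, 1, 0, 0, 1, 1⟩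
def B7 : MQ := ⟨-1, -1, -1, 1, 2, 0, 0, 0⟩

theorem ofC_eq (n : MQ) : ofC n =
    add (smulInt n.a0 B0) (add (smulInt n.b0 B1) (add (smulInt n.a1 B2) (add (smulInt n.b1 B3)
      (add (smulInt n.a2 B4) (add (smulInt n.b2 B5) (add (smulInt n.a3 B6) (smulInt n.b3 B7))))))) := by
  ext <;> simp only [ofC, add, smulInt, B0, B1, B2, B3, B4, B5, B6, B7] <;> ring

theorem toH_B0 : toH B0 = 1 := toH_one

theorem toH_B1 : toH B1 = ⟨1 / 2, sig / 2, 0, tau / 2⟩ := by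
  ext <;> simp only [toH_re, toH_imI, toH_imJ, toH_imK, B1, sig, tau] <;> push_cast <;> ring

theorem toH_B2 : toH B2 = qI := by
  ext <;> simp only [toH_re, toH_imI, toH_imJ, toH_imK, B2, qI] <;> push_cast <;> ring

theorem toH_B3 : toH B3 = toH B1 * toH B2 := (toH_mul_of_raw (by decide)).symm
theorem toH_B4 : toH B4 = toH B2 * toH B1 := (toH_mul_of_raw (by decide)).symm
theorem toH_B5 : toH B5 = toH B3 * toH B1 := (toH_mul_of_raw (by decide)).symm
theorem toH_B6 : toH B6 = toH B4 * toH B2 := (toH_mul_of_raw (by decide)).symm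
theorem toH_B7 : toH B7 = toH B5 * toH B2 := (toH_mul_of_raw (by decide)).symm

theorem toH_B1_mem : toH B1 ∈ icosians := by
  rw [toH_B1]
  exact Subring.subset_closure (Or.inr rfl)

theorem toH_B2_mem : toH B2 ∈ icosians := by
  rw [toH_B2]
  exact Subring.subset_closure (Or.inl rfl)

theorem toH_ofC_mem (n : MQ) : toH (ofC n) ∈ icosians := by
  have h0 : toH B0 ∈ icosians := toH_B0 ▸ Subring.one_mem _
  have h1 := toH_B1_mem
  have h2 := toH_B2_mem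
  have h3 : toH B3 ∈ icosians := toH_B3 ▸ Subring.mul_mem _ h1 h2
  have h4 : toH B4 ∈ icosians := toH_B4 ▸ Subring.mul_mem _ h2 h1
  have h5 : toH B5 ∈ icosians := toH_B5 ▸ Subring.mul_mem _ h3 h1
  have h6 : toH B6 ∈ icosians := toH_B6 ▸ Subring.mul_mem _ h4 h2
  have h7 : toH B7 ∈ icosians := toH_B7 ▸ Subring.mul_mem _ h5 h2
  have hs : ∀ (k : ℤ) (X : MQ), toH X ∈ icosians → toH (smulInt k X) ∈ icosians := by
    intro k X hX
    rw [toH_smulInt, Int.cast_smul_eq_zsmul]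
    exact Subring.zsmul_mem _ hX k
  rw [ofC_eq]
  simp only [toH_add]
  exact Subring.add_mem _ (hs _ _ h0) (Subring.add_mem _ (hs _ _ h1) (Subring.add_mem _ (hs _ _ h2)
    (Subring.add_mem _ (hs _ _ h3) (Subring.add_mem _ (hs _ _ h4) (Subring.add_mem _ (hs _ _ h5)
    (Subring.add_mem _ (hs _ _ h6) (hs _ _ h7)))))))

/-- the subring of the quaternions with a model in the icosians -/
noncomputable def icoSub : Subring ℍ[ℝ] where
  carrier := {q | ∃ n : MQ, q = toH (ofC n)}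
  mul_mem' := by
    rintro _ _ ⟨n, rfl⟩ ⟨m, rfl⟩
    exact ⟨mulC n m, toH_mul_of_raw (raw_ofC n m)⟩
  one_mem' := ⟨⟨1, 0, 0, 0, 0, 0, 0, 0⟩, by rw [← toH_one]; rfl⟩
  add_mem' := by
    rintro _ _ ⟨n, rfl⟩ ⟨m, rfl⟩
    exact ⟨add n m, by rw [ofC_add, toH_add]⟩
  zero_mem' := ⟨zero, by rw [← toH_zero]; rfl⟩
  neg_mem' := by
    rintro _ ⟨n, rfl⟩
    exact ⟨neg n, by rw [ofC_neg, toH_neg]⟩

theorem mem_icosians_iff (q : ℍ[ℝ]) : q ∈ icosians ↔ ∃ n : MQ, q = toH (ofC n) := by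
  constructor
  · intro h
    have hle : icosians ≤ icoSub := by
      unfold icosians
      rw [Subring.closure_le]
      intro x hx
      rcases hx with rfl | hx
      · exact ⟨⟨0, 0, 1, 0, 0, 0, 0, 0⟩, by rw [← toH_B2]; rfl⟩
      · have hx' : x = ⟨1 / 2, sig / 2, 0, tau / 2⟩ := hx
        subst hx'
        exact ⟨⟨0, 1, 0, 0, 0, 0, 0, 0⟩, by rw [← toH_B1]; rfl⟩
    exact hle h
  · rintro ⟨n, rfl⟩
    exact toH_ofC_mem n

/-- an icosian has a model in the icosians of the model -/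
theorem exists_model {q : ℍ[ℝ]} (h : q ∈ icosians) : ∃ X : MQ, inI X = true ∧ q = toH X := by
  obtain ⟨n, rfl⟩ := (mem_icosians_iff q).mp h
  exact ⟨ofC n, inI_ofC n, rfl⟩

theorem toH_mem_icosians {X : MQ} (h : inI X = true) : toH X ∈ icosians := by
  obtain ⟨n, rfl⟩ := (inI_iff X).mp h
  exact toH_ofC_mem n

/-- the model of a product of two icosians -/
theorem exists_mul {X Y : MQ} (hX : inI X = true) (hY : inI Y = true) :
    ∃ Z : MQ, inI Z = true ∧ raw X Y = smulInt 4 Z := by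
  obtain ⟨n, rfl⟩ := (inI_iff X).mp hX
  obtain ⟨m, rfl⟩ := (inI_iff Y).mp hY
  exact ⟨ofC (mulC n m), inI_ofC _, raw_ofC n m⟩

theorem inI_conj {X : MQ} (hX : inI X = true) : inI (conj X) = true := by
  unfold inI at hX ⊢
  rw [dvdB_iff] at hX ⊢
  simp only [cI, conj] at hX ⊢
  omega

theorem star_mem_icosians {q : ℍ[ℝ]} (h : q ∈ icosians) : star q ∈ icosians := by
  obtain ⟨X, hX, rfl⟩ := exists_model h
  rw [← toH_conj]
  exact toH_mem_icosians (inI_conj hX)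

end MQ

end Cfsg.Agent.Lib.Helper4.J2
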