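import Cfsg.Agent.Lib.Helper4.J2.C

set_option autoImplicit false

/-! # The two left ideals of norm 2 and the icosian Leech lattice, in the model -/

namespace Cfsg.Agent.Lib.Helper4.J2

open Quaternion Cfsg.Spor

namespace MQ

/-- the model of `h` -/
def H : MQ := ⟨0, -2, 2, 0, 2, 0, 2, 0⟩

/-- the coordinates of `h` -/
def hC : MQ := ⟨-1, 1, 1, -1, -1, 1, -1, 1⟩

/-- the coordinates of the conjugate of `h` -/
def hcC : MQ := ⟨0, -1, 1, -1, -1, -1, 1, -1⟩

theorem ofC_hC : ofC hC = H := by decide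
theorem ofC_hcC : ofC hcC = conj H := by decide

theorem toH_H : toH H = icoH := by
  ext <;> simp only [toH_re, toH_imI, toH_imJ, toH_imK, H, icoH] <;> push_cast <;> ring

theorem toH_conj_H : toH (conj H) = star icoH := by rw [toH_conj, toH_H]

/-- membership in the left ideal generated by `h` -/
def inP (Y : MQ) : Bool := inI Y && dvdB 32 (cI (raw Y (conj H)))

/-- membership in the left ideal generated by the conjugate of `h` -/
def inP' (Y : MQ) : Bool := inI Y && dvdB 32 (cI (raw Y H))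

theorem dvdB_smulInt (k : ℤ) (n : MQ) : dvdB k (smulInt k n) = true := by
  rw [dvdB_iff]
  simp only [smulInt]
  refine ⟨?_, ?_, ?_, ?_, ?_, ?_, ?_, ?_⟩ <;> exact Int.mul_emod_right _ _

theorem inP_sound (n : MQ) : inP (ofC (mulC n hC)) = true := by
  unfold inP
  rw [inI_ofC, Bool.true_and]
  have : cI (raw (ofC (mulC n hC)) (conj H)) = smulInt 32 n := by
    ext <;> simp only [cI, raw, ofC, mulC, hC, conj, H, smulInt] <;> ring
  rw [this]
  exact dvdB_smulInt 32 n

theorem inP'_sound (n : MQ) : inP' (ofC (mulC n hcC)) = true := by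
  unfold inP'
  rw [inI_ofC, Bool.true_and]
  have : cI (raw (ofC (mulC n hcC)) H) = smulInt 32 n := by
    ext <;> simp only [cI, raw, ofC, mulC, hcC, H, smulInt] <;> ring
  rw [this]
  exact dvdB_smulInt 32 n

/-- an element of the left ideal of `h` has a model passing the test -/
theorem exists_model_P {y : ℍ[ℝ]} (h : y ∈ leftIdeal icoH) : ∃ Y : MQ, inP Y = true ∧ y = toH Y := by
  obtain ⟨a, ha, rfl⟩ := h
  obtain ⟨n, rfl⟩ := (mem_icosians_iff a).mp ha
  refine ⟨ofC (mulC n hC), inP_sound n, ?_⟩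
  rw [← toH_H, ← ofC_hC]
  exact toH_mul_of_raw (raw_ofC n hC)

theorem exists_model_P' {y : ℍ[ℝ]} (h : y ∈ leftIdeal (star icoH)) :
    ∃ Y : MQ, inP' Y = true ∧ y = toH Y := by
  obtain ⟨a, ha, rfl⟩ := h
  obtain ⟨n, rfl⟩ := (mem_icosians_iff a).mp ha
  refine ⟨ofC (mulC n hcC), inP'_sound n, ?_⟩
  rw [← toH_conj_H, ← ofC_hcC]
  exact toH_mul_of_raw (raw_ofC n hcC)

theorem inP_of_toH {Y : MQ} (h : toH Y ∈ leftIdeal icoH) : inP Y = true := by
  obtain ⟨Y', hY', e⟩ := exists_model_P h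
  rw [toH_injective e]
  exact hY'

theorem inP'_of_toH {Y : MQ} (h : toH Y ∈ leftIdeal (star icoH)) : inP' Y = true := by
  obtain ⟨Y', hY', e⟩ := exists_model_P' h
  rw [toH_injective e]
  exact hY'

/-- explicit membership in the left ideal of `h` -/
theorem toH_mem_P {A Y : MQ} (hA : inI A = true) (h : raw A H = smulInt 4 Y) :
    toH Y ∈ leftIdeal icoH :=
  ⟨toH A, toH_mem_icosians hA, by rw [← toH_H]; exact (toH_mul_of_raw h).symm⟩

theorem toH_mem_P' {A Y : MQ} (hA : inI A = true) (h : raw A (conj H) = smulInt 4 Y) :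
    toH Y ∈ leftIdeal (star icoH) :=
  ⟨toH A, toH_mem_icosians hA, by rw [← toH_conj_H]; exact (toH_mul_of_raw h).symm⟩

end MQ

/-- a model vector -/
@[ext] structure MV where
  x : MQ
  y : MQ
  z : MQ
deriving DecidableEq

namespace MV

open MQ

/-- the real vector of a model vector -/
noncomputable def toV (V : MV) : Fin 3 → ℍ[ℝ] := ![toH V.x, toH V.y, toH V.z]

theorem toV_injective : Function.Injective toV := by
  intro V W h
  have h0 := congrFun h 0
  have h1 := congrFun h 1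
  have h2 := congrFun h 2
  simp only [toV, Matrix.cons_val_zero, Matrix.cons_val_one, Matrix.cons_val] at h0 h1 h2
  ext1
  · exact toH_injective h0
  · exact toH_injective h1
  · exact toH_injective h2

/-- membership in the icosian Leech lattice, in the model -/
def inL (V : MV) : Bool :=
  inI V.x && inI V.y && inI V.z && inP (sub V.x V.y) && inP (sub V.y V.z) &&
    inP' (add (add V.x V.y) V.z)

theorem exists_model {v : Fin 3 → ℍ[ℝ]} (hv : v ∈ icoLeech) :
    ∃ V : MV, inL V = true ∧ v = toV V := by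
  obtain ⟨h1, h2, h3, h4⟩ := hv
  obtain ⟨X, hX, eX⟩ := MQ.exists_model (h1 0)
  obtain ⟨Y, hY, eY⟩ := MQ.exists_model (h1 1)
  obtain ⟨Z, hZ, eZ⟩ := MQ.exists_model (h1 2)
  refine ⟨⟨X, Y, Z⟩, ?_, ?_⟩
  · rw [eX, eY, ← toH_sub] at h2
    rw [eY, eZ, ← toH_sub] at h3
    rw [eX, eY, eZ, ← toH_add, ← toH_add] at h4
    simp only [inL, hX, hY, hZ, inP_of_toH h2, inP_of_toH h3, inP'_of_toH h4, Bool.and_self]
  · funext t
    fin_cases t
    · exact eX
    · exact eY
    · exact eZ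

/-- sum of the weights of the coordinates -/
def wtV (V : MV) : ℤ := wt V.x + wt V.y + wt V.z

/-- sum of the `√5` parts of the norms of the coordinates -/
def wiV (V : MV) : ℤ := wi V.x + wi V.y + wi V.z

theorem normSq_toH (X : MQ) :
    Quaternion.normSq (toH X) = ((wt X : ℝ) + (wi X : ℝ) * Real.sqrt 5) / 16 := by
  rw [Quaternion.normSq_def']
  have h5 := sqrt5_mul_self
  show (toH X).re ^ 2 + (toH X).imI ^ 2 + (toH X).imJ ^ 2 + (toH X).imK ^ 2 = _
  simp only [toH_re, toH_imI, toH_imJ, toH_imK, wt, wi]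
  push_cast
  linear_combination ((X.b0 * X.b0 + X.b1 * X.b1 + X.b2 * X.b2 + X.b3 * X.b3 : ℝ) / 16) * h5

theorem qip_self (V : MV) :
    qip (toV V) (toV V) = ((((wtV V : ℝ) + (wiV V : ℝ) * Real.sqrt 5) / 16 : ℝ) : ℍ[ℝ]) := by
  unfold qip
  rw [Fin.sum_univ_three]
  simp only [toV, Matrix.cons_val_zero, Matrix.cons_val_one, Matrix.cons_val]
  rw [Quaternion.self_mul_star, Quaternion.self_mul_star, Quaternion.self_mul_star,
    normSq_toH, normSq_toH, normSq_toH, ← Quaternion.coe_add, ← Quaternion.coe_add]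
  congr 1
  simp only [wtV, wiV]
  push_cast
  ring

theorem qip_self_eq_four {V : MV} (h : qip (toV V) (toV V) = 4) : wtV V = 64 ∧ wiV V = 0 := by
  rw [qip_self] at h
  have h0 := congrArg (fun q : ℍ[ℝ] => q.re) h
  simp only [Quaternion.re_coe] at h0
  have h1 : ((4 : ℍ[ℝ])).re = 4 := by
    have : (4 : ℍ[ℝ]) = ((4 : ℝ) : ℍ[ℝ]) := by norm_cast
    rw [this, Quaternion.re_coe]
  rw [h1] at h0
  have h2 : (wtV V : ℝ) + (wiV V : ℝ) * Real.sqrt 5 = ((64 : ℤ) : ℝ) + ((0 : ℤ) : ℝ) * Real.sqrt 5 := by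
    push_cast
    linarith
  exact eq_of_sqrt5 h2

theorem qip_self_of {V : MV} (h1 : wtV V = 64) (h2 : wiV V = 0) : qip (toV V) (toV V) = 4 := by
  rw [qip_self, h1, h2]
  have : (((64 : ℤ) : ℝ) + ((0 : ℤ) : ℝ) * Real.sqrt 5) / 16 = 4 := by push_cast; ring
  rw [this]
  norm_cast

end MV

end Cfsg.Agent.Lib.Helper4.J2
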