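import Cfsg.Agent.Lib.Helper4.J2.D

set_option autoImplicit false

/-! # Enumeration of the icosians of small norm -/

namespace Cfsg.Agent.Lib.Helper4.J2

namespace MQ

/-- the pairs `(a, b)` with `a ≡ b` modulo 2 and `a² + 5b² ≤ 64`, with this weight -/
def pairsAll : List (ℤ × ℤ × ℤ) :=
  [(0, 0, 0), (-2, 0, 4), (2, 0, 4), (-1, -1, 6), (-1, 1, 6), (1, -1, 6), (1, 1, 6), (-3, -1, 14), (-3, 1, 14), (3, -1, 14), (3, 1, 14), (-4, 0, 16), (4, 0, 16), (0, -2, 20), (0, 2, 20), (-2, -2, 24), (-2, 2, 24), (2, -2, 24), (2, 2, 24), (-5, -1, 30), (-5, 1, 30), (5, -1, 30), (5, 1, 30), (-6, 0, 36), (-4, -2, 36), (-4, 2, 36), (4, -2, 36), (4, 2, 36), (6, 0, 36), (-1, -3, 46), (-1, 3, 46), (1, -3, 46), (1, 3, 46), (-7, -1, 54), (-7, 1, 54), (-3, -3, 54), (-3, 3, 54), (3, -3, 54), (3, 3, 54), (7, -1, 54), (7, 1, 54), (-6, -2, 56), (-6, 2, 56), (6, -2, 56), (6, 2, 56), (-8, 0, 64), (8, 0, 64)]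

theorem mem_pairsAll {a b : ℤ} (h : a * a + 5 * (b * b) ≤ 64) (hp : (a - b) % 2 = 0) :
    (a, b, a * a + 5 * (b * b)) ∈ pairsAll := by
  have ha1 : -8 ≤ a := by nlinarith
  have ha2 : a ≤ 8 := by nlinarith
  have hb1 : -3 ≤ b := by nlinarith
  have hb2 : b ≤ 3 := by nlinarith
  interval_cases a <;> interval_cases b <;> first | (exfalso; omega) | decide

/-- the model quaternions of weight `S` with `a ≡ b` modulo 2 in each coordinate -/
def sols (S : ℤ) : List MQ :=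
  pairsAll.flatMap fun p0 => if p0.2.2 ≤ S then
  pairsAll.flatMap fun p1 => if p1.2.2 ≤ S - p0.2.2 then
  pairsAll.flatMap fun p2 => if p2.2.2 ≤ S - p0.2.2 - p1.2.2 then
  pairsAll.filterMap fun p3 => if p3.2.2 = S - p0.2.2 - p1.2.2 - p2.2.2 then
    some ⟨p0.1, p0.2.1, p1.1, p1.2.1, p2.1, p2.2.1, p3.1, p3.2.1⟩ else none
  else [] else [] else []

/-- the parity condition on the coordinates -/
def Par (X : MQ) : Prop :=
  (X.a0 - X.b0) % 2 = 0 ∧ (X.a1 - X.b1) % 2 = 0 ∧ (X.a2 - X.b2) % 2 = 0 ∧ (X.a3 - X.b3) % 2 = 0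

theorem mem_sols {X : MQ} {S : ℤ} (hS : S ≤ 64) (h : wt X = S) (par : Par X) : X ∈ sols S := by
  obtain ⟨q0, q1, q2, q3⟩ := par
  unfold wt at h
  have n0 : 0 ≤ X.a0 * X.a0 + 5 * (X.b0 * X.b0) := by nlinarith [mul_self_nonneg X.a0, mul_self_nonneg X.b0]
  have n1 : 0 ≤ X.a1 * X.a1 + 5 * (X.b1 * X.b1) := by nlinarith [mul_self_nonneg X.a1, mul_self_nonneg X.b1]
  have n2 : 0 ≤ X.a2 * X.a2 + 5 * (X.b2 * X.b2) := by nlinarith [mul_self_nonneg X.a2, mul_self_nonneg X.b2]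
  have n3 : 0 ≤ X.a3 * X.a3 + 5 * (X.b3 * X.b3) := by nlinarith [mul_self_nonneg X.a3, mul_self_nonneg X.b3]
  have m0 := mem_pairsAll (a := X.a0) (b := X.b0) (by linarith) q0
  have m1 := mem_pairsAll (a := X.a1) (b := X.b1) (by linarith) q1
  have m2 := mem_pairsAll (a := X.a2) (b := X.b2) (by linarith) q2
  have m3 := mem_pairsAll (a := X.a3) (b := X.b3) (by linarith) q3
  unfold sols
  rw [List.mem_flatMap]
  refine ⟨_, m0, ?_⟩
  rw [if_pos (by show X.a0 * X.a0 + 5 * (X.b0 * X.b0) ≤ S; linarith), List.mem_flatMap]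
  refine ⟨_, m1, ?_⟩
  rw [if_pos (by show X.a1 * X.a1 + 5 * (X.b1 * X.b1) ≤ S - (X.a0 * X.a0 + 5 * (X.b0 * X.b0)); linarith),
    List.mem_flatMap]
  refine ⟨_, m2, ?_⟩
  rw [if_pos (by
    show X.a2 * X.a2 + 5 * (X.b2 * X.b2) ≤
      S - (X.a0 * X.a0 + 5 * (X.b0 * X.b0)) - (X.a1 * X.a1 + 5 * (X.b1 * X.b1))
    linarith), List.mem_filterMap]
  refine ⟨_, m3, ?_⟩
  rw [if_pos (by
    show X.a3 * X.a3 + 5 * (X.b3 * X.b3) =
      S - (X.a0 * X.a0 + 5 * (X.b0 * X.b0)) - (X.a1 * X.a1 + 5 * (X.b1 * X.b1)) -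
        (X.a2 * X.a2 + 5 * (X.b2 * X.b2))
    linarith)]

theorem par_ofC (n : MQ) : Par (ofC n) := by
  unfold Par
  simp only [ofC]
  refine ⟨?_, ?_, ?_, ?_⟩ <;> omega

theorem wt_ofC (n : MQ) : wt (ofC n) = 8 * (2*(n.a0*n.a0) + 2*(n.a0*n.b0) - 1*(n.a0*n.b1) - 1*(n.a0*n.a2) - 1*(n.a0*n.b2) - 2*(n.a0*n.a3) - 1*(n.a0*n.b3) + 2*(n.b0*n.b0) + 1*(n.b0*n.a1) - 1*(n.b0*n.b2) - 1*(n.b0*n.a3) - 2*(n.b0*n.b3) + 2*(n.a1*n.a1) + 2*(n.a1*n.b1) + 2*(n.a1*n.a2) + 1*(n.a1*n.b2) - 1*(n.a1*n.a3) - 1*(n.a1*n.b3) + 2*(n.b1*n.b1) + 1*(n.b1*n.a2) + 2*(n.b1*n.b2) - 1*(n.b1*n.b3) + 2*(n.a2*n.a2) + 2*(n.a2*n.b2) - 2*(n.a2*n.b3) + 2*(n.b2*n.b2) + 2*(n.b2*n.a3) + 2*(n.a3*n.a3) + 2*(n.a3*n.b3) + 2*(n.b3*n.b3)) := by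
  simp only [wt, ofC]
  ring

theorem wt_dvd {X : MQ} (h : inI X = true) : (8 : ℤ) ∣ wt X := by
  obtain ⟨n, rfl⟩ := (inI_iff X).mp h
  rw [wt_ofC]
  exact Dvd.intro _ rfl

theorem par_of_inI {X : MQ} (h : inI X = true) : Par X := by
  obtain ⟨n, rfl⟩ := (inI_iff X).mp h
  exact par_ofC n

theorem wt_nonneg (X : MQ) : 0 ≤ wt X := by
  unfold wt
  nlinarith [mul_self_nonneg X.a0, mul_self_nonneg X.b0, mul_self_nonneg X.a1, mul_self_nonneg X.b1,
    mul_self_nonneg X.a2, mul_self_nonneg X.b2, mul_self_nonneg X.a3, mul_self_nonneg X.b3]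

theorem eq_zero_of_wt {X : MQ} (h : wt X = 0) : X = zero := by
  unfold wt at h
  have e0 : X.a0 = 0 := by nlinarith [mul_self_nonneg X.a0, mul_self_nonneg X.b0, mul_self_nonneg X.a1, mul_self_nonneg X.b1, mul_self_nonneg X.a2, mul_self_nonneg X.b2, mul_self_nonneg X.a3, mul_self_nonneg X.b3]
  have e1 : X.b0 = 0 := by nlinarith [mul_self_nonneg X.a0, mul_self_nonneg X.b0, mul_self_nonneg X.a1, mul_self_nonneg X.b1, mul_self_nonneg X.a2, mul_self_nonneg X.b2, mul_self_nonneg X.a3, mul_self_nonneg X.b3]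
  have e2 : X.a1 = 0 := by nlinarith [mul_self_nonneg X.a0, mul_self_nonneg X.b0, mul_self_nonneg X.a1, mul_self_nonneg X.b1, mul_self_nonneg X.a2, mul_self_nonneg X.b2, mul_self_nonneg X.a3, mul_self_nonneg X.b3]
  have e3 : X.b1 = 0 := by nlinarith [mul_self_nonneg X.a0, mul_self_nonneg X.b0, mul_self_nonneg X.a1, mul_self_nonneg X.b1, mul_self_nonneg X.a2, mul_self_nonneg X.b2, mul_self_nonneg X.a3, mul_self_nonneg X.b3]
  have e4 : X.a2 = 0 := by nlinarith [mul_self_nonneg X.a0, mul_self_nonneg X.b0, mul_self_nonneg X.a1, mul_self_nonneg X.b1, mul_self_nonneg X.a2, mul_self_nonneg X.b2, mul_self_nonneg X.a3, mul_self_nonneg X.b3]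
  have e5 : X.b2 = 0 := by nlinarith [mul_self_nonneg X.a0, mul_self_nonneg X.b0, mul_self_nonneg X.a1, mul_self_nonneg X.b1, mul_self_nonneg X.a2, mul_self_nonneg X.b2, mul_self_nonneg X.a3, mul_self_nonneg X.b3]
  have e6 : X.a3 = 0 := by nlinarith [mul_self_nonneg X.a0, mul_self_nonneg X.b0, mul_self_nonneg X.a1, mul_self_nonneg X.b1, mul_self_nonneg X.a2, mul_self_nonneg X.b2, mul_self_nonneg X.a3, mul_self_nonneg X.b3]
  have e7 : X.b3 = 0 := by nlinarith [mul_self_nonneg X.a0, mul_self_nonneg X.b0, mul_self_nonneg X.a1, mul_self_nonneg X.b1, mul_self_nonneg X.a2, mul_self_nonneg X.b2, mul_self_nonneg X.a3, mul_self_nonneg X.b3]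
  ext <;> assumption

/-- the icosians of weight 16: the units -/
def L16 : List MQ := (sols 16).filter inI
/-- the icosians of weight 24 -/
def L24 : List MQ := (sols 24).filter inI
/-- the icosians of weight 32 -/
def L32 : List MQ := (sols 32).filter inI

theorem mem_L16 {X : MQ} (h : inI X = true) (hw : wt X = 16) : X ∈ L16 :=
  List.mem_filter.mpr ⟨mem_sols (by norm_num) hw (par_of_inI h), h⟩

theorem mem_L24 {X : MQ} (h : inI X = true) (hw : wt X = 24) : X ∈ L24 :=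
  List.mem_filter.mpr ⟨mem_sols (by norm_num) hw (par_of_inI h), h⟩

theorem mem_L32 {X : MQ} (h : inI X = true) (hw : wt X = 32) : X ∈ L32 :=
  List.mem_filter.mpr ⟨mem_sols (by norm_num) hw (par_of_inI h), h⟩

theorem sols8 : (sols 8).filter inI = [] := by decide +kernel

theorem wt_ne_8 {X : MQ} (h : inI X = true) : wt X ≠ 8 := by
  intro hw
  have : X ∈ (sols 8).filter inI := List.mem_filter.mpr ⟨mem_sols (by norm_num) hw (par_of_inI h), h⟩
  rw [sols8] at this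
  simp at this

theorem length_L16 : L16.length = 120 := by decide +kernel
theorem length_L24 : L24.length = 240 := by decide +kernel
theorem length_L32 : L32.length = 600 := by decide +kernel

end MQ

end Cfsg.Agent.Lib.Helper4.J2
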