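import Cfsg.Agent.Lib.Helper4.J2.E

set_option autoImplicit false

/-! # Classes of the icosians modulo the two left ideals of norm 2 -/

namespace Cfsg.Agent.Lib.Helper4.J2

namespace MQ

/-- the class modulo the left ideal of `h`, from the coordinates -/
def cPn (n : MQ) : ℤ × ℤ × ℤ × ℤ :=
  ((n.b0 + n.b1 + n.a2 + n.b2 + n.a3 + n.b3) % 2,
   (n.a0 + n.b0 + n.a1 + n.b1 + n.a2 + n.a3) % 2,
   (n.a0 + n.b0 + n.a1 + n.b1 + n.a2 + n.b2 + n.a3 + n.b3) % 2,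
   (n.a0 + n.a1 + n.a2 + n.a3) % 2)

/-- the class modulo the left ideal of the conjugate of `h`, from the coordinates -/
def cPn' (n : MQ) : ℤ × ℤ × ℤ × ℤ :=
  ((n.a0 + n.b0 + n.b1 + n.a2 + n.b2 + n.a3 + n.b3) % 2,
   (n.a0 + n.a1 + n.b1 + n.a2 + n.a3) % 2,
   (n.a0 + n.b0 + n.a1 + n.b1 + n.a3) % 2,
   (n.a0 + n.a1 + n.b3) % 2)

def cP (X : MQ) : ℤ × ℤ × ℤ × ℤ := cPn (divInt (cI X) 4)
def cP' (X : MQ) : ℤ × ℤ × ℤ × ℤ := cPn' (divInt (cI X) 4)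

theorem divInt_cI_ofC (n : MQ) : divInt (cI (ofC n)) 4 = n := by
  rw [cI_ofC]
  ext <;> simp only [divInt, smulInt] <;> omega

theorem cP_ofC (n : MQ) : cP (ofC n) = cPn n := by unfold cP; rw [divInt_cI_ofC]
theorem cP'_ofC (n : MQ) : cP' (ofC n) = cPn' n := by unfold cP'; rw [divInt_cI_ofC]

theorem cPn_of_inP {n : MQ} (h : inP (ofC n) = true) : cPn n = (0, 0, 0, 0) := by
  unfold inP at h
  rw [inI_ofC, Bool.true_and, dvdB_iff] at h
  simp only [cI, raw, ofC, conj, H] at h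
  obtain ⟨h0, h1, h2, h3, h4, h5, h6, h7⟩ := h
  unfold cPn
  refine Prod.ext ?_ (Prod.ext ?_ (Prod.ext ?_ ?_)) <;> simp only <;> omega

theorem cPn'_of_inP' {n : MQ} (h : inP' (ofC n) = true) : cPn' n = (0, 0, 0, 0) := by
  unfold inP' at h
  rw [inI_ofC, Bool.true_and, dvdB_iff] at h
  simp only [cI, raw, ofC, H] at h
  obtain ⟨h0, h1, h2, h3, h4, h5, h6, h7⟩ := h
  unfold cPn'
  refine Prod.ext ?_ (Prod.ext ?_ (Prod.ext ?_ ?_)) <;> simp only <;> omega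

theorem ofC_sub (n m : MQ) : ofC (sub n m) = sub (ofC n) (ofC m) := by
  ext <;> simp only [ofC, sub] <;> ring

/-- two icosians congruent modulo the ideal have the same class -/
theorem cP_eq_of_inP {X Y : MQ} (hX : inI X = true) (hY : inI Y = true)
    (h : inP (sub X Y) = true) : cP X = cP Y := by
  obtain ⟨n, rfl⟩ := (inI_iff X).mp hX
  obtain ⟨m, rfl⟩ := (inI_iff Y).mp hY
  rw [← ofC_sub] at h
  have h0 := cPn_of_inP h
  rw [cP_ofC, cP_ofC]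
  unfold cPn at h0 ⊢
  simp only [sub, Prod.mk.injEq] at h0
  obtain ⟨e0, e1, e2, e3⟩ := h0
  refine Prod.ext ?_ (Prod.ext ?_ (Prod.ext ?_ ?_)) <;> simp only <;> omega

/-- the sum of the classes of three icosians with sum in the ideal -/
theorem cP'_add_of_inP' {X Y Z : MQ} (hX : inI X = true) (hY : inI Y = true) (hZ : inI Z = true)
    (h : inP' (add (add X Y) Z) = true) :
    ((cP' X).1 + (cP' Y).1 + (cP' Z).1) % 2 = 0 ∧
    ((cP' X).2.1 + (cP' Y).2.1 + (cP' Z).2.1) % 2 = 0 ∧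
    ((cP' X).2.2.1 + (cP' Y).2.2.1 + (cP' Z).2.2.1) % 2 = 0 ∧
    ((cP' X).2.2.2 + (cP' Y).2.2.2 + (cP' Z).2.2.2) % 2 = 0 := by
  obtain ⟨n, rfl⟩ := (inI_iff X).mp hX
  obtain ⟨m, rfl⟩ := (inI_iff Y).mp hY
  obtain ⟨k, rfl⟩ := (inI_iff Z).mp hZ
  rw [← ofC_add, ← ofC_add] at h
  have h0 := cPn'_of_inP' h
  rw [cP'_ofC, cP'_ofC, cP'_ofC]
  unfold cPn' at h0 ⊢
  simp only [add, Prod.mk.injEq] at h0
  obtain ⟨e0, e1, e2, e3⟩ := h0
  refine ⟨?_, ?_, ?_, ?_⟩ <;> simp only <;> omega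

/-- an annotated icosian: with its classes modulo the two ideals and the `√5` part of its norm -/
structure AQ where
  q : MQ
  c : ℤ × ℤ × ℤ × ℤ
  c' : ℤ × ℤ × ℤ × ℤ
  w : ℤ
deriving DecidableEq

def annot (X : MQ) : AQ := ⟨X, cP X, cP' X, wi X⟩

end MQ

end Cfsg.Agent.Lib.Helper4.J2
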