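import Cfsg.Agent.Lib.Helper4.J2.R
import Cfsg.Agent.Lib.Helper4.J2.AL2

set_option autoImplicit false

/-! # Completeness of the list of lines: the checks in the model -/

namespace Cfsg.Agent.Lib.Helper4.J2

open MQ

namespace MV

/-- the model of `2` -/
def TWO : MQ := ⟨8, 0, 0, 0, 0, 0, 0, 0⟩

/-- the sum of three classes is zero -/
def xz (a b c : ℤ × ℤ × ℤ × ℤ) : Bool :=
  (a.1 + b.1 + c.1) % 2 == 0 && (a.2.1 + b.2.1 + c.2.1) % 2 == 0 &&
    (a.2.2.1 + b.2.2.1 + c.2.2.1) % 2 == 0 && (a.2.2.2 + b.2.2.2 + c.2.2.2) % 2 == 0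

/-- all the lattice vectors with coordinates in the three lists and norm `4` are in the list -/
def chkPat (C0 C1 C2 : List AQ) : Bool :=
  C0.all fun p0 => C1.all fun p1 => p0.c != p1.c ||
    C2.all fun p2 => p1.c != p2.c || !xz p0.c' p1.c' p2.c' || p0.w + p1.w + p2.w != 0 ||
      Rlist.contains ⟨p0.q, p1.q, p2.q⟩

theorem mem_of_chkPat {C0 C1 C2 : List AQ} (h : chkPat C0 C1 C2 = true) {V : MV}
    (h0 : annot V.x ∈ C0) (h1 : annot V.y ∈ C1) (h2 : annot V.z ∈ C2) (hL : inL V = true)
    (hi : wiV V = 0) : V ∈ Rlist := by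
  unfold inL at hL
  simp only [Bool.and_eq_true] at hL
  obtain ⟨⟨⟨⟨⟨hx, hy⟩, hz⟩, hp1⟩, hp2⟩, hp3⟩ := hL
  have e1 := cP_eq_of_inP hx hy hp1
  have e2 := cP_eq_of_inP hy hz hp2
  obtain ⟨s0, s1, s2, s3⟩ := cP'_add_of_inP' hx hy hz hp3
  unfold chkPat at h
  rw [List.all_eq_true] at h
  have h' := h _ h0
  rw [List.all_eq_true] at h'
  have h'' := h' _ h1
  have b1 : ((annot V.x).c != (annot V.y).c) = false := by
    simp only [annot, bne_eq_false_iff_eq]
    exact e1
  rw [b1, Bool.false_or, List.all_eq_true] at h''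
  have h3 := h'' _ h2
  have b2 : ((annot V.y).c != (annot V.z).c) = false := by
    simp only [annot, bne_eq_false_iff_eq]
    exact e2
  have b3 : xz (annot V.x).c' (annot V.y).c' (annot V.z).c' = true := by
    simp only [annot, xz, Bool.and_eq_true, beq_iff_eq]
    exact ⟨⟨⟨s0, s1⟩, s2⟩, s3⟩
  have b4 : ((annot V.x).w + (annot V.y).w + (annot V.z).w != 0) = false := by
    simp only [annot, bne_eq_false_iff_eq]
    exact hi
  rw [b2, b3, b4] at h3
  simp only [Bool.not_true, Bool.false_or, annot] at h3
  exact List.contains_iff_mem.mp h3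

theorem chk1 : chkPat [annot one] A16lit A32lit = true := by decide +kernel
theorem chk2 : chkPat [annot one] A32lit A16lit = true := by decide +kernel
theorem chk3 : chkPat A32lit [annot one] A16lit = true := by decide +kernel
theorem chk4 : chkPat [annot one] A24lit A24lit = true := by decide +kernel
theorem chk5 : chkPat A24lit [annot one] A24lit = true := by decide +kernel
theorem chk6 : chkPat A24lit A24lit [annot one] = true := by decide +kernel
theorem chk7 : chkPat [annot H] A32lit [annot zero] = true := by decide +kernel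
theorem chk8 : chkPat [annot H] [annot zero] A32lit = true := by decide +kernel
theorem chk9 : chkPat [annot zero] [annot H] A32lit = true := by decide +kernel
theorem chk10 : chkPat [annot TWO] [annot zero] [annot zero] = true := by decide +kernel
theorem chk11 : chkPat [annot zero] [annot TWO] [annot zero] = true := by decide +kernel
theorem chk12 : chkPat [annot zero] [annot zero] [annot TWO] = true := by decide +kernel

end MV

end Cfsg.Agent.Lib.Helper4.J2
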