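import Cfsg.Agent.Lib.Helper4.J2.F

set_option autoImplicit false

/-! # More facts on the icosians of small weight, in the model -/

namespace Cfsg.Agent.Lib.Helper4.J2

open MQ

namespace MQ

theorem sub_zero' (X : MQ) : sub X zero = X := by
  ext <;> simp [sub, zero]

theorem inI_zero : inI zero = true := by decide

theorem cP_of_inP {X : MQ} (hX : inI X = true) (h : inP X = true) : cP X = (0, 0, 0, 0) := by
  have := cP_eq_of_inP hX inI_zero (by rw [sub_zero']; exact h)
  rw [this]
  decide

theorem A16_not_inP : A16lit.all (fun p => p.c != (0, 0, 0, 0)) = true := by decide +kernel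
theorem A24_not_inP : A24lit.all (fun p => p.c != (0, 0, 0, 0)) = true := by decide +kernel
theorem A16_w : A16lit.all (fun p => p.w == 0) = true := by decide +kernel

theorem not_inP_of_wt16 {X : MQ} (hX : inI X = true) (hw : wt X = 16) : inP X = false := by
  by_contra h
  rw [Bool.not_eq_false] at h
  have h1 := cP_of_inP hX h
  have h2 := List.all_eq_true.mp A16_not_inP _ (annot_mem_A16 hX hw)
  simp only [annot, bne_iff_ne, ne_eq] at h2
  exact h2 h1

theorem not_inP_of_wt24 {X : MQ} (hX : inI X = true) (hw : wt X = 24) : inP X = false := by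
  by_contra h
  rw [Bool.not_eq_false] at h
  have h1 := cP_of_inP hX h
  have h2 := List.all_eq_true.mp A24_not_inP _ (annot_mem_A24 hX hw)
  simp only [annot, bne_iff_ne, ne_eq] at h2
  exact h2 h1

theorem wi_of_wt16 {X : MQ} (hX : inI X = true) (hw : wt X = 16) : wi X = 0 := by
  have h2 := List.all_eq_true.mp A16_w _ (annot_mem_A16 hX hw)
  simpa [annot] using h2

/-- the elements of weight 32 of the ideal are the products of `h` by a unit -/
theorem A32_inP : A32lit.all (fun p => p.c != (0, 0, 0, 0) ||
    A16lit.any fun u => decide (raw u.q H = smulInt 4 p.q)) = true := by decide +kernel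

theorem A16_inI : A16lit.all (fun p => inI p.q && decide (wt p.q = 16)) = true := by decide +kernel

theorem exists_unit_of_wt32 {X : MQ} (hX : inI X = true) (hw : wt X = 32) (h : inP X = true) :
    ∃ u : MQ, inI u = true ∧ wt u = 16 ∧ raw u H = smulInt 4 X := by
  have h1 := cP_of_inP hX h
  have h2 := List.all_eq_true.mp A32_inP _ (annot_mem_A32 hX hw)
  have h3 : ((annot X).c != (0, 0, 0, 0)) = false := by
    simp only [annot, bne_eq_false_iff_eq]
    exact h1
  rw [h3, Bool.false_or, List.any_eq_true] at h2
  obtain ⟨u, hu, hu2⟩ := h2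
  have h4 := List.all_eq_true.mp A16_inI _ hu
  simp only [Bool.and_eq_true, decide_eq_true_eq] at h4
  exact ⟨u.q, h4.1, h4.2, of_decide_eq_true hu2⟩

/-- an element of both ideals is twice an icosian -/
theorem exists_half {X : MQ} (h : inP X = true) (h' : inP' X = true) :
    ∃ Y : MQ, inI Y = true ∧ X = smulInt 2 Y := by
  have hX : inI X = true := by
    unfold inP at h
    exact (Bool.and_eq_true _ _ ▸ h).1
  obtain ⟨n, rfl⟩ := (inI_iff X).mp hX
  have h1 := cPn_of_inP h
  have h2 := cPn'_of_inP' h'
  unfold cPn at h1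
  unfold cPn' at h2
  simp only [Prod.mk.injEq] at h1 h2
  obtain ⟨e0, e1, e2, e3⟩ := h1
  obtain ⟨f0, f1, f2, f3⟩ := h2
  refine ⟨ofC (divInt n 2), inI_ofC _, ?_⟩
  ext <;> simp only [ofC, divInt, smulInt] <;> omega

theorem wt_smulInt (k : ℤ) (X : MQ) : wt (smulInt k X) = k * k * wt X := by
  simp only [wt, smulInt]
  ring

end MQ

end Cfsg.Agent.Lib.Helper4.J2
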