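import Cfsg.Agent.Lib.Helper4.J2.F2

set_option autoImplicit false

/-! # The icosian Leech lattice as a left module over the icosians -/

namespace Cfsg.Agent.Lib.Helper4.J2

open Quaternion Cfsg.Spor MQ MV

/-- left multiplication of a vector by a quaternion -/
noncomputable def smulV (a : ℍ[ℝ]) (v : Fin 3 → ℍ[ℝ]) : Fin 3 → ℍ[ℝ] := fun t => a * v t

theorem smulV_smulV (a b : ℍ[ℝ]) (v : Fin 3 → ℍ[ℝ]) : smulV a (smulV b v) = smulV (a * b) v := by
  funext t
  simp only [smulV, mul_assoc]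

theorem one_smulV (v : Fin 3 → ℍ[ℝ]) : smulV 1 v = v := by
  funext t
  simp only [smulV, one_mul]

theorem leftIdeal_add {q x y : ℍ[ℝ]} (hx : x ∈ leftIdeal q) (hy : y ∈ leftIdeal q) :
    x + y ∈ leftIdeal q := by
  obtain ⟨a, ha, rfl⟩ := hx
  obtain ⟨b, hb, rfl⟩ := hy
  exact ⟨a + b, Subring.add_mem _ ha hb, by rw [add_mul]⟩

theorem leftIdeal_neg {q x : ℍ[ℝ]} (hx : x ∈ leftIdeal q) : -x ∈ leftIdeal q := by
  obtain ⟨a, ha, rfl⟩ := hx
  exact ⟨-a, Subring.neg_mem _ ha, by rw [neg_mul]⟩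

theorem leftIdeal_mul {q x a : ℍ[ℝ]} (ha : a ∈ icosians) (hx : x ∈ leftIdeal q) :
    a * x ∈ leftIdeal q := by
  obtain ⟨b, hb, rfl⟩ := hx
  exact ⟨a * b, Subring.mul_mem _ ha hb, by rw [mul_assoc]⟩

theorem leftIdeal_zero (q : ℍ[ℝ]) : (0 : ℍ[ℝ]) ∈ leftIdeal q :=
  ⟨0, Subring.zero_mem _, by rw [zero_mul]⟩

theorem smulV_mem {a : ℍ[ℝ]} (ha : a ∈ icosians) {v : Fin 3 → ℍ[ℝ]} (hv : v ∈ icoLeech) :
    smulV a v ∈ icoLeech := by
  obtain ⟨h1, h2, h3, h4⟩ := hv
  refine ⟨fun t => Subring.mul_mem _ ha (h1 t), ?_, ?_, ?_⟩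
  · have : smulV a v 0 - smulV a v 1 = a * (v 0 - v 1) := by simp only [smulV, mul_sub]
    rw [this]
    exact leftIdeal_mul ha h2
  · have : smulV a v 1 - smulV a v 2 = a * (v 1 - v 2) := by simp only [smulV, mul_sub]
    rw [this]
    exact leftIdeal_mul ha h3
  · have : smulV a v 0 + smulV a v 1 + smulV a v 2 = a * (v 0 + v 1 + v 2) := by
      simp only [smulV, mul_add]
    rw [this]
    exact leftIdeal_mul ha h4

theorem icoLeech_add {v w : Fin 3 → ℍ[ℝ]} (hv : v ∈ icoLeech) (hw : w ∈ icoLeech) :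
    v + w ∈ icoLeech := by
  obtain ⟨h1, h2, h3, h4⟩ := hv
  obtain ⟨k1, k2, k3, k4⟩ := hw
  refine ⟨fun t => Subring.add_mem _ (h1 t) (k1 t), ?_, ?_, ?_⟩
  · have : (v + w) 0 - (v + w) 1 = (v 0 - v 1) + (w 0 - w 1) := by
      simp only [Pi.add_apply]; abel
    rw [this]
    exact leftIdeal_add h2 k2
  · have : (v + w) 1 - (v + w) 2 = (v 1 - v 2) + (w 1 - w 2) := by
      simp only [Pi.add_apply]; abel
    rw [this]
    exact leftIdeal_add h3 k3
  · have : (v + w) 0 + (v + w) 1 + (v + w) 2 = (v 0 + v 1 + v 2) + (w 0 + w 1 + w 2) := by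
      simp only [Pi.add_apply]; abel
    rw [this]
    exact leftIdeal_add h4 k4

theorem icoLeech_neg {v : Fin 3 → ℍ[ℝ]} (hv : v ∈ icoLeech) : -v ∈ icoLeech := by
  obtain ⟨h1, h2, h3, h4⟩ := hv
  refine ⟨fun t => Subring.neg_mem _ (h1 t), ?_, ?_, ?_⟩
  · have : (-v) 0 - (-v) 1 = -(v 0 - v 1) := by simp only [Pi.neg_apply]; abel
    rw [this]
    exact leftIdeal_neg h2
  · have : (-v) 1 - (-v) 2 = -(v 1 - v 2) := by simp only [Pi.neg_apply]; abel
    rw [this]
    exact leftIdeal_neg h3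
  · have : (-v) 0 + (-v) 1 + (-v) 2 = -(v 0 + v 1 + v 2) := by simp only [Pi.neg_apply]; abel
    rw [this]
    exact leftIdeal_neg h4

theorem icoLeech_zero : (0 : Fin 3 → ℍ[ℝ]) ∈ icoLeech := by
  refine ⟨fun t => Subring.zero_mem _, ?_, ?_, ?_⟩
  · simp only [Pi.zero_apply, sub_zero]; exact leftIdeal_zero _
  · simp only [Pi.zero_apply, sub_zero]; exact leftIdeal_zero _
  · simp only [Pi.zero_apply, add_zero]; exact leftIdeal_zero _

theorem icoLeech_sub {v w : Fin 3 → ℍ[ℝ]} (hv : v ∈ icoLeech) (hw : w ∈ icoLeech) :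
    v - w ∈ icoLeech := by
  rw [sub_eq_add_neg]
  exact icoLeech_add hv (icoLeech_neg hw)

/-- all the differences of coordinates are in the ideal -/
theorem icoLeech_diff {v : Fin 3 → ℍ[ℝ]} (hv : v ∈ icoLeech) (s t : Fin 3) :
    v s - v t ∈ leftIdeal icoH := by
  obtain ⟨h1, h2, h3, h4⟩ := hv
  have h02 : v 0 - v 2 ∈ leftIdeal icoH := by
    have : v 0 - v 2 = (v 0 - v 1) + (v 1 - v 2) := by abel
    rw [this]
    exact leftIdeal_add h2 h3
  have hn : ∀ a b : Fin 3, v a - v b ∈ leftIdeal icoH → v b - v a ∈ leftIdeal icoH := by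
    intro a b h
    have : v b - v a = -(v a - v b) := by abel
    rw [this]
    exact leftIdeal_neg h
  fin_cases s <;> fin_cases t <;> simp only [Fin.zero_eta, Fin.mk_one, Fin.reduceFinMk, sub_self]
  all_goals first
    | exact leftIdeal_zero _
    | exact h2
    | exact h3
    | exact h02
    | exact hn _ _ h2
    | exact hn _ _ h3
    | exact hn _ _ h02

theorem qip_smulV (a : ℍ[ℝ]) (x r : Fin 3 → ℍ[ℝ]) :
    qip (smulV a x) (smulV a r) = a * qip x r * star a := by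
  unfold qip
  rw [Finset.mul_sum, Finset.sum_mul]
  refine Finset.sum_congr rfl fun t _ => ?_
  simp only [smulV, star_mul, mul_assoc]

theorem qip_smulV_left (a : ℍ[ℝ]) (x r : Fin 3 → ℍ[ℝ]) : qip (smulV a x) r = a * qip x r := by
  unfold qip
  rw [Finset.mul_sum]
  refine Finset.sum_congr rfl fun t _ => ?_
  simp only [smulV, mul_assoc]

theorem qip_smulV_right (a : ℍ[ℝ]) (x r : Fin 3 → ℍ[ℝ]) :
    qip x (smulV a r) = qip x r * star a := by
  unfold qip
  rw [Finset.sum_mul]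
  refine Finset.sum_congr rfl fun t _ => ?_
  simp only [smulV, star_mul, mul_assoc]

/-- a unit of the model: norm one -/
theorem unit_mul_star {u : MQ} (hw : wt u = 16) (hi : wi u = 0) : toH u * star (toH u) = 1 := by
  rw [Quaternion.self_mul_star, MV.normSq_toH, hw, hi]
  have : (((16 : ℤ) : ℝ) + ((0 : ℤ) : ℝ) * Real.sqrt 5) / 16 = 1 := by push_cast; ring
  rw [this]
  norm_cast

theorem unit_star_mul {u : MQ} (hw : wt u = 16) (hi : wi u = 0) : star (toH u) * toH u = 1 := by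
  rw [Quaternion.star_mul_self, MV.normSq_toH, hw, hi]
  have : (((16 : ℤ) : ℝ) + ((0 : ℤ) : ℝ) * Real.sqrt 5) / 16 = 1 := by push_cast; ring
  rw [this]
  norm_cast

theorem qip_smulV_unit {u : MQ} (hw : wt u = 16) (hi : wi u = 0) {v : Fin 3 → ℍ[ℝ]}
    (h4 : qip v v = 4) : qip (smulV (star (toH u)) v) (smulV (star (toH u)) v) = 4 := by
  rw [qip_smulV, h4, star_star]
  have : (4 : ℍ[ℝ]) = ((4 : ℝ) : ℍ[ℝ]) := by norm_cast
  rw [this, ← Quaternion.coe_commutes, mul_assoc, unit_star_mul hw hi, mul_one]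

/-- the weights of the model of a product by a unit -/
theorem wt_of_unit_mul {u X X' : MQ} (hw : wt u = 16) (hi : wi u = 0)
    (e : toH X' = star (toH u) * toH X) : wt X' = wt X ∧ wi X' = wi X := by
  have h1 : Quaternion.normSq (toH X') = Quaternion.normSq (toH X) := by
    rw [e, map_mul, Quaternion.normSq_star]
    have : Quaternion.normSq (toH u) = 1 := by
      rw [MV.normSq_toH, hw, hi]; push_cast; ring
    rw [this, one_mul]
  rw [MV.normSq_toH, MV.normSq_toH] at h1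
  have h2 : (wt X' : ℝ) + (wi X' : ℝ) * Real.sqrt 5 = (wt X : ℝ) + (wi X : ℝ) * Real.sqrt 5 := by
    linarith
  exact eq_of_sqrt5 h2

end Cfsg.Agent.Lib.Helper4.J2
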