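import Cfsg.Agent.Lib.Helper4.J2.G1

set_option autoImplicit false

/-! # Every minimal vector of the icosian Leech lattice is a unit multiple of a vector of the list -/

namespace Cfsg.Agent.Lib.Helper4.J2

open Quaternion Cfsg.Spor MQ MV

/-- the candidates for a coordinate of given weight -/
def cand (w : ℤ) : List AQ :=
  if w = 0 then [annot zero] else if w = 16 then A16lit else if w = 24 then A24lit else A32lit

theorem annot_mem_cand {X : MQ} (h : inI X = true) {w : ℤ} (hw : wt X = w)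
    (hw' : w = 0 ∨ w = 16 ∨ w = 24 ∨ w = 32) : annot X ∈ cand w := by
  rcases hw' with rfl | rfl | rfl | rfl
  · rw [eq_zero_of_wt hw]
    simp [cand]
  · simp only [cand]
    norm_num
    exact annot_mem_A16 h hw
  · simp only [cand]
    norm_num
    exact annot_mem_A24 h hw
  · simp only [cand]
    norm_num
    exact annot_mem_A32 h hw

theorem mem_by_wt {u X X' : MQ} (hwu : wt u = 16) (hiu : wi u = 0)
    (e : toH X' = star (toH u) * toH X) (hX' : inI X' = true) {w : ℤ} (hw : wt X = w)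
    (hw' : w = 0 ∨ w = 16 ∨ w = 24 ∨ w = 32) : annot X' ∈ cand w :=
  annot_mem_cand hX' ((wt_of_unit_mul hwu hiu e).1.trans hw) hw'

theorem mem_by_val {u X X' Q : MQ} (e : toH X' = star (toH u) * toH X)
    (hQ : star (toH u) * toH X = toH Q) : annot X' ∈ [annot Q] := by
  rw [toH_injective (e.trans hQ)]
  simp

/-- the conclusion: a unit multiple of a vector of the list -/
def Concl (v : Fin 3 → ℍ[ℝ]) : Prop :=
  ∃ u R : _, inI u = true ∧ wt u = 16 ∧ wi u = 0 ∧ R ∈ Rlist ∧ v = smulV (toH u) (toV R)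

theorem finish {v : Fin 3 → ℍ[ℝ]} (hv : v ∈ icoLeech) (h4 : qip v v = 4) {u : MQ}
    (hu : inI u = true) (hwu : wt u = 16) {C0 C1 C2 : List AQ} (hchk : chkPat C0 C1 C2 = true)
    (hC : ∀ V' : MV, inL V' = true → toV V' = smulV (star (toH u)) v →
      annot V'.x ∈ C0 ∧ annot V'.y ∈ C1 ∧ annot V'.z ∈ C2) : Concl v := by
  have hiu := wi_of_wt16 hu hwu
  have hv' : smulV (star (toH u)) v ∈ icoLeech :=
    smulV_mem (star_mem_icosians (toH_mem_icosians hu)) hv
  have h4' := qip_smulV_unit hwu hiu h4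
  obtain ⟨V', hL', e'⟩ := MV.exists_model hv'
  rw [e'] at h4'
  obtain ⟨h64, h0⟩ := qip_self_eq_four h4'
  obtain ⟨m0, m1, m2⟩ := hC V' hL' e'.symm
  have hR := mem_of_chkPat hchk m0 m1 m2 hL' h0
  refine ⟨u, V', hu, hwu, hiu, hR, ?_⟩
  rw [← e', smulV_smulV, unit_mul_star hwu hiu, one_smulV]

theorem toV_x (V : MV) : toV V 0 = toH V.x := rfl
theorem toV_y (V : MV) : toV V 1 = toH V.y := rfl
theorem toV_z (V : MV) : toV V 2 = toH V.z := rfl

theorem toH_TWO : toH TWO = 2 := by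
  have : TWO = smulInt 2 one := by decide
  rw [this, toH_smulInt, toH_one, show ((2 : ℤ) : ℝ) = 2 by norm_num, two_smul]
  norm_num

/-- the shapes of the minimal vectors -/
theorem shapes {k0 k1 k2 : ℤ} (h0 : 0 ≤ k0) (h1 : 0 ≤ k1) (h2 : 0 ≤ k2) (n0 : k0 ≠ 1) (n1 : k1 ≠ 1)
    (n2 : k2 ≠ 1) (hs : k0 + k1 + k2 = 8) :
    (k0, k1, k2) ∈ ([(8, 0, 0), (0, 8, 0), (0, 0, 8), (4, 4, 0), (4, 0, 4), (0, 4, 4), (2, 2, 4),
      (2, 4, 2), (4, 2, 2), (2, 3, 3), (3, 2, 3), (3, 3, 2), (6, 2, 0), (6, 0, 2), (2, 6, 0), (0, 6, 2),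
      (2, 0, 6), (0, 2, 6), (5, 3, 0), (5, 0, 3), (3, 5, 0), (0, 5, 3), (3, 0, 5), (0, 3, 5)] :
      List (ℤ × ℤ × ℤ)) := by
  have e : k2 = 8 - k0 - k1 := by omega
  subst e
  have : k0 ≤ 8 := by omega
  have : k1 ≤ 8 := by omega
  interval_cases k0 <;> interval_cases k1 <;> first | (exfalso; omega) | decide

end Cfsg.Agent.Lib.Helper4.J2
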