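import Cfsg.Agent.Lib.Helper4.J2.G2

set_option autoImplicit false

/-! # Every minimal vector of the icosian Leech lattice is a unit multiple of a vector of the list -/

namespace Cfsg.Agent.Lib.Helper4.J2

open Quaternion Cfsg.Spor MQ MV

theorem inL_inI {V : MV} (hL : inL V = true) :
    inI V.x = true ∧ inI V.y = true ∧ inI V.z = true := by
  unfold inL at hL
  simp only [Bool.and_eq_true] at hL
  exact ⟨hL.1.1.1.1.1, hL.1.1.1.1.2, hL.1.1.1.2⟩

theorem smulV_x (a : ℍ[ℝ]) (V : MV) : smulV a (toV V) 0 = a * toH V.x := rfl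
theorem smulV_y (a : ℍ[ℝ]) (V : MV) : smulV a (toV V) 1 = a * toH V.y := rfl
theorem smulV_z (a : ℍ[ℝ]) (V : MV) : smulV a (toV V) 2 = a * toH V.z := rfl

section norm16
variable {V : MV} (hv : toV V ∈ icoLeech) (h4 : qip (toV V) (toV V) = 4)
  (hx : inI V.x = true) (hy : inI V.y = true) (hz : inI V.z = true) {a b : ℤ}
  (ha : a = 0 ∨ a = 16 ∨ a = 24 ∨ a = 32) (hb : b = 0 ∨ b = 16 ∨ b = 24 ∨ b = 32)
include hv h4 hx hy hz ha hb

theorem normX (wx : wt V.x = 16) (wy : wt V.y = a) (wz : wt V.z = b)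
    (hchk : chkPat [annot one] (cand a) (cand b) = true) : Concl (toV V) := by
  have hi := wi_of_wt16 hx wx
  refine finish hv h4 hx wx hchk fun V' hL' e' => ?_
  obtain ⟨_, hy', hz'⟩ := inL_inI hL'
  have ex : toH V'.x = star (toH V.x) * toH V.x := by rw [← toV_x, e', smulV_x]
  have ey : toH V'.y = star (toH V.x) * toH V.y := by rw [← toV_y, e', smulV_y]
  have ez : toH V'.z = star (toH V.x) * toH V.z := by rw [← toV_z, e', smulV_z]
  exact ⟨mem_by_val ex (by rw [unit_star_mul wx hi, toH_one]), mem_by_wt wx hi ey hy' wy ha,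
    mem_by_wt wx hi ez hz' wz hb⟩

theorem normY (wx : wt V.x = a) (wy : wt V.y = 16) (wz : wt V.z = b)
    (hchk : chkPat (cand a) [annot one] (cand b) = true) : Concl (toV V) := by
  have hi := wi_of_wt16 hy wy
  refine finish hv h4 hy wy hchk fun V' hL' e' => ?_
  obtain ⟨hx', _, hz'⟩ := inL_inI hL'
  have ex : toH V'.x = star (toH V.y) * toH V.x := by rw [← toV_x, e', smulV_x]
  have ey : toH V'.y = star (toH V.y) * toH V.y := by rw [← toV_y, e', smulV_y]
  have ez : toH V'.z = star (toH V.y) * toH V.z := by rw [← toV_z, e', smulV_z]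
  exact ⟨mem_by_wt wy hi ex hx' wx ha, mem_by_val ey (by rw [unit_star_mul wy hi, toH_one]),
    mem_by_wt wy hi ez hz' wz hb⟩

theorem normZ (wx : wt V.x = a) (wy : wt V.y = b) (wz : wt V.z = 16)
    (hchk : chkPat (cand a) (cand b) [annot one] = true) : Concl (toV V) := by
  have hi := wi_of_wt16 hz wz
  refine finish hv h4 hz wz hchk fun V' hL' e' => ?_
  obtain ⟨hx', hy', _⟩ := inL_inI hL'
  have ex : toH V'.x = star (toH V.z) * toH V.x := by rw [← toV_x, e', smulV_x]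
  have ey : toH V'.y = star (toH V.z) * toH V.y := by rw [← toV_y, e', smulV_y]
  have ez : toH V'.z = star (toH V.z) * toH V.z := by rw [← toV_z, e', smulV_z]
  exact ⟨mem_by_wt wz hi ex hx' wx ha, mem_by_wt wz hi ey hy' wy hb,
    mem_by_val ez (by rw [unit_star_mul wz hi, toH_one])⟩

/-- normalization of a coordinate of weight 32 in the ideal to `h` -/
theorem normHX (wx : wt V.x = 32) (hP : inP V.x = true) (wy : wt V.y = a) (wz : wt V.z = b)
    (hchk : chkPat [annot H] (cand a) (cand b) = true) : Concl (toV V) := by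
  obtain ⟨u, hu, hwu, hr⟩ := exists_unit_of_wt32 hx wx hP
  have hi := wi_of_wt16 hu hwu
  have hm := toH_mul_of_raw hr
  refine finish hv h4 hu hwu hchk fun V' hL' e' => ?_
  obtain ⟨_, hy', hz'⟩ := inL_inI hL'
  have ex : toH V'.x = star (toH u) * toH V.x := by rw [← toV_x, e', smulV_x]
  have ey : toH V'.y = star (toH u) * toH V.y := by rw [← toV_y, e', smulV_y]
  have ez : toH V'.z = star (toH u) * toH V.z := by rw [← toV_z, e', smulV_z]
  exact ⟨mem_by_val ex (by rw [← hm, ← mul_assoc, unit_star_mul hwu hi, one_mul]),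
    mem_by_wt hwu hi ey hy' wy ha, mem_by_wt hwu hi ez hz' wz hb⟩

theorem normHY (wx : wt V.x = a) (wy : wt V.y = 32) (hP : inP V.y = true) (wz : wt V.z = b)
    (hchk : chkPat (cand a) [annot H] (cand b) = true) : Concl (toV V) := by
  obtain ⟨u, hu, hwu, hr⟩ := exists_unit_of_wt32 hy wy hP
  have hi := wi_of_wt16 hu hwu
  have hm := toH_mul_of_raw hr
  refine finish hv h4 hu hwu hchk fun V' hL' e' => ?_
  obtain ⟨hx', _, hz'⟩ := inL_inI hL'
  have ex : toH V'.x = star (toH u) * toH V.x := by rw [← toV_x, e', smulV_x]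
  have ey : toH V'.y = star (toH u) * toH V.y := by rw [← toV_y, e', smulV_y]
  have ez : toH V'.z = star (toH u) * toH V.z := by rw [← toV_z, e', smulV_z]
  exact ⟨mem_by_wt hwu hi ex hx' wx ha,
    mem_by_val ey (by rw [← hm, ← mul_assoc, unit_star_mul hwu hi, one_mul]),
    mem_by_wt hwu hi ez hz' wz hb⟩

end norm16

theorem half_unit {X Y : MQ} (hY : inI Y = true) (e : X = smulInt 2 Y) (w : wt X = 64) :
    wt Y = 16 ∧ star (toH Y) * toH X = toH TWO := by
  have hw : wt Y = 16 := by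
    rw [e, wt_smulInt] at w
    omega
  refine ⟨hw, ?_⟩
  have hi := wi_of_wt16 hY hw
  rw [e, toH_smulInt, mul_smul_comm, unit_star_mul hw hi, toH_TWO,
    show ((2 : ℤ) : ℝ) = 2 by norm_num, two_smul]
  norm_num

section norm64
variable {V : MV} (hv : toV V ∈ icoLeech) (h4 : qip (toV V) (toV V) = 4)
include hv h4

theorem normTX (wx : wt V.x = 64) (hP : inP V.x = true) (hP' : inP' V.x = true) (wy : wt V.y = 0)
    (wz : wt V.z = 0) : Concl (toV V) := by
  obtain ⟨Y, hY, e⟩ := exists_half hP hP'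
  obtain ⟨hw, hm⟩ := half_unit hY e wx
  have hi := wi_of_wt16 hY hw
  refine finish hv h4 hY hw chk10 fun V' hL' e' => ?_
  have ex : toH V'.x = star (toH Y) * toH V.x := by rw [← toV_x, e', smulV_x]
  have ey : toH V'.y = star (toH Y) * toH V.y := by rw [← toV_y, e', smulV_y]
  have ez : toH V'.z = star (toH Y) * toH V.z := by rw [← toV_z, e', smulV_z]
  refine ⟨mem_by_val ex hm, mem_by_val ey ?_, mem_by_val ez ?_⟩
  · rw [eq_zero_of_wt wy, toH_zero, mul_zero]
  · rw [eq_zero_of_wt wz, toH_zero, mul_zero]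

theorem normTY (wy : wt V.y = 64) (hP : inP V.y = true) (hP' : inP' V.y = true) (wx : wt V.x = 0)
    (wz : wt V.z = 0) : Concl (toV V) := by
  obtain ⟨Y, hY, e⟩ := exists_half hP hP'
  obtain ⟨hw, hm⟩ := half_unit hY e wy
  have hi := wi_of_wt16 hY hw
  refine finish hv h4 hY hw chk11 fun V' hL' e' => ?_
  have ex : toH V'.x = star (toH Y) * toH V.x := by rw [← toV_x, e', smulV_x]
  have ey : toH V'.y = star (toH Y) * toH V.y := by rw [← toV_y, e', smulV_y]
  have ez : toH V'.z = star (toH Y) * toH V.z := by rw [← toV_z, e', smulV_z]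
  refine ⟨mem_by_val ex ?_, mem_by_val ey hm, mem_by_val ez ?_⟩
  · rw [eq_zero_of_wt wx, toH_zero, mul_zero]
  · rw [eq_zero_of_wt wz, toH_zero, mul_zero]

theorem normTZ (wz : wt V.z = 64) (hP : inP V.z = true) (hP' : inP' V.z = true) (wx : wt V.x = 0)
    (wy : wt V.y = 0) : Concl (toV V) := by
  obtain ⟨Y, hY, e⟩ := exists_half hP hP'
  obtain ⟨hw, hm⟩ := half_unit hY e wz
  have hi := wi_of_wt16 hY hw
  refine finish hv h4 hY hw chk12 fun V' hL' e' => ?_
  have ex : toH V'.x = star (toH Y) * toH V.x := by rw [← toV_x, e', smulV_x]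
  have ey : toH V'.y = star (toH Y) * toH V.y := by rw [← toV_y, e', smulV_y]
  have ez : toH V'.z = star (toH Y) * toH V.z := by rw [← toV_z, e', smulV_z]
  refine ⟨mem_by_val ex ?_, mem_by_val ey ?_, mem_by_val ez hm⟩
  · rw [eq_zero_of_wt wx, toH_zero, mul_zero]
  · rw [eq_zero_of_wt wy, toH_zero, mul_zero]

end norm64

/-- a coordinate of weight 16 or 24 is not congruent to a zero coordinate -/
theorem excl {X Z : MQ} (hX : inI X = true) (w : wt X = 16 ∨ wt X = 24) (hZ : wt Z = 0)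
    (d : inP (sub X Z) = true) : False := by
  rw [eq_zero_of_wt hZ, sub_zero'] at d
  rcases w with w | w
  · rw [not_inP_of_wt16 hX w] at d
    exact Bool.false_ne_true d
  · rw [not_inP_of_wt24 hX w] at d
    exact Bool.false_ne_true d

theorem add_zero_zero (X : MQ) : add (add X zero) zero = X := by
  ext <;> simp [add, zero]
theorem add_zero_mid (X : MQ) : add (add zero X) zero = X := by
  ext <;> simp [add, zero]
theorem add_zero_last (X : MQ) : add (add zero zero) X = X := by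
  ext <;> simp [add, zero]

/-- every minimal vector is a unit multiple of a vector of the list -/
theorem complete {v : Fin 3 → ℍ[ℝ]} (hv : v ∈ icoLeech) (h4 : qip v v = 4) : Concl v := by
  obtain ⟨V, hL, rfl⟩ := MV.exists_model hv
  obtain ⟨h64, h0⟩ := qip_self_eq_four h4
  obtain ⟨hx, hy, hz⟩ := inL_inI hL
  have hP' : inP' (add (add V.x V.y) V.z) = true := by
    unfold inL at hL
    simp only [Bool.and_eq_true] at hL
    exact hL.2
  have dxy : inP (sub V.x V.y) = true := inP_of_toH (by rw [toH_sub]; exact icoLeech_diff hv 0 1)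
  have dxz : inP (sub V.x V.z) = true := inP_of_toH (by rw [toH_sub]; exact icoLeech_diff hv 0 2)
  have dyx : inP (sub V.y V.x) = true := inP_of_toH (by rw [toH_sub]; exact icoLeech_diff hv 1 0)
  have dyz : inP (sub V.y V.z) = true := inP_of_toH (by rw [toH_sub]; exact icoLeech_diff hv 1 2)
  have dzx : inP (sub V.z V.x) = true := inP_of_toH (by rw [toH_sub]; exact icoLeech_diff hv 2 0)
  have dzy : inP (sub V.z V.y) = true := inP_of_toH (by rw [toH_sub]; exact icoLeech_diff hv 2 1)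
  obtain ⟨k0, e0⟩ := wt_dvd hx
  obtain ⟨k1, e1⟩ := wt_dvd hy
  obtain ⟨k2, e2⟩ := wt_dvd hz
  have p0 := wt_nonneg V.x
  have p1 := wt_nonneg V.y
  have p2 := wt_nonneg V.z
  have n0 := wt_ne_8 hx
  have n1 := wt_ne_8 hy
  have n2 := wt_ne_8 hz
  unfold wtV at h64
  have hs := shapes (k0 := k0) (k1 := k1) (k2 := k2) (by omega) (by omega) (by omega) (by omega)
    (by omega) (by omega) (by omega)
  simp only [List.mem_cons, Prod.mk.injEq, List.not_mem_nil, or_false] at hs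
  have o16 : (16 : ℤ) = 0 ∨ (16 : ℤ) = 16 ∨ (16 : ℤ) = 24 ∨ (16 : ℤ) = 32 := Or.inr (Or.inl rfl)
  have o24 : (24 : ℤ) = 0 ∨ (24 : ℤ) = 16 ∨ (24 : ℤ) = 24 ∨ (24 : ℤ) = 32 := Or.inr (Or.inr (Or.inl rfl))
  have o32 : (32 : ℤ) = 0 ∨ (32 : ℤ) = 16 ∨ (32 : ℤ) = 24 ∨ (32 : ℤ) = 32 := Or.inr (Or.inr (Or.inr rfl))
  have o0 : (0 : ℤ) = 0 ∨ (0 : ℤ) = 16 ∨ (0 : ℤ) = 24 ∨ (0 : ℤ) = 32 := Or.inl rfl
  rcases hs with ⟨rfl, rfl, rfl⟩ | ⟨rfl, rfl, rfl⟩ | ⟨rfl, rfl, rfl⟩ | ⟨rfl, rfl, rfl⟩ |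
    ⟨rfl, rfl, rfl⟩ | ⟨rfl, rfl, rfl⟩ | ⟨rfl, rfl, rfl⟩ | ⟨rfl, rfl, rfl⟩ | ⟨rfl, rfl, rfl⟩ |
    ⟨rfl, rfl, rfl⟩ | ⟨rfl, rfl, rfl⟩ | ⟨rfl, rfl, rfl⟩ | ⟨rfl, rfl, rfl⟩ | ⟨rfl, rfl, rfl⟩ |
    ⟨rfl, rfl, rfl⟩ | ⟨rfl, rfl, rfl⟩ | ⟨rfl, rfl, rfl⟩ | ⟨rfl, rfl, rfl⟩ | ⟨rfl, rfl, rfl⟩ |
    ⟨rfl, rfl, rfl⟩ | ⟨rfl, rfl, rfl⟩ | ⟨rfl, rfl, rfl⟩ | ⟨rfl, rfl, rfl⟩ | ⟨rfl, rfl, rfl⟩
  -- (8,0,0)
  · have wy : wt V.y = 0 := by omega
    have wz : wt V.z = 0 := by omega
    refine normTX hv h4 (by omega) ?_ ?_ wy wz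
    · rw [eq_zero_of_wt wy, sub_zero'] at dxy; exact dxy
    · rw [eq_zero_of_wt wy, eq_zero_of_wt wz, add_zero_zero] at hP'; exact hP'
  -- (0,8,0)
  · have wx : wt V.x = 0 := by omega
    have wz : wt V.z = 0 := by omega
    refine normTY hv h4 (by omega) ?_ ?_ wx wz
    · rw [eq_zero_of_wt wx, sub_zero'] at dyx; exact dyx
    · rw [eq_zero_of_wt wx, eq_zero_of_wt wz, add_zero_mid] at hP'; exact hP'
  -- (0,0,8)
  · have wx : wt V.x = 0 := by omega
    have wy : wt V.y = 0 := by omega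
    refine normTZ hv h4 (by omega) ?_ ?_ wx wy
    · rw [eq_zero_of_wt wx, sub_zero'] at dzx; exact dzx
    · rw [eq_zero_of_wt wx, eq_zero_of_wt wy, add_zero_last] at hP'; exact hP'
  -- (4,4,0)
  · have wz : wt V.z = 0 := by omega
    refine normHX hv h4 hx hy hz o32 o0 (by omega) ?_ (by omega) wz chk7
    rw [eq_zero_of_wt wz, sub_zero'] at dxz; exact dxz
  -- (4,0,4)
  · have wy : wt V.y = 0 := by omega
    refine normHX hv h4 hx hy hz o0 o32 (by omega) ?_ wy (by omega) chk8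
    rw [eq_zero_of_wt wy, sub_zero'] at dxy; exact dxy
  -- (0,4,4)
  · have wx : wt V.x = 0 := by omega
    refine normHY hv h4 hx hy hz o0 o32 wx (by omega) ?_ (by omega) chk9
    rw [eq_zero_of_wt wx, sub_zero'] at dyx; exact dyx
  -- (2,2,4)
  · exact normX hv h4 hx hy hz o16 o32 (by omega) (by omega) (by omega) chk1
  -- (2,4,2)
  · exact normX hv h4 hx hy hz o32 o16 (by omega) (by omega) (by omega) chk2
  -- (4,2,2)
  · exact normY hv h4 hx hy hz o32 o16 (by omega) (by omega) (by omega) chk3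
  -- (2,3,3)
  · exact normX hv h4 hx hy hz o24 o24 (by omega) (by omega) (by omega) chk4
  -- (3,2,3)
  · exact normY hv h4 hx hy hz o24 o24 (by omega) (by omega) (by omega) chk5
  -- (3,3,2)
  · exact normZ hv h4 hx hy hz o24 o24 (by omega) (by omega) (by omega) chk6
  -- (6,2,0)
  · exact (excl hy (Or.inl (by omega)) (show wt V.z = 0 by omega) dyz).elim
  -- (6,0,2)
  · exact (excl hz (Or.inl (by omega)) (show wt V.y = 0 by omega) dzy).elim
  -- (2,6,0)
  · exact (excl hx (Or.inl (by omega)) (show wt V.z = 0 by omega) dxz).elim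
  -- (0,6,2)
  · exact (excl hz (Or.inl (by omega)) (show wt V.x = 0 by omega) dzx).elim
  -- (2,0,6)
  · exact (excl hx (Or.inl (by omega)) (show wt V.y = 0 by omega) dxy).elim
  -- (0,2,6)
  · exact (excl hy (Or.inl (by omega)) (show wt V.x = 0 by omega) dyx).elim
  -- (5,3,0)
  · exact (excl hy (Or.inr (by omega)) (show wt V.z = 0 by omega) dyz).elim
  -- (5,0,3)
  · exact (excl hz (Or.inr (by omega)) (show wt V.y = 0 by omega) dzy).elim
  -- (3,5,0)
  · exact (excl hx (Or.inr (by omega)) (show wt V.z = 0 by omega) dxz).elim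
  -- (0,5,3)
  · exact (excl hz (Or.inr (by omega)) (show wt V.x = 0 by omega) dzx).elim
  -- (3,0,5)
  · exact (excl hx (Or.inr (by omega)) (show wt V.y = 0 by omega) dxy).elim
  -- (0,3,5)
  · exact (excl hy (Or.inr (by omega)) (show wt V.x = 0 by omega) dyx).elim

end Cfsg.Agent.Lib.Helper4.J2
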