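import Cfsg.Agent.Lib.Helper4.J2.G1

set_option autoImplicit false

/-! # The Hermitian product and the quaternionic reflections on the ambient space -/

namespace Cfsg.Agent.Lib.Helper4.J2

open Quaternion Cfsg.Spor

theorem qip_add_left (x y r : Fin 3 → ℍ[ℝ]) : qip (x + y) r = qip x r + qip y r := by
  unfold qip
  rw [← Finset.sum_add_distrib]
  refine Finset.sum_congr rfl fun t _ => ?_
  simp only [Pi.add_apply, add_mul]

theorem qip_add_right (x r s : Fin 3 → ℍ[ℝ]) : qip x (r + s) = qip x r + qip x s := by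
  unfold qip
  rw [← Finset.sum_add_distrib]
  refine Finset.sum_congr rfl fun t _ => ?_
  simp only [Pi.add_apply, star_add, mul_add]

theorem qip_neg_left (x r : Fin 3 → ℍ[ℝ]) : qip (-x) r = -qip x r := by
  unfold qip
  rw [← Finset.sum_neg_distrib]
  refine Finset.sum_congr rfl fun t _ => ?_
  simp only [Pi.neg_apply, neg_mul]

theorem qip_neg_right (x r : Fin 3 → ℍ[ℝ]) : qip x (-r) = -qip x r := by
  unfold qip
  rw [← Finset.sum_neg_distrib]
  refine Finset.sum_congr rfl fun t _ => ?_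
  simp only [Pi.neg_apply, star_neg, mul_neg]

theorem qip_sub_left (x y r : Fin 3 → ℍ[ℝ]) : qip (x - y) r = qip x r - qip y r := by
  rw [sub_eq_add_neg, qip_add_left, qip_neg_left, ← sub_eq_add_neg]

theorem qip_sub_right (x r s : Fin 3 → ℍ[ℝ]) : qip x (r - s) = qip x r - qip x s := by
  rw [sub_eq_add_neg, qip_add_right, qip_neg_right, ← sub_eq_add_neg]

theorem star_qip (x r : Fin 3 → ℍ[ℝ]) : star (qip x r) = qip r x := by
  unfold qip
  rw [star_sum]
  refine Finset.sum_congr rfl fun t _ => ?_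
  simp only [star_mul, star_star]

theorem smulV_add (a : ℍ[ℝ]) (x y : Fin 3 → ℍ[ℝ]) : smulV a (x + y) = smulV a x + smulV a y := by
  funext t
  simp only [smulV, Pi.add_apply, mul_add]

theorem smulV_sub (a : ℍ[ℝ]) (x y : Fin 3 → ℍ[ℝ]) : smulV a (x - y) = smulV a x - smulV a y := by
  funext t
  simp only [smulV, Pi.sub_apply, mul_sub]

theorem add_smulV (a b : ℍ[ℝ]) (x : Fin 3 → ℍ[ℝ]) : smulV (a + b) x = smulV a x + smulV b x := by
  funext t
  simp only [smulV, Pi.add_apply, add_mul]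

theorem smulV_neg (a : ℍ[ℝ]) (x : Fin 3 → ℍ[ℝ]) : smulV a (-x) = -smulV a x := by
  funext t
  simp only [smulV, Pi.neg_apply, mul_neg]

theorem neg_smulV (a : ℍ[ℝ]) (x : Fin 3 → ℍ[ℝ]) : smulV (-a) x = -smulV a x := by
  funext t
  simp only [smulV, Pi.neg_apply, neg_mul]

theorem qrefl_eq (r x : Fin 3 → ℍ[ℝ]) : qrefl r x = x - smulV ((1 / 2 : ℝ) • qip x r) r := by
  funext t
  simp only [qrefl, smulV, Pi.sub_apply]

theorem qrefl_add (r x y : Fin 3 → ℍ[ℝ]) : qrefl r (x + y) = qrefl r x + qrefl r y := by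
  rw [qrefl_eq, qrefl_eq, qrefl_eq, qip_add_left, smul_add, add_smulV]
  abel

theorem qrefl_smulV (r : Fin 3 → ℍ[ℝ]) (a : ℍ[ℝ]) (x : Fin 3 → ℍ[ℝ]) :
    qrefl r (smulV a x) = smulV a (qrefl r x) := by
  rw [qrefl_eq, qrefl_eq, qip_smulV_left, smulV_sub, smulV_smulV, mul_smul_comm]

theorem qip_qrefl_self {r : Fin 3 → ℍ[ℝ]} (h4 : qip r r = 4) (x : Fin 3 → ℍ[ℝ]) :
    qip (qrefl r x) r = -qip x r := by
  have e4 : (4 : ℍ[ℝ]) = ((4 : ℝ) : ℍ[ℝ]) := by norm_cast
  rw [qrefl_eq, qip_sub_left, qip_smulV_left, h4, e4, ← Quaternion.coe_commutes,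
    Quaternion.coe_mul_eq_smul, smul_smul]
  have : (4 : ℝ) * (1 / 2) = 2 := by norm_num
  rw [this, two_smul]
  abel

theorem qrefl_qrefl {r : Fin 3 → ℍ[ℝ]} (h4 : qip r r = 4) (x : Fin 3 → ℍ[ℝ]) :
    qrefl r (qrefl r x) = x := by
  rw [qrefl_eq r (qrefl r x), qip_qrefl_self h4, smul_neg, neg_smulV, sub_neg_eq_add, qrefl_eq,
    sub_add_cancel]

/-- the reflections are isometries -/
theorem qip_qrefl {r : Fin 3 → ℍ[ℝ]} (h4 : qip r r = 4) (x y : Fin 3 → ℍ[ℝ]) :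
    qip (qrefl r x) (qrefl r y) = qip x y := by
  have e4 : (4 : ℍ[ℝ]) = ((4 : ℝ) : ℍ[ℝ]) := by norm_cast
  rw [qrefl_eq r y, qip_sub_right, qip_smulV_right, qip_qrefl_self h4, qrefl_eq r x, qip_sub_left,
    qip_smulV_left, Quaternion.star_smul, star_qip]
  simp only [mul_smul_comm, smul_mul_assoc, neg_mul, smul_neg, sub_neg_eq_add]
  abel

/-- the reflection in a unit multiple of `r` is the reflection in `r` -/
theorem qrefl_smulV_unit {q : ℍ[ℝ]} (hq : star q * q = 1) (r x : Fin 3 → ℍ[ℝ]) :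
    qrefl (smulV q r) x = qrefl r x := by
  rw [qrefl_eq, qrefl_eq, qip_smulV_right, smulV_smulV, smul_mul_assoc, mul_assoc, hq, mul_one]

theorem qrefl_neg (r x : Fin 3 → ℍ[ℝ]) : qrefl r (-x) = -qrefl r x := by
  rw [qrefl_eq, qrefl_eq, qip_neg_left, smul_neg, neg_smulV]
  abel

end Cfsg.Agent.Lib.Helper4.J2
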