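import Cfsg.Agent.Lib.Helper4.J2.H9

set_option autoImplicit false

/-! # The reflections form one conjugacy class -/

namespace Cfsg.Agent.Lib.Helper4.J2

open Quaternion Cfsg.Spor MQ MV

/-- induction along the tree: a property of the first reflection that is stable under conjugation
by the generators holds for all the reflections of the list -/
theorem rl_induction (P : Equiv.Perm ↥icoLeech → Prop) (h0 : P (reflOf (rl 0)))
    (hstep : ∀ c < 5, ∀ f, P f → P (gen c * f * (gen c)⁻¹)) :
    ∀ i < 315, P (reflOf (rl i)) := by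
  intro i
  induction i using Nat.strong_induction_on with
  | _ i ih =>
    intro hi
    rcases Nat.eq_zero_or_pos i with rfl | hpos
    · exact h0
    · obtain ⟨e, he, rfl⟩ := exists_entry hpos hi
      have hok := List.all_eq_true.mp tree_ok e he
      unfold entryOK at hok
      simp only [Bool.and_eq_true, decide_eq_true_eq] at hok
      obtain ⟨⟨⟨⟨⟨hj, hc⟩, hu⟩, hwu⟩, hiu⟩, hm⟩ := hok
      cases hY : applyM (genRefs e.2.2.1) (rl e.2.1) with
      | none => rw [hY] at hm; simp at hm
      | some Y =>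
        rw [hY] at hm
        simp only [Bool.and_eq_true, decide_eq_true_eq] at hm
        obtain ⟨⟨mx, my⟩, mz⟩ := hm
        have hgj := rl_good (lt_trans hj hi)
        have hgi := rl_good hi
        have hjK := ih e.2.1 hj (lt_trans hj hi)
        have hnice := (nice_of_mem (gen_mem e.2.2.1)).1
        have himg : ((gen e.2.2.1 ⟨toV (rl e.2.1), hgj.1⟩ : ↥icoLeech) : Fin 3 → ℍ[ℝ]) =
            smulV (toH e.2.2.2) (toV (rl e.1)) := by
          have := prodRefl_apply (genRefs_good e.2.2.1) hY ⟨toV (rl e.2.1), hgj.1⟩ rfl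
          unfold gen
          rw [this]
          funext t
          fin_cases t
          · exact (toH_mul_of_raw mx).symm
          · exact (toH_mul_of_raw my).symm
          · exact (toH_mul_of_raw mz).symm
        have hconj := hnice.conj_reflP ⟨toV (rl e.2.1), hgj.1⟩ hgj.2
        have : reflOf (rl e.1) = gen e.2.2.1 * reflOf (rl e.2.1) * (gen e.2.2.1)⁻¹ := by
          rw [reflOf_eq hgj, hconj, reflOf_eq hgi]
          refine eq_reflP _ _ fun x => ?_
          rw [reflP_apply]
          show qrefl (toV (rl e.1)) x = qrefl ((gen e.2.2.1 ⟨toV (rl e.2.1), hgj.1⟩ : ↥icoLeech) : Fin 3 → ℍ[ℝ]) x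
          rw [himg, qrefl_smulV_unit (unit_star_mul hwu hiu)]
        rw [this]
        exact hstep _ hc _ hjK

/-- every reflection of the list is conjugate to the first one -/
theorem conj_rl : ∀ i < 315, ∃ g ∈ twoJ2, g * reflOf (rl 0) * g⁻¹ = reflOf (rl i) := by
  refine rl_induction (fun f => ∃ g ∈ twoJ2, g * reflOf (rl 0) * g⁻¹ = f)
    ⟨1, Subgroup.one_mem _, by rw [inv_one, mul_one, one_mul]⟩ ?_
  rintro c _ f ⟨g, hg, rfl⟩
  refine ⟨gen c * g, Subgroup.mul_mem _ (gen_mem c) hg, ?_⟩
  rw [mul_inv_rev]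
  simp only [mul_assoc]

/-- the reflections form one conjugacy class of the reflection group -/
theorem conj_refl {f f' : Equiv.Perm ↥icoLeech} (hf : IsIcoReflection f)
    (hf' : IsIcoReflection f') : ∃ g ∈ twoJ2, g * f * g⁻¹ = f' := by
  obtain ⟨i, hi, rfl⟩ := exists_rl hf
  obtain ⟨j, hj, rfl⟩ := exists_rl hf'
  obtain ⟨g, hg, e⟩ := conj_rl i hi
  obtain ⟨g', hg', e'⟩ := conj_rl j hj
  refine ⟨g' * g⁻¹, Subgroup.mul_mem _ hg' (Subgroup.inv_mem _ hg), ?_⟩
  rw [← e, ← e']
  simp only [mul_inv_rev, inv_inv, mul_assoc, inv_mul_cancel_left]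

end Cfsg.Agent.Lib.Helper4.J2
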