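import Cfsg.Agent.Lib.Helper4.J2.H11
import Cfsg.Agent.Lib.Helper4.J2.AL2

set_option autoImplicit false

/-! # Distinct vectors of the list span distinct lines -/

namespace Cfsg.Agent.Lib.Helper4.J2

open Quaternion Cfsg.Spor MQ MV

/-- the weights of the coordinates -/
def key (R : MV) : ℤ × ℤ × ℤ := (wt R.x, wt R.y, wt R.z)

/-- the index of the coordinate used for the normalization -/
def selIdx (k : ℤ × ℤ × ℤ) : ℕ :=
  if k.1 = 16 then 0 else if k.2.1 = 16 then 1 else if k.2.2 = 16 then 2
  else if k.1 ≠ 0 then 0 else if k.2.1 ≠ 0 then 1 else 2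

/-- a coordinate -/
def coord (R : MV) : ℕ → MQ
  | 0 => R.x
  | 1 => R.y
  | _ => R.z

/-- the normalization condition -/
def isNormal (R : MV) : Bool :=
  decide (coord R (selIdx (key R)) = one) || decide (coord R (selIdx (key R)) = TWO) ||
    decide (coord R (selIdx (key R)) = H)

theorem Rlist_normal : Rlist.all isNormal = true := by decide +kernel

theorem wt_eq_of_mul {q : ℍ[ℝ]} (hq : Quaternion.normSq q = 1) {X X' : MQ}
    (e : toH X = q * toH X') : wt X = wt X' := by
  have h1 : Quaternion.normSq (toH X) = Quaternion.normSq (toH X') := by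
    rw [e, map_mul, hq, one_mul]
  rw [normSq_toH, normSq_toH] at h1
  have h2 : (wt X : ℝ) + (wi X : ℝ) * Real.sqrt 5 = (wt X' : ℝ) + (wi X' : ℝ) * Real.sqrt 5 := by
    linarith
  exact (eq_of_sqrt5 h2).1

theorem toV_coord (R : MV) (t : ℕ) (ht : t < 3) :
    toH (coord R t) = toV R ⟨t, ht⟩ := by
  interval_cases t
  · exact (toV_x R).symm
  · exact (toV_y R).symm
  · exact (toV_z R).symm

/-- two vectors of the list on the same line are equal -/
theorem Rlist_inj {R R' : MV} (hR : R ∈ Rlist) (hR' : R' ∈ Rlist) {q : ℍ[ℝ]}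
    (hq : Quaternion.normSq q = 1) (h : toV R = smulV q (toV R')) : R = R' := by
  have hx : toH R.x = q * toH R'.x := by rw [← toV_x, ← toV_x, h]; rfl
  have hy : toH R.y = q * toH R'.y := by rw [← toV_y, ← toV_y, h]; rfl
  have hz : toH R.z = q * toH R'.z := by rw [← toV_z, ← toV_z, h]; rfl
  have hk : key R = key R' := by
    unfold key
    rw [wt_eq_of_mul hq hx, wt_eq_of_mul hq hy, wt_eq_of_mul hq hz]
  have hn := List.all_eq_true.mp Rlist_normal R hR
  have hn' := List.all_eq_true.mp Rlist_normal R' hR'
  unfold isNormal at hn hn'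
  rw [← hk] at hn'
  set t := selIdx (key R) with ht
  have ht3 : t < 3 := by
    rw [ht]; unfold selIdx; split_ifs <;> norm_num
  have hc : toH (coord R t) = q * toH (coord R' t) := by
    rw [toV_coord R t ht3, toV_coord R' t ht3, h]; rfl
  have hw := wt_eq_of_mul hq hc
  have w1 : wt one = 16 := by decide
  have w2 : wt TWO = 64 := by decide
  have w3 : wt H = 32 := by decide
  simp only [Bool.or_eq_true, decide_eq_true_eq] at hn hn'
  have hcc : coord R t = coord R' t := by
    rcases hn with (e | e) | e <;> rcases hn' with (e' | e') | e' <;> rw [e, e'] at hw ⊢ <;>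
      first | rfl | (exfalso; revert hw; decide)
  have hne : toH (coord R' t) ≠ 0 := by
    intro h0
    rw [← toH_zero] at h0
    have := toH_injective h0
    rcases hn' with (e | e) | e <;> rw [e] at this <;> revert this <;> decide
  rw [hcc] at hc
  have hq1 : q = 1 := by
    have : (q - 1) * toH (coord R' t) = 0 := by rw [sub_mul, one_mul, ← hc, sub_self]
    rcases mul_eq_zero.mp this with h' | h'
    · exact sub_eq_zero.mp h'
    · exact absurd h' hne
  rw [hq1, one_smulV] at h
  exact toV_injective h

end Cfsg.Agent.Lib.Helper4.J2
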