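import Cfsg.Agent.Lib.Helper4.J2.H12

set_option autoImplicit false
set_option linter.constructorNameAsVariable false

/-! # The numbers of minimal vectors and of reflections -/

namespace Cfsg.Agent.Lib.Helper4.J2

open Quaternion Cfsg.Spor MQ MV

theorem four_eq : (4 : ℍ[ℝ]) = ((4 : ℝ) : ℍ[ℝ]) := by norm_cast

theorem normSq_of_qip {q : ℍ[ℝ]} {v w : Fin 3 → ℍ[ℝ]} (hv : qip v v = 4) (hw : qip w w = 4)
    (h : v = smulV q w) : Quaternion.normSq q = 1 := by
  have h1 := qip_smulV q w w
  rw [← h, hv, hw, four_eq, ← Quaternion.coe_commutes, mul_assoc, Quaternion.self_mul_star,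
    ← Quaternion.coe_mul] at h1
  have h2 := Quaternion.coe_injective h1
  linarith

theorem smul_smulV (c : ℝ) (a : ℍ[ℝ]) (v : Fin 3 → ℍ[ℝ]) : smulV (c • a) v = c • smulV a v := by
  funext t
  simp only [smulV, Pi.smul_apply, smul_mul_assoc]

theorem qrefl_self {r : Fin 3 → ℍ[ℝ]} (h4 : qip r r = 4) : qrefl r r = -r := by
  rw [qrefl_eq, h4, smul_smulV]
  have : smulV (4 : ℍ[ℝ]) r = (4 : ℝ) • r := by
    funext t
    simp only [smulV, Pi.smul_apply]
    rw [four_eq, Quaternion.coe_mul_eq_smul]
  rw [this, smul_smul]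
  have h2 : (1 / 2 * 4 : ℝ) = 2 := by norm_num
  rw [h2, two_smul]
  abel

/-- the reflections in two vectors of the list are distinct -/
theorem reflOf_inj {R R' : MV} (hR : R ∈ Rlist) (hR' : R' ∈ Rlist) (h : reflOf R = reflOf R') :
    R = R' := by
  have hg := good_of_goodM (List.all_eq_true.mp Rlist_good _ hR)
  have hg' := good_of_goodM (List.all_eq_true.mp Rlist_good _ hR')
  have h1 := reflOf_apply hg ⟨toV R, hg.1⟩
  rw [h, reflOf_apply hg'] at h1
  simp only at h1
  rw [qrefl_self hg.2, qrefl_eq] at h1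
  -- toV R = smulV q (toV R')
  have h2 : toV R = smulV ((1 / 2 : ℝ) • ((1 / 2 : ℝ) • qip (toV R) (toV R'))) (toV R') := by
    rw [smul_smulV]
    have h3 : smulV ((1 / 2 : ℝ) • qip (toV R) (toV R')) (toV R') = toV R + toV R := by
      calc smulV ((1 / 2 : ℝ) • qip (toV R) (toV R')) (toV R')
          = toV R - (toV R - smulV ((1 / 2 : ℝ) • qip (toV R) (toV R')) (toV R')) := by abel
        _ = toV R - -toV R := by rw [← h1]
        _ = toV R + toV R := by abel
    rw [h3, ← two_smul ℝ (toV R), smul_smul]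
    norm_num
  exact Rlist_inj hR hR' (normSq_of_qip hg.2 hg'.2 h2) h2

theorem Rlist_nodup : Rlist.Nodup := by decide +kernel

theorem length_Rlist : Rlist.length = 315 := rl_mem.length_Rlist'

theorem ncard_reflections : {f : Equiv.Perm ↥icoLeech | IsIcoReflection f}.ncard = 315 := by
  have hset : {f : Equiv.Perm ↥icoLeech | IsIcoReflection f} =
      reflOf '' (↑Rlist.toFinset : Set MV) := by
    ext f
    constructor
    · intro hf
      obtain ⟨i, hi, rfl⟩ := exists_rl hf
      exact ⟨rl i, by simpa using rl_mem hi, rfl⟩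
    · rintro ⟨R, hR, rfl⟩
      have hR' : R ∈ Rlist := by simpa using hR
      have hg := good_of_goodM (List.all_eq_true.mp Rlist_good _ hR')
      rw [reflOf_eq hg]
      exact reflP_isIcoReflection _ _ _
  have hinj : Set.InjOn reflOf (↑Rlist.toFinset : Set MV) := by
    intro R hR R' hR' h
    exact reflOf_inj (by simpa using hR) (by simpa using hR') h
  rw [hset, Set.InjOn.ncard_image hinj, Set.ncard_coe_finset,
    List.toFinset_card_of_nodup Rlist_nodup, length_Rlist]

/-- the units, as a literal list -/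
def U16 : List MQ := A16lit.map AQ.q

theorem L16_eq : L16 = U16 := by
  unfold U16
  rw [← A16_eq, List.map_map]
  exact (List.map_id _).symm

theorem U16_spec : U16.all (fun u => inI u && decide (wt u = 16) && decide (wi u = 0)) = true := by
  decide +kernel

theorem U16_nodup : U16.Nodup := by decide +kernel

theorem length_U16 : U16.length = 120 := by decide +kernel

theorem U16_mem {u : MQ} (h : u ∈ U16) : inI u = true ∧ wt u = 16 ∧ wi u = 0 := by
  have := List.all_eq_true.mp U16_spec u h
  simp only [Bool.and_eq_true, decide_eq_true_eq] at this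
  exact ⟨this.1.1, this.1.2, this.2⟩

/-- the minimal vector of a unit and a vector of the list -/
noncomputable def minVec (p : MQ × MV) : Fin 3 → ℍ[ℝ] := smulV (toH p.1) (toV p.2)

theorem normSq_unit {u : MQ} (hw : wt u = 16) (hi : wi u = 0) : Quaternion.normSq (toH u) = 1 := by
  rw [normSq_toH, hw, hi]; push_cast; ring

theorem minVec_injOn : Set.InjOn minVec (↑(U16.toFinset ×ˢ Rlist.toFinset) : Set (MQ × MV)) := by
  rintro ⟨u, R⟩ hp ⟨u', R'⟩ hp' h
  simp only [Finset.coe_product, List.coe_toFinset, Set.mem_prod, Set.mem_ofPred_eq] at hp hp'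
  obtain ⟨hu, hw, hi⟩ := U16_mem hp.1
  obtain ⟨hu', hw', hi'⟩ := U16_mem hp'.1
  unfold minVec at h
  simp only at h
  have h2 : toV R = smulV (star (toH u) * toH u') (toV R') := by
    rw [← smulV_smulV, ← h, smulV_smulV, unit_star_mul hw hi, one_smulV]
  have hq : Quaternion.normSq (star (toH u) * toH u') = 1 := by
    rw [map_mul, Quaternion.normSq_star, normSq_unit hw hi, normSq_unit hw' hi', one_mul]
  have hRR := Rlist_inj hp.2 hp'.2 hq h2
  subst hRR
  have hg := good_of_goodM (List.all_eq_true.mp Rlist_good _ hp.2)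
  have huu : toH u = toH u' := by
    by_contra hne
    have hz : toV R = 0 := by
      funext t
      have := congrFun h t
      simp only [smulV] at this
      have h0 : (toH u - toH u') * toV R t = 0 := by rw [sub_mul, this, sub_self]
      rcases mul_eq_zero.mp h0 with h' | h'
      · exact absurd (sub_eq_zero.mp h') hne
      · exact h'
    have h4 := hg.2
    rw [hz] at h4
    unfold qip at h4
    simp only [Pi.zero_apply, zero_mul, Finset.sum_const_zero] at h4
    rw [four_eq] at h4
    have h5 := congrArg (fun q : ℍ[ℝ] => q.re) h4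
    simp only [Quaternion.re_coe, Quaternion.re_zero] at h5
    norm_num at h5
  rw [toH_injective huu]

theorem minVec_image :
    {r : Fin 3 → ℍ[ℝ] | r ∈ icoLeech ∧ qip r r = 4} =
      minVec '' (↑(U16.toFinset ×ˢ Rlist.toFinset) : Set (MQ × MV)) := by
  ext v
  constructor
  · rintro ⟨hv, h4⟩
    obtain ⟨u, R, hu, hwu, hiu, hR, rfl⟩ := complete hv h4
    refine ⟨(u, R), ?_, rfl⟩
    simp only [Finset.coe_product, List.coe_toFinset, Set.mem_prod, Set.mem_ofPred_eq]
    exact ⟨L16_eq ▸ mem_L16 hu hwu, hR⟩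
  · rintro ⟨⟨u, R⟩, hp, rfl⟩
    simp only [Finset.coe_product, List.coe_toFinset, Set.mem_prod, Set.mem_ofPred_eq] at hp
    obtain ⟨hu, hw, hi⟩ := U16_mem hp.1
    have hg := good_of_goodM (List.all_eq_true.mp Rlist_good _ hp.2)
    refine ⟨smulV_mem (toH_mem_icosians hu) hg.1, ?_⟩
    unfold minVec
    simp only
    rw [qip_smulV, hg.2, four_eq, ← Quaternion.coe_commutes, mul_assoc, unit_mul_star hw hi,
      mul_one]

theorem ncard_minVec : {r : Fin 3 → ℍ[ℝ] | r ∈ icoLeech ∧ qip r r = 4}.ncard = 37800 := by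
  rw [minVec_image, Set.InjOn.ncard_image minVec_injOn, Set.ncard_coe_finset,
    Finset.card_product, List.toFinset_card_of_nodup Rlist_nodup,
    List.toFinset_card_of_nodup U16_nodup, length_Rlist, length_U16]

end Cfsg.Agent.Lib.Helper4.J2
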