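import Cfsg.Agent.Lib.Helper4.J2.H10
import Cfsg.Prelude.Def_KGroupFacts

set_option autoImplicit false

/-! # The reflection group is a stem extension of the Hall-Janko group with kernel of order 2 -/

namespace Cfsg.Agent.Lib.Helper4.J2

open Quaternion Cfsg.Spor MQ MV
open scoped commutatorElement

/-- the square of the fourth generator is the negation -/
theorem genT_three_sq : genT 3 * genT 3 = negT := by
  apply Subtype.ext
  have h : ((([3, 3] : List ℕ).map genT).prod : ↥twoJ2) = genT 3 * genT 3 := by
    simp only [List.map_cons, List.map_nil, List.prod_cons, List.prod_nil, mul_one]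
  rw [← h, coe_prod_genT, prod_map_gen]
  exact prodRefl_eq_neg (expandW_good _) (by decide +kernel)

/-- the commutator subgroup of the Hall-Janko group is the whole group -/
theorem commutator_J2 : commutator J2 = ⊤ := by
  have := simple_J2
  rcases (inferInstance : (commutator J2).Normal).eq_bot_or_eq_top with h | h
  · exfalso
    obtain ⟨a, b, hab⟩ := exists_not_comm
    have : ⁅a, b⁆ ∈ commutator J2 := Subgroup.commutator_mem_commutator (Subgroup.mem_top a)
      (Subgroup.mem_top b)
    rw [h, Subgroup.mem_bot, commutatorElement_eq_one_iff_mul_comm] at this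
    exact hab this
  · exact h

/-- the negation is in the commutator subgroup of the reflection group -/
theorem negT_mem_commutator : negT ∈ commutator ↥twoJ2 := by
  -- the image of the commutator subgroup in the quotient is everything
  have hmap : (commutator ↥twoJ2).map (QuotientGroup.mk' (Subgroup.center ↥twoJ2)) = ⊤ := by
    rw [commutator_def, Subgroup.map_commutator, ← MonoidHom.range_eq_map,
      MonoidHom.range_eq_top.mpr (QuotientGroup.mk'_surjective _)]
    exact commutator_J2
  have hd : (QuotientGroup.mk' (Subgroup.center ↥twoJ2)) (genT 3) ∈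
      (commutator ↥twoJ2).map (QuotientGroup.mk' (Subgroup.center ↥twoJ2)) := by
    rw [hmap]; exact Subgroup.mem_top _
  obtain ⟨c, hc, e⟩ := hd
  -- `genT 3 = c * z` with `z` central of square one
  have hz : c⁻¹ * genT 3 ∈ Subgroup.center ↥twoJ2 := by
    rw [← QuotientGroup.eq_one_iff (N := Subgroup.center ↥twoJ2) (c⁻¹ * genT 3)]
    rw [QuotientGroup.mk_mul, QuotientGroup.mk_inv]
    rw [QuotientGroup.mk'_apply, QuotientGroup.mk'_apply] at e
    rw [e, inv_mul_cancel]
  have hz2 : (c⁻¹ * genT 3) * (c⁻¹ * genT 3) = 1 := by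
    rw [center_eq] at hz
    rcases hz with h | h
    · rw [h, mul_one]
    · rw [h]; exact negT_mul_self
  have hcomm := Subgroup.mem_center_iff.mp hz
  have : genT 3 * genT 3 = c * c := by
    have e1 : genT 3 = c * (c⁻¹ * genT 3) := by group
    calc genT 3 * genT 3 = c * (c⁻¹ * genT 3) * (c * (c⁻¹ * genT 3)) := by rw [← e1]
      _ = c * (c * (c⁻¹ * genT 3)) * (c⁻¹ * genT 3) := by
          rw [mul_assoc c (c⁻¹ * genT 3), ← mul_assoc (c⁻¹ * genT 3) c, ← hcomm c]
          group
      _ = c * c * ((c⁻¹ * genT 3) * (c⁻¹ * genT 3)) := by group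
      _ = c * c := by rw [hz2, mul_one]
  rw [← genT_three_sq, this]
  exact Subgroup.mul_mem _ hc hc

/-- the reflection group is a stem extension of the Hall-Janko group -/
theorem stem_twoJ2 : Cfsg.IsStemExtension (QuotientGroup.mk' (Subgroup.center ↥twoJ2)) := by
  refine ⟨QuotientGroup.mk'_surjective _, ?_, ?_⟩
  · rw [QuotientGroup.ker_mk']
  · rw [QuotientGroup.ker_mk', center_eq]
    rintro x (rfl | rfl)
    · exact Subgroup.one_mem _
    · exact negT_mem_commutator

theorem card_ker_twoJ2 : Nat.card (QuotientGroup.mk' (Subgroup.center ↥twoJ2)).ker = 2 := by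
  rw [QuotientGroup.ker_mk', center_eq]
  exact card_Z0

instance finite_twoJ2 : Finite ↥twoJ2 := by
  apply Nat.finite_of_card_ne_zero
  rw [card_twoJ2]
  norm_num

/-- the first half of the statement on the multiplier: a finite stem extension with kernel cyclic of
order 2 -/
theorem exists_stem_J2 : ∃ (Γ : Type) (_ : Group Γ) (_ : Finite Γ) (σ : Γ →* J2),
    Cfsg.IsStemExtension σ ∧ Nonempty (σ.ker ≃* Multiplicative (ZMod 2)) := by
  refine ⟨↥twoJ2, inferInstance, inferInstance, QuotientGroup.mk' (Subgroup.center ↥twoJ2),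
    stem_twoJ2, ?_⟩
  have hc := card_ker_twoJ2
  haveI : Fact (Nat.Prime 2) := ⟨Nat.prime_two⟩
  haveI : IsCyclic (QuotientGroup.mk' (Subgroup.center ↥twoJ2)).ker := isCyclic_of_prime_card hc
  have e := zmodCyclicMulEquiv (G := (QuotientGroup.mk' (Subgroup.center ↥twoJ2)).ker) inferInstance
  rw [hc] at e
  exact ⟨e.symm⟩

end Cfsg.Agent.Lib.Helper4.J2
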