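import Cfsg.Agent.Lib.Helper4.J2.H1

set_option autoImplicit false

/-! # The reflections in lattice vectors preserve the icosian Leech lattice -/

namespace Cfsg.Agent.Lib.Helper4.J2

open Quaternion Cfsg.Spor MQ

theorem icoH_mem : icoH ∈ icosians := by
  rw [← toH_H]
  exact toH_mem_icosians (by decide)

theorem icoH_mul_star : icoH * star icoH = 2 := by
  rw [← toH_H, ← toH_conj]
  have h := toH_mul_of_raw (X := H) (Y := conj H) (Z := MV.TWO) (by decide)
  rw [h]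
  exact toH_TWO'
where
  toH_TWO' : toH MV.TWO = 2 := by
    have : MV.TWO = smulInt 2 one := by decide
    rw [this, toH_smulInt, toH_one, show ((2 : ℤ) : ℝ) = 2 by norm_num, two_smul]
    norm_num

theorem star_icoH_mul : star icoH * icoH = 2 := by
  rw [Quaternion.star_mul_self, ← Quaternion.self_mul_star, icoH_mul_star]

theorem mul_two_mul (p q : ℍ[ℝ]) : p * (2 * q) = (2 : ℝ) • (p * q) := by
  rw [two_mul, mul_add, two_smul]

/-- half the Hermitian product of two lattice vectors is an icosian -/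
theorem half_qip_mem {x r : Fin 3 → ℍ[ℝ]} (hx : x ∈ icoLeech) (hr : r ∈ icoLeech) :
    (1 / 2 : ℝ) • qip x r ∈ icosians := by
  obtain ⟨hx1, ⟨a, ha, ea⟩, ⟨b, hb, eb⟩, ⟨c, hc, ec⟩⟩ := hx
  obtain ⟨hr1, ⟨a', ha', ea'⟩, ⟨b', hb', eb'⟩, ⟨c', hc', ec'⟩⟩ := hr
  have hh := icoH_mem
  have p1 : (2 : ℝ) • (b * star a') = (x 1 - x 2) * (star (r 0) - star (r 1)) := by
    rw [eb, ← star_sub, ea', star_mul, mul_assoc, ← mul_assoc icoH, icoH_mul_star, mul_two_mul]
  have p2 : (2 : ℝ) • (b * (icoH * star (r 1))) = (2 : ℝ) • ((x 1 - x 2) * star (r 1)) := by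
    rw [eb, mul_assoc]
  have q1 : (2 : ℝ) • (a * star b') = (x 0 - x 1) * (star (r 1) - star (r 2)) := by
    rw [ea, ← star_sub, eb', star_mul, mul_assoc, ← mul_assoc icoH, icoH_mul_star, mul_two_mul]
  have q2 : (2 : ℝ) • (a * (icoH * star (r 2))) = (2 : ℝ) • ((x 0 - x 1) * star (r 2)) := by
    rw [ea, mul_assoc]
  have c2 : (2 : ℝ) • (c * star c') =
      (x 0 + x 1 + x 2) * (star (r 0) + star (r 1) + star (r 2)) := by
    rw [ec, ← star_add, ← star_add, ec', star_mul, star_star, mul_assoc, ← mul_assoc (star icoH),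
      star_icoH_mul, mul_two_mul]
  have key : qip x r = (2 : ℝ) • (b * (star a' + icoH * star (r 1)) -
      a * (star b' + icoH * star (r 2)) + c * star c' - x 1 * star (r 0 + r 1 + r 2)) := by
    unfold qip
    rw [Fin.sum_univ_three]
    simp only [smul_sub, smul_add, mul_add]
    rw [p1, p2, q1, q2, c2, star_add, star_add]
    simp only [two_smul, mul_add, add_mul, sub_mul, mul_sub]
    abel
  rw [key, smul_smul]
  have h12 : (1 / 2 : ℝ) * 2 = 1 := by norm_num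
  rw [h12, one_smul]
  have hx1' := hx1 1
  have hr0 := star_mem_icosians (hr1 0)
  have hr1' := star_mem_icosians (hr1 1)
  have hr2 := star_mem_icosians (hr1 2)
  refine Subring.sub_mem _ (Subring.add_mem _ (Subring.sub_mem _ ?_ ?_) ?_) ?_
  · exact Subring.mul_mem _ hb (Subring.add_mem _ (star_mem_icosians ha') (Subring.mul_mem _ hh hr1'))
  · exact Subring.mul_mem _ ha (Subring.add_mem _ (star_mem_icosians hb') (Subring.mul_mem _ hh hr2))
  · exact Subring.mul_mem _ hc (star_mem_icosians hc')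
  · refine Subring.mul_mem _ hx1' ?_
    rw [star_add, star_add]
    exact Subring.add_mem _ (Subring.add_mem _ hr0 hr1') hr2

theorem qrefl_mem {x r : Fin 3 → ℍ[ℝ]} (hx : x ∈ icoLeech) (hr : r ∈ icoLeech) :
    qrefl r x ∈ icoLeech := by
  rw [qrefl_eq]
  exact icoLeech_sub hx (smulV_mem (half_qip_mem hx hr) hr)

/-- the reflection in a minimal vector, as a permutation of the lattice -/
noncomputable def reflP (r : Fin 3 → ℍ[ℝ]) (hr : r ∈ icoLeech) (h4 : qip r r = 4) :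
    Equiv.Perm ↥icoLeech where
  toFun x := ⟨qrefl r x, qrefl_mem x.2 hr⟩
  invFun x := ⟨qrefl r x, qrefl_mem x.2 hr⟩
  left_inv x := Subtype.ext (qrefl_qrefl h4 x)
  right_inv x := Subtype.ext (qrefl_qrefl h4 x)

theorem reflP_apply (r : Fin 3 → ℍ[ℝ]) (hr : r ∈ icoLeech) (h4 : qip r r = 4) (x : ↥icoLeech) :
    ((reflP r hr h4 x : ↥icoLeech) : Fin 3 → ℍ[ℝ]) = qrefl r x := rfl

theorem reflP_isIcoReflection (r : Fin 3 → ℍ[ℝ]) (hr : r ∈ icoLeech) (h4 : qip r r = 4) :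
    IsIcoReflection (reflP r hr h4) :=
  ⟨⟨r, hr⟩, h4, fun _ => rfl⟩

theorem reflP_mem (r : Fin 3 → ℍ[ℝ]) (hr : r ∈ icoLeech) (h4 : qip r r = 4) :
    reflP r hr h4 ∈ twoJ2 :=
  Subgroup.subset_closure (reflP_isIcoReflection r hr h4)

theorem eq_reflP {f : Equiv.Perm ↥icoLeech} {r : Fin 3 → ℍ[ℝ]} (hr : r ∈ icoLeech)
    (h4 : qip r r = 4) (h : ∀ x : ↥icoLeech, ((f x : ↥icoLeech) : Fin 3 → ℍ[ℝ]) = qrefl r x) :
    f = reflP r hr h4 :=
  Equiv.ext fun x => Subtype.ext (h x)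

theorem reflP_inv (r : Fin 3 → ℍ[ℝ]) (hr : r ∈ icoLeech) (h4 : qip r r = 4) :
    (reflP r hr h4)⁻¹ = reflP r hr h4 := rfl

end Cfsg.Agent.Lib.Helper4.J2
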