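import Cfsg.Agent.Lib.Helper4.J2.H2

set_option autoImplicit false

/-! # The elements of the reflection group are additive, linear over the icosians and isometric -/

namespace Cfsg.Agent.Lib.Helper4.J2

open Quaternion Cfsg.Spor MQ

/-- an ambient map: additive, linear for the left multiplications, isometric -/
structure Amb (F : (Fin 3 → ℍ[ℝ]) → (Fin 3 → ℍ[ℝ])) : Prop where
  add : ∀ x y, F (x + y) = F x + F y
  smul : ∀ a x, F (smulV a x) = smulV a (F x)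
  iso : ∀ x y, qip (F x) (F y) = qip x y

theorem Amb.id : Amb (fun x => x) := ⟨fun _ _ => rfl, fun _ _ => rfl, fun _ _ => rfl⟩

theorem Amb.comp {F F' : (Fin 3 → ℍ[ℝ]) → (Fin 3 → ℍ[ℝ])} (h : Amb F) (h' : Amb F') :
    Amb (fun x => F (F' x)) :=
  ⟨fun x y => by rw [h'.add, h.add], fun a x => by rw [h'.smul, h.smul],
    fun x y => by rw [h.iso, h'.iso]⟩

theorem Amb.qrefl {r : Fin 3 → ℍ[ℝ]} (h4 : qip r r = 4) : Amb (qrefl r) :=
  ⟨qrefl_add r, fun a x => qrefl_smulV r a x, qip_qrefl h4⟩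

theorem Amb.zero {F : (Fin 3 → ℍ[ℝ]) → (Fin 3 → ℍ[ℝ])} (h : Amb F) : F 0 = 0 := by
  have := h.add 0 0
  rw [add_zero] at this
  exact left_eq_add.mp this

theorem Amb.neg {F : (Fin 3 → ℍ[ℝ]) → (Fin 3 → ℍ[ℝ])} (h : Amb F) (x : Fin 3 → ℍ[ℝ]) :
    F (-x) = -F x := by
  have := h.add x (-x)
  rw [add_neg_cancel, h.zero] at this
  exact (neg_eq_of_add_eq_zero_right this.symm).symm

theorem Amb.sub {F : (Fin 3 → ℍ[ℝ]) → (Fin 3 → ℍ[ℝ])} (h : Amb F) (x y : Fin 3 → ℍ[ℝ]) :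
    F (x - y) = F x - F y := by
  rw [sub_eq_add_neg, h.add, h.neg, ← sub_eq_add_neg]

/-- a permutation of the lattice induced by an ambient map -/
def Nice (g : Equiv.Perm ↥icoLeech) : Prop :=
  ∃ F, Amb F ∧ ∀ x : ↥icoLeech, ((g x : ↥icoLeech) : Fin 3 → ℍ[ℝ]) = F x

theorem Nice.one : Nice 1 := ⟨_, Amb.id, fun _ => rfl⟩

theorem Nice.mul {g g' : Equiv.Perm ↥icoLeech} (h : Nice g) (h' : Nice g') : Nice (g * g') := by
  obtain ⟨F, hF, e⟩ := h
  obtain ⟨F', hF', e'⟩ := h'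
  refine ⟨_, hF.comp hF', fun x => ?_⟩
  rw [Equiv.Perm.mul_apply, e, e']

theorem Nice.ofRefl (r : Fin 3 → ℍ[ℝ]) (hr : r ∈ icoLeech) (h4 : qip r r = 4) :
    Nice (reflP r hr h4) :=
  ⟨_, Amb.qrefl h4, fun _ => rfl⟩

/-- all the elements of the reflection group, and their inverses, are induced by ambient maps -/
theorem nice_of_mem {g : Equiv.Perm ↥icoLeech} (hg : g ∈ twoJ2) : Nice g ∧ Nice g⁻¹ := by
  unfold twoJ2 at hg
  induction hg using Subgroup.closure_induction with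
  | mem f hf =>
    obtain ⟨r, h4, e⟩ := hf
    have : f = reflP r r.2 h4 := eq_reflP r.2 h4 e
    rw [this, reflP_inv]
    exact ⟨Nice.ofRefl _ _ _, Nice.ofRefl _ _ _⟩
  | one => rw [inv_one]; exact ⟨Nice.one, Nice.one⟩
  | mul x y _ _ hx hy =>
    rw [mul_inv_rev]
    exact ⟨hx.1.mul hy.1, hy.2.mul hx.2⟩
  | inv x _ hx =>
    rw [inv_inv]
    exact ⟨hx.2, hx.1⟩

/-- the image of a minimal vector by a nice permutation -/
theorem Nice.qip_apply {g : Equiv.Perm ↥icoLeech} (h : Nice g) (x y : ↥icoLeech) :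
    qip (g x : ↥icoLeech) (g y : ↥icoLeech) = qip (x : Fin 3 → ℍ[ℝ]) y := by
  obtain ⟨F, hF, e⟩ := h
  rw [e, e, hF.iso]

theorem perm_apply_inv {α : Type*} (g : Equiv.Perm α) (x : α) : g (g⁻¹ x) = x :=
  g.apply_symm_apply x

theorem perm_inv_apply {α : Type*} (g : Equiv.Perm α) (x : α) : g⁻¹ (g x) = x :=
  g.symm_apply_apply x

/-- conjugation of a reflection -/
theorem Nice.conj_reflP {g : Equiv.Perm ↥icoLeech} (h : Nice g) (r : ↥icoLeech)
    (h4 : qip (r : Fin 3 → ℍ[ℝ]) r = 4) :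
    g * reflP r r.2 h4 * g⁻¹ =
      reflP (g r : ↥icoLeech) (g r).2 (by rw [h.qip_apply]; exact h4) := by
  obtain ⟨F, hF, e⟩ := h
  refine eq_reflP _ _ fun x => ?_
  rw [Equiv.Perm.mul_apply, Equiv.Perm.mul_apply, e, reflP_apply, qrefl_eq, hF.sub, hF.smul, ← e,
    ← e, perm_apply_inv, qrefl_eq]
  congr 3
  have := hF.iso (g⁻¹ x : ↥icoLeech) r
  rw [← e, ← e, perm_apply_inv] at this
  exact this.symm

end Cfsg.Agent.Lib.Helper4.J2
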