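import Cfsg.Agent.Lib.Helper4.J2.H3
import Cfsg.Agent.Lib.Helper4.J2.G3

set_option autoImplicit false

/-! # The model tests are complete, and the reflections in the model -/

namespace Cfsg.Agent.Lib.Helper4.J2

open Quaternion Cfsg.Spor MQ

namespace MQ

theorem exists_div8 {W : MQ} (h : dvdB 32 (cI W) = true) :
    ∃ A : MQ, inI A = true ∧ W = smulInt 8 A := by
  rw [dvdB_iff] at h
  obtain ⟨h0, h1, h2, h3, h4, h5, h6, h7⟩ := h
  simp only [cI] at h0 h1 h2 h3 h4 h5 h6 h7
  refine ⟨ofC (divInt (cI W) 32), inI_ofC _, ?_⟩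
  ext <;> simp only [ofC, divInt, cI, smulInt] <;> omega

theorem toH_mem_P_of_inP {Y : MQ} (h : inP Y = true) : toH Y ∈ leftIdeal icoH := by
  unfold inP at h
  rw [Bool.and_eq_true] at h
  obtain ⟨A, hA, e⟩ := exists_div8 h.2
  refine ⟨toH A, toH_mem_icosians hA, ?_⟩
  have h1 := toH_raw Y (conj H)
  rw [e, toH_smulInt, toH_conj, toH_H] at h1
  have h2 : toH A = (1 / 2 : ℝ) • (toH Y * star icoH) := by
    have h8 : ((8 : ℤ) : ℝ) ≠ 0 := by norm_num
    apply smul_right_injective _ h8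
    simp only
    rw [h1, smul_smul]
    norm_num
  rw [h2, smul_mul_assoc, mul_assoc, star_icoH_mul, mul_two, smul_add, ← add_smul]
  norm_num

theorem toH_mem_P'_of_inP' {Y : MQ} (h : inP' Y = true) : toH Y ∈ leftIdeal (star icoH) := by
  unfold inP' at h
  rw [Bool.and_eq_true] at h
  obtain ⟨A, hA, e⟩ := exists_div8 h.2
  refine ⟨toH A, toH_mem_icosians hA, ?_⟩
  have h1 := toH_raw Y H
  rw [e, toH_smulInt, toH_H] at h1
  have h2 : toH A = (1 / 2 : ℝ) • (toH Y * icoH) := by
    have h8 : ((8 : ℤ) : ℝ) ≠ 0 := by norm_num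
    apply smul_right_injective _ h8
    simp only
    rw [h1, smul_smul]
    norm_num
  rw [h2, smul_mul_assoc, mul_assoc, icoH_mul_star, mul_two, smul_add, ← add_smul]
  norm_num

theorem toH_divInt {X : MQ} {k : ℤ} (hk : k ≠ 0) (h : dvdB k X = true) :
    toH (divInt X k) = (1 / (k : ℝ)) • toH X := by
  rw [dvdB_iff] at h
  obtain ⟨h0, h1, h2, h3, h4, h5, h6, h7⟩ := h
  have hk' : (k : ℝ) ≠ 0 := by exact_mod_cast hk
  have key : ∀ a : ℤ, a % k = 0 → ((a / k : ℤ) : ℝ) = (a : ℝ) / k := by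
    intro a ha
    have : a = k * (a / k) := by
      have := Int.emod_add_mul_ediv a k
      rw [ha, zero_add] at this
      exact this.symm
    rw [eq_div_iff hk']
    exact_mod_cast (by rw [mul_comm]; exact this.symm)
  ext <;> simp only [toH_re, toH_imI, toH_imJ, toH_imK, divInt, Quaternion.re_smul,
    Quaternion.imI_smul, Quaternion.imJ_smul, Quaternion.imK_smul, smul_eq_mul]
  · rw [key _ h0, key _ h1]; field_simp
  · rw [key _ h2, key _ h3]; field_simp
  · rw [key _ h4, key _ h5]; field_simp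
  · rw [key _ h6, key _ h7]; field_simp

end MQ

namespace MV

theorem toV_mem_of_inL {V : MV} (h : inL V = true) : toV V ∈ icoLeech := by
  unfold inL at h
  simp only [Bool.and_eq_true] at h
  obtain ⟨⟨⟨⟨⟨hx, hy⟩, hz⟩, h1⟩, h2⟩, h3⟩ := h
  refine ⟨fun t => ?_, ?_, ?_, ?_⟩
  · fin_cases t
    · exact toH_mem_icosians hx
    · exact toH_mem_icosians hy
    · exact toH_mem_icosians hz
  · rw [toV_x, toV_y, ← toH_sub]; exact toH_mem_P_of_inP h1
  · rw [toV_y, toV_z, ← toH_sub]; exact toH_mem_P_of_inP h2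
  · rw [toV_x, toV_y, toV_z, ← toH_add, ← toH_add]; exact toH_mem_P'_of_inP' h3

/-- sixteen times the Hermitian product, in the model -/
def ipM (X R : MV) : MQ :=
  add (add (raw X.x (conj R.x)) (raw X.y (conj R.y))) (raw X.z (conj R.z))

/-- the reflection, in the model -/
def reflM (R X : MV) : MV :=
  ⟨sub X.x (divInt (raw (ipM X R) R.x) 32), sub X.y (divInt (raw (ipM X R) R.y) 32),
    sub X.z (divInt (raw (ipM X R) R.z) 32)⟩

/-- the divisibility condition for the reflection in the model -/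
def reflOK (R X : MV) : Bool :=
  dvdB 32 (raw (ipM X R) R.x) && dvdB 32 (raw (ipM X R) R.y) && dvdB 32 (raw (ipM X R) R.z)

theorem qip_toV (X R : MV) : qip (toV X) (toV R) = (1 / 4 : ℝ) • toH (ipM X R) := by
  unfold qip ipM
  rw [Fin.sum_univ_three, toH_add, toH_add, toH_raw, toH_raw, toH_raw, toV_x, toV_y, toV_z, toV_x,
    toV_y, toV_z, toH_conj, toH_conj, toH_conj, ← smul_add, ← smul_add, smul_smul]
  norm_num

theorem qrefl_toV {R X : MV} (h : reflOK R X = true) :
    qrefl (toV R) (toV X) = toV (reflM R X) := by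
  unfold reflOK at h
  simp only [Bool.and_eq_true] at h
  obtain ⟨⟨hx, hy⟩, hz⟩ := h
  have h32 : (32 : ℤ) ≠ 0 := by norm_num
  have key : ∀ Q : MQ, dvdB 32 (raw (ipM X R) Q) = true →
      ((1 / 2 : ℝ) • qip (toV X) (toV R)) * toH Q = toH (divInt (raw (ipM X R) Q) 32) := by
    intro Q hQ
    rw [toH_divInt h32 hQ, toH_raw, qip_toV, smul_smul, smul_smul, smul_mul_assoc]
    norm_num
  funext t
  fin_cases t
  · show toV X 0 - ((1 / 2 : ℝ) • qip (toV X) (toV R)) * toV R 0 = toV (reflM R X) 0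
    rw [toV_x, toV_x, toV_x, key _ hx, reflM, toH_sub]
  · show toV X 1 - ((1 / 2 : ℝ) • qip (toV X) (toV R)) * toV R 1 = toV (reflM R X) 1
    rw [toV_y, toV_y, toV_y, key _ hy, reflM, toH_sub]
  · show toV X 2 - ((1 / 2 : ℝ) • qip (toV X) (toV R)) * toV R 2 = toV (reflM R X) 2
    rw [toV_z, toV_z, toV_z, key _ hz, reflM, toH_sub]

/-- a good model vector: a minimal vector of the lattice -/
def goodM (R : MV) : Bool := inL R && decide (wtV R = 64) && decide (wiV R = 0)

theorem good_of_goodM {R : MV} (h : goodM R = true) :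
    toV R ∈ icoLeech ∧ qip (toV R) (toV R) = 4 := by
  unfold goodM at h
  simp only [Bool.and_eq_true, decide_eq_true_eq] at h
  exact ⟨toV_mem_of_inL h.1.1, qip_self_of h.1.2 h.2⟩

end MV

end Cfsg.Agent.Lib.Helper4.J2
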