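import Cfsg.Agent.Lib.Helper4.J2.H4

set_option autoImplicit false

/-! # Products of reflections, computed in the model -/

namespace Cfsg.Agent.Lib.Helper4.J2

open Quaternion Cfsg.Spor MQ MV

/-- a good model vector: a minimal vector of the lattice -/
def Good (R : MV) : Prop := toV R ∈ icoLeech ∧ qip (toV R) (toV R) = 4

open Classical in
/-- the reflection in a model vector (the identity if the vector is not a minimal vector) -/
noncomputable def reflOf (R : MV) : Equiv.Perm ↥icoLeech :=
  if h : Good R then reflP (toV R) h.1 h.2 else 1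

theorem reflOf_eq {R : MV} (h : Good R) : reflOf R = reflP (toV R) h.1 h.2 := dif_pos h

theorem reflOf_mem (R : MV) : reflOf R ∈ twoJ2 := by
  unfold reflOf
  split_ifs with h
  · exact reflP_mem _ _ _
  · exact Subgroup.one_mem _

theorem reflOf_apply {R : MV} (h : Good R) (x : ↥icoLeech) :
    ((reflOf R x : ↥icoLeech) : Fin 3 → ℍ[ℝ]) = qrefl (toV R) x := by
  rw [reflOf_eq h]
  rfl

/-- a product of reflections, in the model -/
def applyM : List MV → MV → Option MV
  | [], X => some X
  | R :: Rs, X =>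
    match applyM Rs X with
    | some Y => if reflOK R Y then some (reflM R Y) else none
    | none => none

/-- a product of reflections -/
noncomputable def prodRefl (Rs : List MV) : Equiv.Perm ↥icoLeech := (Rs.map reflOf).prod

theorem prodRefl_nil : prodRefl [] = 1 := rfl

theorem prodRefl_cons (R : MV) (Rs : List MV) : prodRefl (R :: Rs) = reflOf R * prodRefl Rs := by
  unfold prodRefl
  rw [List.map_cons, List.prod_cons]

theorem prodRefl_append (Rs Rs' : List MV) : prodRefl (Rs ++ Rs') = prodRefl Rs * prodRefl Rs' := by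
  unfold prodRefl
  rw [List.map_append, List.prod_append]

theorem prodRefl_mem (Rs : List MV) : prodRefl Rs ∈ twoJ2 := by
  induction Rs with
  | nil => exact Subgroup.one_mem _
  | cons R Rs ih =>
    rw [prodRefl_cons]
    exact Subgroup.mul_mem _ (reflOf_mem R) ih

theorem prodRefl_apply {Rs : List MV} (hg : ∀ R ∈ Rs, goodM R = true) {X Y : MV}
    (h : applyM Rs X = some Y) (x : ↥icoLeech) (hx : (x : Fin 3 → ℍ[ℝ]) = toV X) :
    ((prodRefl Rs x : ↥icoLeech) : Fin 3 → ℍ[ℝ]) = toV Y := by
  induction Rs generalizing Y with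
  | nil =>
    simp only [applyM, Option.some.injEq] at h
    rw [prodRefl_nil, Equiv.Perm.one_apply, hx, h]
  | cons R Rs ih =>
    have hgR := good_of_goodM (hg R List.mem_cons_self)
    simp only [applyM] at h
    cases hZ : applyM Rs X with
    | none => rw [hZ] at h; simp at h
    | some Z =>
      rw [hZ] at h
      simp only at h
      split_ifs at h with hok
      simp only [Option.some.injEq] at h
      rw [prodRefl_cons, Equiv.Perm.mul_apply, reflOf_apply hgR,
        ih (fun R' hR' => hg R' (List.mem_cons_of_mem _ hR')) hZ, qrefl_toV hok, h]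

/-- the negation, as a permutation of the lattice -/
noncomputable def negP : Equiv.Perm ↥icoLeech where
  toFun x := ⟨-x, icoLeech_neg x.2⟩
  invFun x := ⟨-x, icoLeech_neg x.2⟩
  left_inv x := Subtype.ext (neg_neg _)
  right_inv x := Subtype.ext (neg_neg _)

theorem negP_apply (x : ↥icoLeech) : ((negP x : ↥icoLeech) : Fin 3 → ℍ[ℝ]) = -x := rfl

/-- the three vectors `2 e_t` -/
def E0 : MV := ⟨TWO, zero, zero⟩
def E1 : MV := ⟨zero, TWO, zero⟩
def E2 : MV := ⟨zero, zero, TWO⟩

def negM (V : MV) : MV := ⟨neg V.x, neg V.y, neg V.z⟩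

theorem toV_negM (V : MV) : toV (negM V) = -toV V := by
  funext t
  fin_cases t
  · show toH (neg V.x) = -toH V.x
    exact toH_neg _
  · show toH (neg V.y) = -toH V.y
    exact toH_neg _
  · show toH (neg V.z) = -toH V.z
    exact toH_neg _

theorem E0_mem : toV E0 ∈ icoLeech := toV_mem_of_inL (by decide +kernel)
theorem E1_mem : toV E1 ∈ icoLeech := toV_mem_of_inL (by decide +kernel)
theorem E2_mem : toV E2 ∈ icoLeech := toV_mem_of_inL (by decide +kernel)

theorem two_smul_eq (x : Fin 3 → ℍ[ℝ]) :
    x + x = smulV (x 0) (toV E0) + smulV (x 1) (toV E1) + smulV (x 2) (toV E2) := by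
  funext t
  fin_cases t
  · show x 0 + x 0 = x 0 * toH TWO + x 1 * toH zero + x 2 * toH zero
    rw [toH_TWO, toH_zero, mul_zero, mul_zero, add_zero, add_zero, mul_two]
  · show x 1 + x 1 = x 0 * toH zero + x 1 * toH TWO + x 2 * toH zero
    rw [toH_TWO, toH_zero, mul_zero, mul_zero, add_zero, zero_add, mul_two]
  · show x 2 + x 2 = x 0 * toH zero + x 1 * toH zero + x 2 * toH TWO
    rw [toH_TWO, toH_zero, mul_zero, mul_zero, zero_add, zero_add, mul_two]

theorem eq_of_add_self {x y : Fin 3 → ℍ[ℝ]} (h : x + x = y + y) : x = y := by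
  have h2 : (2 : ℝ) ≠ 0 := by norm_num
  apply smul_right_injective _ h2
  simp only
  rw [two_smul, two_smul, h]

/-- an ambient map fixing the three vectors `2 e_t` is the identity -/
theorem Amb.eq_of_basis {F : (Fin 3 → ℍ[ℝ]) → (Fin 3 → ℍ[ℝ])} (hF : Amb F)
    (h0 : F (toV E0) = toV E0) (h1 : F (toV E1) = toV E1) (h2 : F (toV E2) = toV E2)
    (x : Fin 3 → ℍ[ℝ]) : F x = x := by
  apply eq_of_add_self
  rw [← hF.add, two_smul_eq x, hF.add, hF.add, hF.smul, hF.smul, hF.smul, h0, h1, h2]

theorem Amb.eq_neg_of_basis {F : (Fin 3 → ℍ[ℝ]) → (Fin 3 → ℍ[ℝ])} (hF : Amb F)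
    (h0 : F (toV E0) = -toV E0) (h1 : F (toV E1) = -toV E1) (h2 : F (toV E2) = -toV E2)
    (x : Fin 3 → ℍ[ℝ]) : F x = -x := by
  apply eq_of_add_self
  have h3 := two_smul_eq x
  rw [← hF.add, two_smul_eq x, hF.add, hF.add, hF.smul, hF.smul, hF.smul, h0, h1, h2, smulV_neg,
    smulV_neg, smulV_neg, ← neg_add, ← neg_add, ← h3]
  abel

/-- the check of a product of reflections on the basis: `some true` for the identity, `some false`
for the negation -/
def basisCheck (Rs : List MV) : Option Bool :=
  match applyM Rs E0, applyM Rs E1, applyM Rs E2 with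
  | some Y0, some Y1, some Y2 =>
    if Y0 = E0 ∧ Y1 = E1 ∧ Y2 = E2 then some true
    else if Y0 = negM E0 ∧ Y1 = negM E1 ∧ Y2 = negM E2 then some false
    else none
  | _, _, _ => none

theorem prodRefl_eq_one {Rs : List MV} (hg : ∀ R ∈ Rs, goodM R = true)
    (h : basisCheck Rs = some true) : prodRefl Rs = 1 := by
  unfold basisCheck at h
  cases h0 : applyM Rs E0 with
  | none => rw [h0] at h; simp at h
  | some Y0 =>
  cases h1 : applyM Rs E1 with
  | none => rw [h0, h1] at h; simp at h
  | some Y1 =>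
  cases h2 : applyM Rs E2 with
  | none => rw [h0, h1, h2] at h; simp at h
  | some Y2 =>
    rw [h0, h1, h2] at h
    simp only at h
    split_ifs at h with c1 c2
    · obtain ⟨rfl, rfl, rfl⟩ := c1
      obtain ⟨F, hF, e⟩ := (nice_of_mem (prodRefl_mem Rs)).1
      have f0 : F (toV E0) = toV E0 := by
        rw [← e ⟨toV E0, E0_mem⟩]; exact prodRefl_apply hg h0 _ rfl
      have f1 : F (toV E1) = toV E1 := by
        rw [← e ⟨toV E1, E1_mem⟩]; exact prodRefl_apply hg h1 _ rfl
      have f2 : F (toV E2) = toV E2 := by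
        rw [← e ⟨toV E2, E2_mem⟩]; exact prodRefl_apply hg h2 _ rfl
      refine Equiv.ext fun x => Subtype.ext ?_
      rw [e, hF.eq_of_basis f0 f1 f2]
      rfl
    · simp at h

theorem prodRefl_eq_neg {Rs : List MV} (hg : ∀ R ∈ Rs, goodM R = true)
    (h : basisCheck Rs = some false) : prodRefl Rs = negP := by
  unfold basisCheck at h
  cases h0 : applyM Rs E0 with
  | none => rw [h0] at h; simp at h
  | some Y0 =>
  cases h1 : applyM Rs E1 with
  | none => rw [h0, h1] at h; simp at h
  | some Y1 =>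
  cases h2 : applyM Rs E2 with
  | none => rw [h0, h1, h2] at h; simp at h
  | some Y2 =>
    rw [h0, h1, h2] at h
    simp only at h
    split_ifs at h with c1 c2
    · simp at h
    · obtain ⟨rfl, rfl, rfl⟩ := c2
      obtain ⟨F, hF, e⟩ := (nice_of_mem (prodRefl_mem Rs)).1
      have f0 : F (toV E0) = -toV E0 := by
        rw [← e ⟨toV E0, E0_mem⟩, ← toV_negM]; exact prodRefl_apply hg h0 _ rfl
      have f1 : F (toV E1) = -toV E1 := by
        rw [← e ⟨toV E1, E1_mem⟩, ← toV_negM]; exact prodRefl_apply hg h1 _ rfl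
      have f2 : F (toV E2) = -toV E2 := by
        rw [← e ⟨toV E2, E2_mem⟩, ← toV_negM]; exact prodRefl_apply hg h2 _ rfl
      refine Equiv.ext fun x => Subtype.ext ?_
      rw [e, hF.eq_neg_of_basis f0 f1 f2]
      rfl

end Cfsg.Agent.Lib.Helper4.J2
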