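import Cfsg.Agent.Lib.Helper4.J2.H5

set_option autoImplicit false

/-! # Five elements of the reflection group satisfying the relators of the presentation, up to sign -/

namespace Cfsg.Agent.Lib.Helper4.J2

open Quaternion Cfsg.Spor MQ MV

/-- the `i`-th vector of the list -/
def rl (i : ℕ) : MV := Rlist.getD i ⟨zero, zero, zero⟩

/-- the reflections whose products are the five generators -/
def genRefs : ℕ → List MV
  | 0 => [rl 0]
  | 1 => [rl 7]
  | 2 => [rl 22]
  | 3 => [rl 22, rl 311, rl 108, rl 114]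
  | 4 => [rl 37, rl 311, rl 107, rl 120]
  | _ => []

/-- the reflections of a word in the generators -/
def expandW (b : List ℕ) : List MV := b.flatMap genRefs

theorem genRefs_good : ∀ c, ∀ R ∈ genRefs c, goodM R = true := by
  intro c R hR
  match c with
  | 0 => revert R; decide +kernel
  | 1 => revert R; decide +kernel
  | 2 => revert R; decide +kernel
  | 3 => revert R; decide +kernel
  | 4 => revert R; decide +kernel
  | (n + 5) => simp [genRefs] at hR

theorem expandW_good (b : List ℕ) : ∀ R ∈ expandW b, goodM R = true := by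
  intro R hR
  unfold expandW at hR
  rw [List.mem_flatMap] at hR
  obtain ⟨c, _, hc⟩ := hR
  exact genRefs_good c R hc

/-- the five generators -/
noncomputable def gen (c : ℕ) : Equiv.Perm ↥icoLeech := prodRefl (genRefs c)

theorem gen_mem (c : ℕ) : gen c ∈ twoJ2 := prodRefl_mem _

theorem prod_map_gen (b : List ℕ) : (b.map gen).prod = prodRefl (expandW b) := by
  induction b with
  | nil => rfl
  | cons c b ih =>
    rw [List.map_cons, List.prod_cons, ih]
    unfold expandW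
    rw [List.flatMap_cons, prodRefl_append]
    rfl

/-- the relators of the presentation -/
def relators : List (List ℕ) := [
  [0, 0],
  [1, 1],
  [2, 2],
  [3, 3],
  [4, 4],
  [0, 1, 0, 1, 0, 1, 0, 1, 0, 1],
  [0, 2, 0, 2],
  [0, 3, 0, 3],
  [0, 4, 0, 4],
  [1, 2, 1, 2, 1, 2],
  [1, 3, 1, 3],
  [1, 4, 1, 4],
  [2, 3, 2, 3, 2, 3, 2, 3, 2, 3, 2, 3, 2, 3, 2, 3],
  [2, 4, 2, 4],
  [3, 4, 3, 4, 3, 4],
  [0, 3, 2, 3, 2, 3, 2, 3, 2],
  [1, 2, 3, 2, 3, 1, 2, 3, 2, 3, 1, 2, 3, 2, 3, 1, 2, 3, 2, 3, 1, 2, 3, 2, 3, 4, 1, 2, 3, 2, 3, 1, 2, 3, 2, 3, 1, 2, 3, 2, 3, 1, 2, 3, 2, 3, 1, 2, 3, 2, 3, 4, 1, 2, 3, 2, 3, 1, 2, 3, 2, 3, 1, 2, 3, 2, 3, 1, 2, 3, 2, 3, 1, 2, 3, 2, 3, 4]]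

theorem relators_check : ∀ b ∈ relators, (basisCheck (expandW b)).isSome = true := by
  decide +kernel

end Cfsg.Agent.Lib.Helper4.J2
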