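import Cfsg.Agent.Lib.Helper4.J2.TR

set_option autoImplicit false

/-! # All the reflections of the list lie in every subgroup containing the five generators -/

namespace Cfsg.Agent.Lib.Helper4.J2

open Quaternion Cfsg.Spor MQ MV

/-- the check of an entry of the tree -/
def entryOK (e : ℕ × ℕ × ℕ × MQ) : Bool :=
  decide (e.2.1 < e.1) && decide (e.2.2.1 < 5) && inI e.2.2.2 && decide (wt e.2.2.2 = 16) &&
    decide (wi e.2.2.2 = 0) &&
    match applyM (genRefs e.2.2.1) (rl e.2.1) with
    | some Y => decide (raw e.2.2.2 (rl e.1).x = smulInt 4 Y.x) &&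
        decide (raw e.2.2.2 (rl e.1).y = smulInt 4 Y.y) &&
        decide (raw e.2.2.2 (rl e.1).z = smulInt 4 Y.z)
    | none => false

theorem tree_ok : tree.all entryOK = true := by decide +kernel

theorem tree_idx : tree.map (fun e => e.1) = List.range' 1 314 := by decide +kernel

theorem Rlist_good : Rlist.all goodM = true := by decide +kernel

theorem rl_mem {i : ℕ} (hi : i < 315) : rl i ∈ Rlist := by
  unfold rl
  rw [List.getD_eq_getElem _ _ (by rw [length_Rlist']; exact hi)]
  exact List.getElem_mem _
where
  length_Rlist' : Rlist.length = 315 := by decide +kernel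

theorem rl_good {i : ℕ} (hi : i < 315) : Good (rl i) :=
  good_of_goodM (List.all_eq_true.mp Rlist_good _ (rl_mem hi))

theorem gen_zero : gen 0 = reflOf (rl 0) := by
  unfold gen prodRefl
  simp [genRefs]

theorem exists_entry {i : ℕ} (h1 : 1 ≤ i) (h2 : i < 315) : ∃ e ∈ tree, e.1 = i := by
  have : i ∈ tree.map (fun e => e.1) := by
    rw [tree_idx, List.mem_range'_1]
    omega
  rw [List.mem_map] at this
  obtain ⟨e, he, rfl⟩ := this
  exact ⟨e, he, rfl⟩

/-- the reflections of the list are in every subgroup containing the generators -/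
theorem reflOf_mem_of_gen (K : Subgroup (Equiv.Perm ↥icoLeech)) (hK : ∀ c < 5, gen c ∈ K) :
    ∀ i < 315, reflOf (rl i) ∈ K := by
  intro i
  induction i using Nat.strong_induction_on with
  | _ i ih =>
    intro hi
    rcases Nat.eq_zero_or_pos i with rfl | hpos
    · rw [← gen_zero]
      exact hK 0 (by norm_num)
    · obtain ⟨e, he, rfl⟩ := exists_entry hpos hi
      have hok := List.all_eq_true.mp tree_ok e he
      unfold entryOK at hok
      simp only [Bool.and_eq_true, decide_eq_true_eq] at hok
      obtain ⟨⟨⟨⟨⟨hj, hc⟩, hu⟩, hwu⟩, hiu⟩, hm⟩ := hok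
      cases hY : applyM (genRefs e.2.2.1) (rl e.2.1) with
      | none => rw [hY] at hm; simp at hm
      | some Y =>
        rw [hY] at hm
        simp only [Bool.and_eq_true, decide_eq_true_eq] at hm
        obtain ⟨⟨mx, my⟩, mz⟩ := hm
        have hgj := rl_good (lt_trans hj hi)
        have hgi := rl_good hi
        have hjK := ih e.2.1 hj (lt_trans hj hi)
        have hcK := hK e.2.2.1 hc
        have hnice := (nice_of_mem (gen_mem e.2.2.1)).1
        -- the image of the vector `j`
        have himg : ((gen e.2.2.1 ⟨toV (rl e.2.1), hgj.1⟩ : ↥icoLeech) : Fin 3 → ℍ[ℝ]) =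
            smulV (toH e.2.2.2) (toV (rl e.1)) := by
          have := prodRefl_apply (genRefs_good e.2.2.1) hY ⟨toV (rl e.2.1), hgj.1⟩ rfl
          unfold gen
          rw [this]
          funext t
          fin_cases t
          · exact (toH_mul_of_raw mx).symm
          · exact (toH_mul_of_raw my).symm
          · exact (toH_mul_of_raw mz).symm
        have hconj := hnice.conj_reflP ⟨toV (rl e.2.1), hgj.1⟩ hgj.2
        have : reflOf (rl e.1) = gen e.2.2.1 * reflOf (rl e.2.1) * (gen e.2.2.1)⁻¹ := by
          rw [reflOf_eq hgj, hconj, reflOf_eq hgi]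
          refine eq_reflP _ _ fun x => ?_
          rw [reflP_apply]
          show qrefl (toV (rl e.1)) x = qrefl ((gen e.2.2.1 ⟨toV (rl e.2.1), hgj.1⟩ : ↥icoLeech) : Fin 3 → ℍ[ℝ]) x
          rw [himg, qrefl_smulV_unit (unit_star_mul hwu hiu)]
        rw [this]
        exact K.mul_mem (K.mul_mem hcK hjK) (K.inv_mem hcK)

end Cfsg.Agent.Lib.Helper4.J2
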