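import Cfsg.Agent.Lib.Helper4.J2.H7

set_option autoImplicit false

/-! # The negation, and the quotient of the reflection group by it -/

namespace Cfsg.Agent.Lib.Helper4.J2

open Quaternion Cfsg.Spor MQ MV

theorem negP_eq : prodRefl [E0, E1, E2] = negP :=
  prodRefl_eq_neg (by decide +kernel) (by decide +kernel)

theorem negP_mem : negP ∈ twoJ2 := by
  rw [← negP_eq]
  exact prodRefl_mem _

theorem negP_mul_self : negP * negP = 1 := by
  refine Equiv.ext fun x => Subtype.ext ?_
  rw [Equiv.Perm.mul_apply, negP_apply, negP_apply, neg_neg]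
  rfl

theorem negP_comm {g : Equiv.Perm ↥icoLeech} (hg : g ∈ twoJ2) : g * negP = negP * g := by
  obtain ⟨F, hF, e⟩ := (nice_of_mem hg).1
  refine Equiv.ext fun x => Subtype.ext ?_
  rw [Equiv.Perm.mul_apply, Equiv.Perm.mul_apply, e, negP_apply, negP_apply, hF.neg, e]

theorem toV_E0_ne : toV E0 ≠ -toV E0 := by
  rw [← toV_negM]
  intro h
  have := toV_injective h
  revert this
  decide +kernel

theorem negP_ne_one : negP ≠ 1 := by
  intro h
  have := congrArg (fun g : Equiv.Perm ↥icoLeech => ((g ⟨toV E0, E0_mem⟩ : ↥icoLeech) : Fin 3 → ℍ[ℝ])) h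
  simp only [negP_apply, Equiv.Perm.one_apply] at this
  exact toV_E0_ne this.symm

/-- the negation, in the reflection group -/
noncomputable def negT : ↥twoJ2 := ⟨negP, negP_mem⟩

theorem negT_mul_self : negT * negT = 1 := Subtype.ext negP_mul_self

theorem negT_ne_one : negT ≠ 1 := fun h => negP_ne_one (congrArg Subtype.val h)

theorem negT_comm (g : ↥twoJ2) : g * negT = negT * g := Subtype.ext (negP_comm g.2)

theorem negT_inv : negT⁻¹ = negT := inv_eq_of_mul_eq_one_left negT_mul_self

/-- the subgroup `{1, -1}` -/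
noncomputable def Z0 : Subgroup ↥twoJ2 where
  carrier := {x | x = 1 ∨ x = negT}
  mul_mem' := by
    rintro a b (rfl | rfl) (rfl | rfl)
    · left; rw [mul_one]
    · right; rw [one_mul]
    · right; rw [mul_one]
    · left; exact negT_mul_self
  one_mem' := Or.inl rfl
  inv_mem' := by
    rintro a (rfl | rfl)
    · left; rw [inv_one]
    · right; exact negT_inv

theorem mem_Z0 {x : ↥twoJ2} : x ∈ Z0 ↔ x = 1 ∨ x = negT := Iff.rfl

theorem Z0_le_center : Z0 ≤ Subgroup.center ↥twoJ2 := by
  rintro x (rfl | rfl)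
  · exact Subgroup.one_mem _
  · rw [Subgroup.mem_center_iff]
    exact negT_comm

instance Z0_normal : Z0.Normal := by
  constructor
  intro n hn g
  have := Z0_le_center hn
  rw [Subgroup.mem_center_iff] at this
  rw [this g, mul_inv_cancel_right]
  exact hn

theorem card_Z0 : Nat.card ↥Z0 = 2 := by
  rw [Nat.card_eq_two_iff]
  refine ⟨⟨1, Or.inl rfl⟩, ⟨negT, Or.inr rfl⟩, ?_, ?_⟩
  · intro h
    exact negT_ne_one (congrArg Subtype.val h).symm
  · ext ⟨x, hx⟩
    simp only [Set.mem_insert_iff, Set.mem_singleton_iff, Set.mem_univ, iff_true]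
    rcases hx with rfl | rfl
    · left; rfl
    · right; rfl

end Cfsg.Agent.Lib.Helper4.J2
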