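import Cfsg.Agent.Lib.Helper4.J2.H8
import Cfsg.Agent.Lib.Helper4.J2.G3
import Cfsg.Agent.S0423
import Cfsg.Agent.Lib.Helper6.WP10

set_option autoImplicit false

/-! # The isomorphism of the presented group with the reflection group modulo the negation -/

namespace Cfsg.Agent.Lib.Helper4.J2

open Quaternion Cfsg.Spor MQ MV
open Cfsg.Agent.Lib.Helper6.TC

/-- the quotient of the reflection group by the negation -/
abbrev QJ : Type := ↥twoJ2 ⧸ Z0

/-- the five generators, in the reflection group -/
noncomputable def genT (c : ℕ) : ↥twoJ2 := ⟨gen c, gen_mem c⟩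

theorem relators_eq : Cfsg.Agent.Lib.Helper6.TCP.J2.base = relators := by decide +kernel

theorem coe_prod_genT (b : List ℕ) : (((b.map genT).prod : ↥twoJ2) : Equiv.Perm ↥icoLeech) =
    (b.map gen).prod := by
  induction b with
  | nil => rfl
  | cons c b ih =>
    rw [List.map_cons, List.prod_cons, List.map_cons, List.prod_cons, Subgroup.coe_mul, ih]
    rfl

theorem prod_genT_mem (b : List ℕ) (hb : b ∈ relators) : (b.map genT).prod ∈ Z0 := by
  have h := relators_check b hb
  have hc := coe_prod_genT b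
  rw [prod_map_gen] at hc
  rw [Option.isSome_iff_exists] at h
  obtain ⟨v, hv⟩ := h
  cases v with
  | true =>
    left
    apply Subtype.ext
    rw [hc, prodRefl_eq_one (expandW_good b) hv]
    rfl
  | false =>
    right
    apply Subtype.ext
    rw [hc, prodRefl_eq_neg (expandW_good b) hv]
    rfl

theorem hrel : ∀ b ∈ Cfsg.Agent.Lib.Helper6.TCP.J2.base,
    (b.map (fun c => (QuotientGroup.mk (genT c) : QJ))).prod = 1 := by
  intro b hb
  rw [relators_eq] at hb
  have : (b.map (fun c => (QuotientGroup.mk (genT c) : QJ))) =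
      (b.map genT).map (QuotientGroup.mk' Z0) := by
    rw [List.map_map]
    rfl
  rw [this, ← map_list_prod]
  exact (QuotientGroup.eq_one_iff _).mpr (prod_genT_mem b hb)

/-- the homomorphism from the presented group -/
noncomputable def psi : Cfsg.Agent.Lib.Helper6.TCP.J2.G →* QJ :=
  wgHom (fun c => (QuotientGroup.mk (genT c) : QJ)) Cfsg.Agent.Lib.Helper6.TCP.J2.hbl hrel

theorem psi_of (i : Fin 5) :
    psi (PresentedGroup.mk _ (FreeGroup.of i)) = (QuotientGroup.mk (genT i.val) : QJ) :=
  wgHom_of _ _ _ i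

/-- every reflection is the reflection in a vector of the list -/
theorem exists_rl {f : Equiv.Perm ↥icoLeech} (hf : IsIcoReflection f) :
    ∃ i < 315, f = reflOf (rl i) := by
  obtain ⟨r, h4, e⟩ := hf
  obtain ⟨u, R, hu, hwu, hiu, hR, hr⟩ := complete r.2 h4
  obtain ⟨i, hi, rfl⟩ := List.mem_iff_getElem.mp hR
  have hi' : i < 315 := by
    have : Rlist.length = 315 := rl_mem.length_Rlist'
    omega
  refine ⟨i, hi', ?_⟩
  have hrl : rl i = Rlist[i]'hi := by
    unfold rl
    rw [List.getD_eq_getElem _ _ hi]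
  have hg := rl_good hi'
  rw [reflOf_eq hg]
  refine eq_reflP _ _ fun x => ?_
  rw [e, hr, qrefl_smulV_unit (unit_star_mul hwu hiu), hrl]

theorem psi_surjective : Function.Surjective psi := by
  rw [← MonoidHom.range_eq_top]
  -- the subgroup of the permutation group
  set K : Subgroup (Equiv.Perm ↥icoLeech) :=
    ((psi.range).comap (QuotientGroup.mk' Z0)).map twoJ2.subtype with hK
  have hgen : ∀ c < 5, gen c ∈ K := by
    intro c hc
    rw [hK, Subgroup.mem_map]
    refine ⟨genT c, ?_, rfl⟩
    rw [Subgroup.mem_comap]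
    exact ⟨_, psi_of ⟨c, hc⟩⟩
  have hall := reflOf_mem_of_gen K hgen
  have hle : twoJ2 ≤ K := by
    unfold twoJ2
    rw [Subgroup.closure_le]
    intro f hf
    obtain ⟨i, hi, rfl⟩ := exists_rl hf
    exact hall i hi
  rw [eq_top_iff]
  intro q _
  obtain ⟨g, rfl⟩ := QuotientGroup.mk_surjective q
  have := hle g.2
  rw [hK, Subgroup.mem_map] at this
  obtain ⟨g', hg', e⟩ := this
  have : g' = g := Subtype.ext e
  rw [← this]
  exact hg'

end Cfsg.Agent.Lib.Helper4.J2
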