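import Cfsg.Agent.Lib.Helper4.J2.E

set_option autoImplicit false

/-! # The 315 normalized representatives of the lines of minimal vectors -/

namespace Cfsg.Agent.Lib.Helper4.J2

namespace MV

/-- normalized representatives of the 315 lines of minimal vectors, in breadth first order -/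
def Rlist : List MV := [
  ⟨⟨0, 0, 0, 0, 0, 0, 0, 0⟩, ⟨0, 0, 0, 0, 0, 0, 0, 0⟩, ⟨8, 0, 0, 0, 0, 0, 0, 0⟩⟩,
  ⟨⟨1, 1, 1, 1, -1, -1, 1, 1⟩, ⟨4, 0, 0, 0, 0, 0, 0, 0⟩, ⟨-1, 1, 1, -1, 1, -1, -1, 1⟩⟩,
  ⟨⟨1, 1, 1, 1, -1, -1, 1, 1⟩, ⟨4, 0, 0, 0, 0, 0, 0, 0⟩, ⟨1, -1, -1, 1, -1, 1, 1, -1⟩⟩,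
  ⟨⟨-1, -1, -1, -1, 1, 1, -1, -1⟩, ⟨4, 0, 0, 0, 0, 0, 0, 0⟩, ⟨-1, 1, 1, -1, 1, -1, -1, 1⟩⟩,
  ⟨⟨4, 0, 0, 0, 0, 0, 0, 0⟩, ⟨-1, 1, 1, -1, -1, 1, 1, -1⟩, ⟨-1, -1, 1, 1, -1, -1, -1, -1⟩⟩,
  ⟨⟨-1, -1, -1, -1, 1, 1, -1, -1⟩, ⟨4, 0, 0, 0, 0, 0, 0, 0⟩, ⟨1, -1, -1, 1, -1, 1, 1, -1⟩⟩,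
  ⟨⟨4, 0, 0, 0, 0, 0, 0, 0⟩, ⟨1, 1, 1, 1, -1, -1, 1, 1⟩, ⟨1, -1, -1, 1, -1, 1, 1, -1⟩⟩,
  ⟨⟨4, 0, 0, 0, 0, 0, 0, 0⟩, ⟨-1, 1, 1, -1, -1, 1, 1, -1⟩, ⟨1, 1, -1, -1, 1, 1, 1, 1⟩⟩,
  ⟨⟨4, 0, 0, 0, 0, 0, 0, 0⟩, ⟨1, -1, -1, 1, 1, -1, -1, 1⟩, ⟨1, 1, -1, -1, 1, 1, 1, 1⟩⟩,
  ⟨⟨1, -1, 1, -1, -1, 1, -1, 1⟩, ⟨1, 1, 1, 1, 1, 1, -1, -1⟩, ⟨4, 0, 0, 0, 0, 0, 0, 0⟩⟩,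
  ⟨⟨4, 0, 0, 0, 0, 0, 0, 0⟩, ⟨1, 1, 1, 1, -1, -1, 1, 1⟩, ⟨-1, 1, 1, -1, 1, -1, -1, 1⟩⟩,
  ⟨⟨4, 0, 0, 0, 0, 0, 0, 0⟩, ⟨-1, -1, -1, -1, 1, 1, -1, -1⟩, ⟨-1, 1, 1, -1, 1, -1, -1, 1⟩⟩,
  ⟨⟨4, 0, 0, 0, 0, 0, 0, 0⟩, ⟨-1, -1, -1, -1, -1, -1, 1, 1⟩, ⟨-1, 1, -1, 1, 1, -1, 1, -1⟩⟩,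
  ⟨⟨4, 0, 0, 0, 0, 0, 0, 0⟩, ⟨1, -1, -1, 1, 1, -1, -1, 1⟩, ⟨-1, -1, 1, 1, -1, -1, -1, -1⟩⟩,
  ⟨⟨-1, 1, -1, 1, 1, -1, 1, -1⟩, ⟨1, 1, 1, 1, 1, 1, -1, -1⟩, ⟨4, 0, 0, 0, 0, 0, 0, 0⟩⟩,
  ⟨⟨-1, 1, 1, -1, -1, 1, 1, -1⟩, ⟨4, 0, 0, 0, 0, 0, 0, 0⟩, ⟨1, 1, -1, -1, 1, 1, 1, 1⟩⟩,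
  ⟨⟨-1, 1, -1, 1, 1, -1, 1, -1⟩, ⟨-1, -1, -1, -1, -1, -1, 1, 1⟩, ⟨4, 0, 0, 0, 0, 0, 0, 0⟩⟩,
  ⟨⟨4, 0, 0, 0, 0, 0, 0, 0⟩, ⟨0, -2, 2, 0, -2, 0, 2, 0⟩, ⟨0, 0, 0, 0, 4, 0, 0, 0⟩⟩,
  ⟨⟨4, 0, 0, 0, 0, 0, 0, 0⟩, ⟨-1, -1, -1, -1, 1, 1, -1, -1⟩, ⟨1, -1, -1, 1, -1, 1, 1, -1⟩⟩,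
  ⟨⟨4, 0, 0, 0, 0, 0, 0, 0⟩, ⟨-1, -1, -1, -1, -1, -1, 1, 1⟩, ⟨1, -1, 1, -1, -1, 1, -1, 1⟩⟩,
  ⟨⟨0, 0, 0, 0, 0, 0, 0, 0⟩, ⟨0, -2, 2, 0, 2, 0, 2, 0⟩, ⟨-2, 0, -2, 0, 0, -2, 2, 0⟩⟩,
  ⟨⟨4, 0, 0, 0, 0, 0, 0, 0⟩, ⟨1, 1, 1, 1, 1, 1, -1, -1⟩, ⟨1, -1, 1, -1, -1, 1, -1, 1⟩⟩,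
  ⟨⟨8, 0, 0, 0, 0, 0, 0, 0⟩, ⟨0, 0, 0, 0, 0, 0, 0, 0⟩, ⟨0, 0, 0, 0, 0, 0, 0, 0⟩⟩,
  ⟨⟨-1, 1, 1, -1, -1, 1, 1, -1⟩, ⟨4, 0, 0, 0, 0, 0, 0, 0⟩, ⟨-1, -1, 1, 1, -1, -1, -1, -1⟩⟩,
  ⟨⟨1, -1, 1, -1, -1, 1, -1, 1⟩, ⟨-1, -1, -1, -1, -1, -1, 1, 1⟩, ⟨4, 0, 0, 0, 0, 0, 0, 0⟩⟩,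
  ⟨⟨0, -2, 2, 0, -2, 0, 2, 0⟩, ⟨4, 0, 0, 0, 0, 0, 0, 0⟩, ⟨0, 0, 0, 0, -4, 0, 0, 0⟩⟩,
  ⟨⟨1, -1, -1, 1, 1, -1, -1, 1⟩, ⟨4, 0, 0, 0, 0, 0, 0, 0⟩, ⟨1, 1, -1, -1, 1, 1, 1, 1⟩⟩,
  ⟨⟨1, -1, -1, 1, -1, 1, 1, -1⟩, ⟨4, 0, 0, 0, 0, 0, 0, 0⟩, ⟨1, 1, 1, 1, -1, -1, 1, 1⟩⟩,
  ⟨⟨0, 0, 0, 0, 0, 0, 0, 0⟩, ⟨8, 0, 0, 0, 0, 0, 0, 0⟩, ⟨0, 0, 0, 0, 0, 0, 0, 0⟩⟩,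
  ⟨⟨4, 0, 0, 0, 0, 0, 0, 0⟩, ⟨0, -2, 2, 0, -2, 0, 2, 0⟩, ⟨0, 0, 0, 0, -4, 0, 0, 0⟩⟩,
  ⟨⟨4, 0, 0, 0, 0, 0, 0, 0⟩, ⟨0, 2, -2, 0, 2, 0, -2, 0⟩, ⟨0, 0, 0, 0, -4, 0, 0, 0⟩⟩,
  ⟨⟨4, 0, 0, 0, 0, 0, 0, 0⟩, ⟨-2, 0, 0, 2, -2, 0, 2, 0⟩, ⟨4, 0, 0, 0, 0, 0, 0, 0⟩⟩,
  ⟨⟨4, 0, 0, 0, 0, 0, 0, 0⟩, ⟨-4, 0, 0, 0, 0, 0, 0, 0⟩, ⟨2, 0, -2, 0, 0, -2, 2, 0⟩⟩,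
  ⟨⟨4, 0, 0, 0, 0, 0, 0, 0⟩, ⟨1, 1, 1, 1, 1, 1, -1, -1⟩, ⟨-1, 1, -1, 1, 1, -1, 1, -1⟩⟩,
  ⟨⟨0, 0, 0, 0, 0, 0, 0, 0⟩, ⟨0, -2, 2, 0, 2, 0, 2, 0⟩, ⟨2, 0, 2, 0, 0, 2, -2, 0⟩⟩,
  ⟨⟨0, 0, 0, 0, 0, 0, 0, 0⟩, ⟨0, -2, 2, 0, 2, 0, 2, 0⟩, ⟨-2, 0, 0, -2, 2, 0, -2, 0⟩⟩,
  ⟨⟨-1, -1, -1, -1, -1, -1, 1, 1⟩, ⟨4, 0, 0, 0, 0, 0, 0, 0⟩, ⟨1, -1, 1, -1, -1, 1, -1, 1⟩⟩,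
  ⟨⟨0, -2, 2, 0, 2, 0, 2, 0⟩, ⟨0, -2, 2, 0, 2, 0, 2, 0⟩, ⟨0, 0, 0, 0, 0, 0, 0, 0⟩⟩,
  ⟨⟨1, -1, -1, 1, 1, -1, -1, 1⟩, ⟨4, 0, 0, 0, 0, 0, 0, 0⟩, ⟨-1, -1, 1, 1, -1, -1, -1, -1⟩⟩,
  ⟨⟨1, -1, -1, 1, -1, 1, 1, -1⟩, ⟨4, 0, 0, 0, 0, 0, 0, 0⟩, ⟨-1, -1, -1, -1, 1, 1, -1, -1⟩⟩,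
  ⟨⟨0, -2, 2, 0, -2, 0, 2, 0⟩, ⟨4, 0, 0, 0, 0, 0, 0, 0⟩, ⟨0, 0, 0, 0, 4, 0, 0, 0⟩⟩,
  ⟨⟨0, 2, -2, 0, 2, 0, -2, 0⟩, ⟨4, 0, 0, 0, 0, 0, 0, 0⟩, ⟨0, 0, 0, 0, -4, 0, 0, 0⟩⟩,
  ⟨⟨2, 0, 0, -2, -2, 0, 2, 0⟩, ⟨4, 0, 0, 0, 0, 0, 0, 0⟩, ⟨0, 0, -4, 0, 0, 0, 0, 0⟩⟩,
  ⟨⟨1, 1, 1, 1, 1, 1, -1, -1⟩, ⟨1, -1, 1, -1, -1, 1, -1, 1⟩, ⟨4, 0, 0, 0, 0, 0, 0, 0⟩⟩,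
  ⟨⟨-1, 1, 1, -1, 1, -1, -1, 1⟩, ⟨4, 0, 0, 0, 0, 0, 0, 0⟩, ⟨1, 1, 1, 1, -1, -1, 1, 1⟩⟩,
  ⟨⟨0, -2, 2, 0, 2, 0, 2, 0⟩, ⟨0, 2, -2, 0, -2, 0, -2, 0⟩, ⟨0, 0, 0, 0, 0, 0, 0, 0⟩⟩,
  ⟨⟨4, 0, 0, 0, 0, 0, 0, 0⟩, ⟨0, 2, -2, 0, 2, 0, -2, 0⟩, ⟨0, 0, 0, 0, 4, 0, 0, 0⟩⟩,
  ⟨⟨4, 0, 0, 0, 0, 0, 0, 0⟩, ⟨-2, 0, 0, 2, -2, 0, 2, 0⟩, ⟨-4, 0, 0, 0, 0, 0, 0, 0⟩⟩,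
  ⟨⟨4, 0, 0, 0, 0, 0, 0, 0⟩, ⟨4, 0, 0, 0, 0, 0, 0, 0⟩, ⟨-2, 0, 2, 0, 0, 2, -2, 0⟩⟩,
  ⟨⟨-1, -1, -1, -1, -1, -1, 1, 1⟩, ⟨-1, 1, -1, 1, 1, -1, 1, -1⟩, ⟨4, 0, 0, 0, 0, 0, 0, 0⟩⟩,
  ⟨⟨4, 0, 0, 0, 0, 0, 0, 0⟩, ⟨2, 0, 0, -2, 2, 0, -2, 0⟩, ⟨-4, 0, 0, 0, 0, 0, 0, 0⟩⟩,
  ⟨⟨4, 0, 0, 0, 0, 0, 0, 0⟩, ⟨-4, 0, 0, 0, 0, 0, 0, 0⟩, ⟨-2, 0, 2, 0, 0, 2, -2, 0⟩⟩,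
  ⟨⟨4, 0, 0, 0, 0, 0, 0, 0⟩, ⟨0, 0, 4, 0, 0, 0, 0, 0⟩, ⟨0, -2, -2, 0, 2, 0, 2, 0⟩⟩,
  ⟨⟨-1, -1, -1, -1, -1, -1, 1, 1⟩, ⟨4, 0, 0, 0, 0, 0, 0, 0⟩, ⟨-1, 1, -1, 1, 1, -1, 1, -1⟩⟩,
  ⟨⟨0, 2, -2, 0, 2, 0, -2, 0⟩, ⟨4, 0, 0, 0, 0, 0, 0, 0⟩, ⟨0, 0, 0, 0, 4, 0, 0, 0⟩⟩,
  ⟨⟨0, 0, 0, 0, 0, 0, 0, 0⟩, ⟨0, -2, 2, 0, 2, 0, 2, 0⟩, ⟨2, 0, 0, 2, -2, 0, 2, 0⟩⟩,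
  ⟨⟨4, 0, 0, 0, 0, 0, 0, 0⟩, ⟨-4, 0, 0, 0, 0, 0, 0, 0⟩, ⟨0, -2, -2, 0, -2, 0, -2, 0⟩⟩,
  ⟨⟨1, 1, 1, 1, 1, 1, -1, -1⟩, ⟨4, 0, 0, 0, 0, 0, 0, 0⟩, ⟨1, -1, 1, -1, -1, 1, -1, 1⟩⟩,
  ⟨⟨0, -2, 2, 0, 2, 0, 2, 0⟩, ⟨2, 0, 0, 2, -2, 0, 2, 0⟩, ⟨0, 0, 0, 0, 0, 0, 0, 0⟩⟩,
  ⟨⟨-1, 1, 1, -1, 1, -1, -1, 1⟩, ⟨4, 0, 0, 0, 0, 0, 0, 0⟩, ⟨-1, -1, -1, -1, 1, 1, -1, -1⟩⟩,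
  ⟨⟨2, 0, 0, -2, -2, 0, 2, 0⟩, ⟨4, 0, 0, 0, 0, 0, 0, 0⟩, ⟨0, 0, 4, 0, 0, 0, 0, 0⟩⟩,
  ⟨⟨-1, -1, -1, -1, -1, -1, 1, 1⟩, ⟨1, -1, 1, -1, -1, 1, -1, 1⟩, ⟨4, 0, 0, 0, 0, 0, 0, 0⟩⟩,
  ⟨⟨-2, 0, 0, 2, 2, 0, -2, 0⟩, ⟨4, 0, 0, 0, 0, 0, 0, 0⟩, ⟨0, 0, -4, 0, 0, 0, 0, 0⟩⟩,
  ⟨⟨-1, -1, 1, 1, -1, -1, -1, -1⟩, ⟨1, -1, -1, 1, 1, -1, -1, 1⟩, ⟨4, 0, 0, 0, 0, 0, 0, 0⟩⟩,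
  ⟨⟨4, 0, 0, 0, 0, 0, 0, 0⟩, ⟨1, -1, -1, 1, -1, 1, 1, -1⟩, ⟨-1, -1, -1, -1, 1, 1, -1, -1⟩⟩,
  ⟨⟨0, -2, 2, 0, 2, 0, 2, 0⟩, ⟨-2, 0, 0, -2, 2, 0, -2, 0⟩, ⟨0, 0, 0, 0, 0, 0, 0, 0⟩⟩,
  ⟨⟨4, 0, 0, 0, 0, 0, 0, 0⟩, ⟨2, 0, 0, -2, 2, 0, -2, 0⟩, ⟨4, 0, 0, 0, 0, 0, 0, 0⟩⟩,
  ⟨⟨4, 0, 0, 0, 0, 0, 0, 0⟩, ⟨4, 0, 0, 0, 0, 0, 0, 0⟩, ⟨2, 0, -2, 0, 0, -2, 2, 0⟩⟩,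
  ⟨⟨0, -2, 2, 0, 2, 0, 2, 0⟩, ⟨0, 0, 0, 0, 0, 0, 0, 0⟩, ⟨2, 0, 2, 0, 0, 2, -2, 0⟩⟩,
  ⟨⟨4, 0, 0, 0, 0, 0, 0, 0⟩, ⟨0, 0, -4, 0, 0, 0, 0, 0⟩, ⟨0, 2, 2, 0, -2, 0, -2, 0⟩⟩,
  ⟨⟨1, 1, 1, 1, 1, 1, -1, -1⟩, ⟨-1, 1, -1, 1, 1, -1, 1, -1⟩, ⟨4, 0, 0, 0, 0, 0, 0, 0⟩⟩,
  ⟨⟨1, 1, -1, -1, 1, 1, 1, 1⟩, ⟨-1, 1, 1, -1, -1, 1, 1, -1⟩, ⟨4, 0, 0, 0, 0, 0, 0, 0⟩⟩,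
  ⟨⟨-2, 0, 0, 2, -2, 0, 2, 0⟩, ⟨4, 0, 0, 0, 0, 0, 0, 0⟩, ⟨-4, 0, 0, 0, 0, 0, 0, 0⟩⟩,
  ⟨⟨4, 0, 0, 0, 0, 0, 0, 0⟩, ⟨0, 0, 4, 0, 0, 0, 0, 0⟩, ⟨0, 2, 2, 0, -2, 0, -2, 0⟩⟩,
  ⟨⟨4, 0, 0, 0, 0, 0, 0, 0⟩, ⟨0, 0, 4, 0, 0, 0, 0, 0⟩, ⟨-2, 0, 2, 0, 0, -2, 2, 0⟩⟩,
  ⟨⟨1, 1, 1, 1, 1, 1, -1, -1⟩, ⟨4, 0, 0, 0, 0, 0, 0, 0⟩, ⟨-1, 1, -1, 1, 1, -1, 1, -1⟩⟩,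
  ⟨⟨-2, 0, 0, 2, 2, 0, -2, 0⟩, ⟨4, 0, 0, 0, 0, 0, 0, 0⟩, ⟨0, 0, 4, 0, 0, 0, 0, 0⟩⟩,
  ⟨⟨4, 0, 0, 0, 0, 0, 0, 0⟩, ⟨-4, 0, 0, 0, 0, 0, 0, 0⟩, ⟨0, 2, 2, 0, 2, 0, 2, 0⟩⟩,
  ⟨⟨4, 0, 0, 0, 0, 0, 0, 0⟩, ⟨4, 0, 0, 0, 0, 0, 0, 0⟩, ⟨0, 2, 2, 0, 2, 0, 2, 0⟩⟩,
  ⟨⟨4, 0, 0, 0, 0, 0, 0, 0⟩, ⟨0, 0, 0, 0, 0, 0, 4, 0⟩, ⟨2, 0, 0, 2, -2, 0, -2, 0⟩⟩,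
  ⟨⟨4, 0, 0, 0, 0, 0, 0, 0⟩, ⟨1, -1, -1, 1, -1, 1, 1, -1⟩, ⟨1, 1, 1, 1, -1, -1, 1, 1⟩⟩,
  ⟨⟨1, 1, -1, -1, 1, 1, 1, 1⟩, ⟨1, -1, -1, 1, 1, -1, -1, 1⟩, ⟨4, 0, 0, 0, 0, 0, 0, 0⟩⟩,
  ⟨⟨4, 0, 0, 0, 0, 0, 0, 0⟩, ⟨2, 0, 0, -2, -2, 0, 2, 0⟩, ⟨0, 0, 4, 0, 0, 0, 0, 0⟩⟩,
  ⟨⟨0, 2, -2, 0, -2, 0, 2, 0⟩, ⟨4, 0, 0, 0, 0, 0, 0, 0⟩, ⟨0, 0, 0, 0, 0, 0, 4, 0⟩⟩,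
  ⟨⟨4, 0, 0, 0, 0, 0, 0, 0⟩, ⟨-1, 1, 1, -1, 1, -1, -1, 1⟩, ⟨1, 1, 1, 1, -1, -1, 1, 1⟩⟩,
  ⟨⟨-2, 0, 0, 2, -2, 0, 2, 0⟩, ⟨4, 0, 0, 0, 0, 0, 0, 0⟩, ⟨4, 0, 0, 0, 0, 0, 0, 0⟩⟩,
  ⟨⟨0, -2, 2, 0, 2, 0, 2, 0⟩, ⟨0, 0, 0, 0, 0, 0, 0, 0⟩, ⟨-2, 0, -2, 0, 0, -2, 2, 0⟩⟩,
  ⟨⟨4, 0, 0, 0, 0, 0, 0, 0⟩, ⟨0, 0, -4, 0, 0, 0, 0, 0⟩, ⟨0, -2, -2, 0, 2, 0, 2, 0⟩⟩,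
  ⟨⟨0, -2, 2, 0, 2, 0, 2, 0⟩, ⟨0, 0, 0, 0, 0, 0, 0, 0⟩, ⟨0, 2, -2, 0, -2, 0, -2, 0⟩⟩,
  ⟨⟨4, 0, 0, 0, 0, 0, 0, 0⟩, ⟨0, 0, -4, 0, 0, 0, 0, 0⟩, ⟨-2, 0, -2, 0, -2, 0, 0, -2⟩⟩,
  ⟨⟨-1, -1, 1, 1, -1, -1, -1, -1⟩, ⟨-1, 1, 1, -1, -1, 1, 1, -1⟩, ⟨4, 0, 0, 0, 0, 0, 0, 0⟩⟩,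
  ⟨⟨0, 2, -2, 0, -2, 0, 2, 0⟩, ⟨4, 0, 0, 0, 0, 0, 0, 0⟩, ⟨0, 0, 0, 0, 0, 0, -4, 0⟩⟩,
  ⟨⟨2, 0, 0, -2, 2, 0, -2, 0⟩, ⟨4, 0, 0, 0, 0, 0, 0, 0⟩, ⟨-4, 0, 0, 0, 0, 0, 0, 0⟩⟩,
  ⟨⟨4, 0, 0, 0, 0, 0, 0, 0⟩, ⟨0, 0, 4, 0, 0, 0, 0, 0⟩, ⟨2, 0, -2, 0, 0, 2, -2, 0⟩⟩,
  ⟨⟨4, 0, 0, 0, 0, 0, 0, 0⟩, ⟨0, 0, -4, 0, 0, 0, 0, 0⟩, ⟨2, 0, -2, 0, 0, 2, -2, 0⟩⟩,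
  ⟨⟨4, 0, 0, 0, 0, 0, 0, 0⟩, ⟨0, 0, 0, 0, -4, 0, 0, 0⟩, ⟨-2, 0, 2, 0, 2, 0, 0, -2⟩⟩,
  ⟨⟨4, 0, 0, 0, 0, 0, 0, 0⟩, ⟨2, 0, 0, -2, -2, 0, 2, 0⟩, ⟨0, 0, -4, 0, 0, 0, 0, 0⟩⟩,
  ⟨⟨4, 0, 0, 0, 0, 0, 0, 0⟩, ⟨4, 0, 0, 0, 0, 0, 0, 0⟩, ⟨0, -2, -2, 0, -2, 0, -2, 0⟩⟩,
  ⟨⟨4, 0, 0, 0, 0, 0, 0, 0⟩, ⟨0, 0, 0, 0, 0, 0, -4, 0⟩, ⟨-2, 0, 0, -2, 2, 0, 2, 0⟩⟩,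
  ⟨⟨0, -2, 2, 0, 2, 0, 2, 0⟩, ⟨0, 0, 0, 0, 0, 0, 0, 0⟩, ⟨2, 0, 0, 2, -2, 0, 2, 0⟩⟩,
  ⟨⟨4, 0, 0, 0, 0, 0, 0, 0⟩, ⟨0, 0, 0, 0, 0, 0, 4, 0⟩, ⟨-2, 0, 0, -2, 2, 0, 2, 0⟩⟩,
  ⟨⟨4, 0, 0, 0, 0, 0, 0, 0⟩, ⟨-1, 1, 1, -1, 1, -1, -1, 1⟩, ⟨-1, -1, -1, -1, 1, 1, -1, -1⟩⟩,
  ⟨⟨4, 0, 0, 0, 0, 0, 0, 0⟩, ⟨0, 2, -2, 0, -2, 0, 2, 0⟩, ⟨0, 0, 0, 0, 0, 0, -4, 0⟩⟩,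
  ⟨⟨4, 0, 0, 0, 0, 0, 0, 0⟩, ⟨-2, 0, 0, 2, 2, 0, -2, 0⟩, ⟨0, 0, -4, 0, 0, 0, 0, 0⟩⟩,
  ⟨⟨0, -2, 2, 0, 2, 0, -2, 0⟩, ⟨4, 0, 0, 0, 0, 0, 0, 0⟩, ⟨0, 0, 0, 0, 0, 0, 4, 0⟩⟩,
  ⟨⟨2, 0, 2, 0, 2, 0, 0, 2⟩, ⟨4, 0, 0, 0, 0, 0, 0, 0⟩, ⟨0, 0, -4, 0, 0, 0, 0, 0⟩⟩,
  ⟨⟨2, 0, 0, -2, 2, 0, -2, 0⟩, ⟨4, 0, 0, 0, 0, 0, 0, 0⟩, ⟨4, 0, 0, 0, 0, 0, 0, 0⟩⟩,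
  ⟨⟨0, -2, 2, 0, 2, 0, 2, 0⟩, ⟨0, 0, 0, 0, 0, 0, 0, 0⟩, ⟨0, -2, 2, 0, 2, 0, 2, 0⟩⟩,
  ⟨⟨4, 0, 0, 0, 0, 0, 0, 0⟩, ⟨0, 0, -4, 0, 0, 0, 0, 0⟩, ⟨2, 0, 2, 0, 2, 0, 0, 2⟩⟩,
  ⟨⟨4, 0, 0, 0, 0, 0, 0, 0⟩, ⟨4, 0, 0, 0, 0, 0, 0, 0⟩, ⟨-2, 0, 0, 2, -2, 0, 2, 0⟩⟩,
  ⟨⟨4, 0, 0, 0, 0, 0, 0, 0⟩, ⟨0, 0, 4, 0, 0, 0, 0, 0⟩, ⟨2, 0, 2, 0, 2, 0, 0, 2⟩⟩,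
  ⟨⟨4, 0, 0, 0, 0, 0, 0, 0⟩, ⟨0, 2, -2, 0, -2, 0, 2, 0⟩, ⟨0, 0, 0, 0, 0, 0, 4, 0⟩⟩,
  ⟨⟨0, -2, 2, 0, 2, 0, -2, 0⟩, ⟨4, 0, 0, 0, 0, 0, 0, 0⟩, ⟨0, 0, 0, 0, 0, 0, -4, 0⟩⟩,
  ⟨⟨4, 0, 0, 0, 0, 0, 0, 0⟩, ⟨2, 0, 2, 0, 2, 0, 0, 2⟩, ⟨0, 0, 4, 0, 0, 0, 0, 0⟩⟩,
  ⟨⟨4, 0, 0, 0, 0, 0, 0, 0⟩, ⟨0, 0, -4, 0, 0, 0, 0, 0⟩, ⟨-2, 0, 2, 0, 0, -2, 2, 0⟩⟩,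
  ⟨⟨4, 0, 0, 0, 0, 0, 0, 0⟩, ⟨0, 0, 0, 0, 4, 0, 0, 0⟩, ⟨2, 0, -2, 0, -2, 0, 0, 2⟩⟩,
  ⟨⟨4, 0, 0, 0, 0, 0, 0, 0⟩, ⟨0, 0, -4, 0, 0, 0, 0, 0⟩, ⟨2, 0, 0, -2, -2, 0, 2, 0⟩⟩,
  ⟨⟨4, 0, 0, 0, 0, 0, 0, 0⟩, ⟨0, 0, 0, 0, -4, 0, 0, 0⟩, ⟨2, 0, -2, 0, -2, 0, 0, 2⟩⟩,
  ⟨⟨4, 0, 0, 0, 0, 0, 0, 0⟩, ⟨-2, 0, 0, 2, 2, 0, -2, 0⟩, ⟨0, 0, 4, 0, 0, 0, 0, 0⟩⟩,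
  ⟨⟨0, 2, 2, 0, -2, 0, -2, 0⟩, ⟨4, 0, 0, 0, 0, 0, 0, 0⟩, ⟨0, 0, 4, 0, 0, 0, 0, 0⟩⟩,
  ⟨⟨0, -2, 2, 0, 2, 0, 2, 0⟩, ⟨0, 0, 0, 0, 0, 0, 0, 0⟩, ⟨-2, 0, 0, -2, 2, 0, -2, 0⟩⟩,
  ⟨⟨4, 0, 0, 0, 0, 0, 0, 0⟩, ⟨0, 0, 0, 0, 0, 0, -4, 0⟩, ⟨2, 0, 0, 2, -2, 0, -2, 0⟩⟩,
  ⟨⟨4, 0, 0, 0, 0, 0, 0, 0⟩, ⟨0, 0, 0, 0, 4, 0, 0, 0⟩, ⟨2, 0, 0, 2, 2, 0, 2, 0⟩⟩,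
  ⟨⟨0, -2, 2, 0, 2, 0, 2, 0⟩, ⟨0, 0, 0, 0, 0, 0, 0, 0⟩, ⟨-2, 0, 2, 0, -2, 0, 0, -2⟩⟩,
  ⟨⟨4, 0, 0, 0, 0, 0, 0, 0⟩, ⟨-2, 0, 2, 0, 0, 2, -2, 0⟩, ⟨4, 0, 0, 0, 0, 0, 0, 0⟩⟩,
  ⟨⟨2, 0, 2, 0, 0, -2, -2, 0⟩, ⟨4, 0, 0, 0, 0, 0, 0, 0⟩, ⟨0, 0, 0, 0, -4, 0, 0, 0⟩⟩,
  ⟨⟨4, 0, 0, 0, 0, 0, 0, 0⟩, ⟨0, -2, 2, 0, 2, 0, -2, 0⟩, ⟨0, 0, 0, 0, 0, 0, 4, 0⟩⟩,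
  ⟨⟨1, -1, 1, -1, 1, -1, 1, -1⟩, ⟨1, 1, -1, -1, -1, -1, -1, -1⟩, ⟨4, 0, 0, 0, 0, 0, 0, 0⟩⟩,
  ⟨⟨-2, 0, -2, 0, -2, 0, 0, -2⟩, ⟨4, 0, 0, 0, 0, 0, 0, 0⟩, ⟨0, 0, -4, 0, 0, 0, 0, 0⟩⟩,
  ⟨⟨-1, 1, 1, -1, -1, 1, 1, -1⟩, ⟨1, 1, -1, -1, 1, 1, 1, 1⟩, ⟨4, 0, 0, 0, 0, 0, 0, 0⟩⟩,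
  ⟨⟨2, 0, 2, 0, 2, 0, 0, 2⟩, ⟨4, 0, 0, 0, 0, 0, 0, 0⟩, ⟨0, 0, 4, 0, 0, 0, 0, 0⟩⟩,
  ⟨⟨-2, 0, -2, 0, 0, 2, 2, 0⟩, ⟨4, 0, 0, 0, 0, 0, 0, 0⟩, ⟨0, 0, 0, 0, -4, 0, 0, 0⟩⟩,
  ⟨⟨4, 0, 0, 0, 0, 0, 0, 0⟩, ⟨4, 0, 0, 0, 0, 0, 0, 0⟩, ⟨2, 0, 0, -2, 2, 0, -2, 0⟩⟩,
  ⟨⟨4, 0, 0, 0, 0, 0, 0, 0⟩, ⟨0, 0, 4, 0, 0, 0, 0, 0⟩, ⟨-2, 0, -2, 0, -2, 0, 0, -2⟩⟩,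
  ⟨⟨4, 0, 0, 0, 0, 0, 0, 0⟩, ⟨-4, 0, 0, 0, 0, 0, 0, 0⟩, ⟨2, 0, 0, -2, 2, 0, -2, 0⟩⟩,
  ⟨⟨4, 0, 0, 0, 0, 0, 0, 0⟩, ⟨-2, 0, -2, 0, -2, 0, 0, -2⟩, ⟨0, 0, -4, 0, 0, 0, 0, 0⟩⟩,
  ⟨⟨4, 0, 0, 0, 0, 0, 0, 0⟩, ⟨0, 0, 4, 0, 0, 0, 0, 0⟩, ⟨2, 0, 0, -2, -2, 0, 2, 0⟩⟩,
  ⟨⟨4, 0, 0, 0, 0, 0, 0, 0⟩, ⟨0, -2, 2, 0, 2, 0, -2, 0⟩, ⟨0, 0, 0, 0, 0, 0, -4, 0⟩⟩,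
  ⟨⟨4, 0, 0, 0, 0, 0, 0, 0⟩, ⟨-2, 0, -2, 0, 0, -2, -2, 0⟩, ⟨0, 0, 0, 0, 0, 0, -4, 0⟩⟩,
  ⟨⟨1, -1, -1, 1, 1, -1, -1, 1⟩, ⟨-1, -1, 1, 1, -1, -1, -1, -1⟩, ⟨4, 0, 0, 0, 0, 0, 0, 0⟩⟩,
  ⟨⟨4, 0, 0, 0, 0, 0, 0, 0⟩, ⟨2, 0, 2, 0, 2, 0, 0, 2⟩, ⟨0, 0, -4, 0, 0, 0, 0, 0⟩⟩,
  ⟨⟨2, 0, 0, 2, 2, 0, 2, 0⟩, ⟨4, 0, 0, 0, 0, 0, 0, 0⟩, ⟨0, 0, 0, 0, 4, 0, 0, 0⟩⟩,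
  ⟨⟨4, 0, 0, 0, 0, 0, 0, 0⟩, ⟨0, 0, -4, 0, 0, 0, 0, 0⟩, ⟨-2, 0, 0, 2, 2, 0, -2, 0⟩⟩,
  ⟨⟨4, 0, 0, 0, 0, 0, 0, 0⟩, ⟨0, 0, 0, 0, 4, 0, 0, 0⟩, ⟨-2, 0, 2, 0, 2, 0, 0, -2⟩⟩,
  ⟨⟨4, 0, 0, 0, 0, 0, 0, 0⟩, ⟨0, 0, 0, 0, 0, 0, -4, 0⟩, ⟨2, 0, 2, 0, 0, 2, 2, 0⟩⟩,
  ⟨⟨4, 0, 0, 0, 0, 0, 0, 0⟩, ⟨0, 0, 4, 0, 0, 0, 0, 0⟩, ⟨-2, 0, 0, 2, 2, 0, -2, 0⟩⟩,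
  ⟨⟨4, 0, 0, 0, 0, 0, 0, 0⟩, ⟨4, 0, 0, 0, 0, 0, 0, 0⟩, ⟨-2, 0, -2, 0, 2, 0, 0, 2⟩⟩,
  ⟨⟨4, 0, 0, 0, 0, 0, 0, 0⟩, ⟨-2, 0, 2, 0, 2, 0, 0, -2⟩, ⟨0, 0, 0, 0, 4, 0, 0, 0⟩⟩,
  ⟨⟨0, -2, -2, 0, 2, 0, 2, 0⟩, ⟨4, 0, 0, 0, 0, 0, 0, 0⟩, ⟨0, 0, 4, 0, 0, 0, 0, 0⟩⟩,
  ⟨⟨0, 2, 2, 0, -2, 0, -2, 0⟩, ⟨4, 0, 0, 0, 0, 0, 0, 0⟩, ⟨0, 0, -4, 0, 0, 0, 0, 0⟩⟩,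
  ⟨⟨-1, -1, 1, 1, 1, 1, 1, 1⟩, ⟨-1, 1, -1, 1, -1, 1, -1, 1⟩, ⟨4, 0, 0, 0, 0, 0, 0, 0⟩⟩,
  ⟨⟨0, -2, 2, 0, 2, 0, 2, 0⟩, ⟨0, 0, 0, 0, 0, 0, 0, 0⟩, ⟨2, 0, -2, 0, 2, 0, 0, 2⟩⟩,
  ⟨⟨-2, 0, 2, 0, -2, 0, 0, 2⟩, ⟨4, 0, 0, 0, 0, 0, 0, 0⟩, ⟨0, 0, 0, 0, 0, 0, -4, 0⟩⟩,
  ⟨⟨4, 0, 0, 0, 0, 0, 0, 0⟩, ⟨0, 0, 0, 0, 4, 0, 0, 0⟩, ⟨-2, 0, 0, -2, -2, 0, -2, 0⟩⟩,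
  ⟨⟨4, 0, 0, 0, 0, 0, 0, 0⟩, ⟨0, 0, 0, 0, -4, 0, 0, 0⟩, ⟨-2, 0, 0, -2, -2, 0, -2, 0⟩⟩,
  ⟨⟨4, 0, 0, 0, 0, 0, 0, 0⟩, ⟨0, 0, 0, 0, 0, 0, -4, 0⟩, ⟨2, 0, -2, 0, 2, 0, 0, -2⟩⟩,
  ⟨⟨4, 0, 0, 0, 0, 0, 0, 0⟩, ⟨-2, 0, 2, 0, 0, 2, -2, 0⟩, ⟨-4, 0, 0, 0, 0, 0, 0, 0⟩⟩,
  ⟨⟨4, 0, 0, 0, 0, 0, 0, 0⟩, ⟨2, 0, -2, 0, 0, -2, 2, 0⟩, ⟨-4, 0, 0, 0, 0, 0, 0, 0⟩⟩,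
  ⟨⟨2, 0, 2, 0, 0, -2, -2, 0⟩, ⟨4, 0, 0, 0, 0, 0, 0, 0⟩, ⟨0, 0, 0, 0, 4, 0, 0, 0⟩⟩,
  ⟨⟨-1, 1, -1, 1, -1, 1, -1, 1⟩, ⟨1, 1, -1, -1, -1, -1, -1, -1⟩, ⟨4, 0, 0, 0, 0, 0, 0, 0⟩⟩,
  ⟨⟨-1, 1, 1, -1, -1, 1, 1, -1⟩, ⟨-1, -1, 1, 1, -1, -1, -1, -1⟩, ⟨4, 0, 0, 0, 0, 0, 0, 0⟩⟩,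
  ⟨⟨-1, 1, -1, 1, -1, 1, -1, 1⟩, ⟨-1, -1, 1, 1, 1, 1, 1, 1⟩, ⟨4, 0, 0, 0, 0, 0, 0, 0⟩⟩,
  ⟨⟨-2, 0, -2, 0, -2, 0, 0, -2⟩, ⟨4, 0, 0, 0, 0, 0, 0, 0⟩, ⟨0, 0, 4, 0, 0, 0, 0, 0⟩⟩,
  ⟨⟨4, 0, 0, 0, 0, 0, 0, 0⟩, ⟨2, 0, 2, 0, 0, -2, -2, 0⟩, ⟨0, 0, 0, 0, 4, 0, 0, 0⟩⟩,
  ⟨⟨1, -1, -1, 1, 1, -1, -1, 1⟩, ⟨1, 1, -1, -1, 1, 1, 1, 1⟩, ⟨4, 0, 0, 0, 0, 0, 0, 0⟩⟩,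
  ⟨⟨4, 0, 0, 0, 0, 0, 0, 0⟩, ⟨0, 0, 0, 0, 0, 0, -4, 0⟩, ⟨0, -2, 2, 0, 2, 0, -2, 0⟩⟩,
  ⟨⟨-2, 0, -2, 0, 0, 2, 2, 0⟩, ⟨4, 0, 0, 0, 0, 0, 0, 0⟩, ⟨0, 0, 0, 0, 4, 0, 0, 0⟩⟩,
  ⟨⟨4, 0, 0, 0, 0, 0, 0, 0⟩, ⟨-4, 0, 0, 0, 0, 0, 0, 0⟩, ⟨-2, 0, 0, 2, -2, 0, 2, 0⟩⟩,
  ⟨⟨1, 1, -1, -1, -1, -1, -1, -1⟩, ⟨4, 0, 0, 0, 0, 0, 0, 0⟩, ⟨-1, 1, -1, 1, -1, 1, -1, 1⟩⟩,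
  ⟨⟨4, 0, 0, 0, 0, 0, 0, 0⟩, ⟨2, 0, 2, 0, 0, 2, 2, 0⟩, ⟨0, 0, 0, 0, 0, 0, 4, 0⟩⟩,
  ⟨⟨0, 0, 0, 0, 0, 0, 0, 0⟩, ⟨0, -2, 2, 0, 2, 0, 2, 0⟩, ⟨0, -2, 2, 0, 2, 0, 2, 0⟩⟩,
  ⟨⟨4, 0, 0, 0, 0, 0, 0, 0⟩, ⟨-2, 0, -2, 0, -2, 0, 0, -2⟩, ⟨0, 0, 4, 0, 0, 0, 0, 0⟩⟩,
  ⟨⟨4, 0, 0, 0, 0, 0, 0, 0⟩, ⟨-2, 0, -2, 0, 0, 2, 2, 0⟩, ⟨0, 0, 0, 0, 4, 0, 0, 0⟩⟩,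
  ⟨⟨4, 0, 0, 0, 0, 0, 0, 0⟩, ⟨-4, 0, 0, 0, 0, 0, 0, 0⟩, ⟨-2, 0, -2, 0, 2, 0, 0, 2⟩⟩,
  ⟨⟨-2, 0, 0, -2, -2, 0, -2, 0⟩, ⟨4, 0, 0, 0, 0, 0, 0, 0⟩, ⟨0, 0, 0, 0, 4, 0, 0, 0⟩⟩,
  ⟨⟨4, 0, 0, 0, 0, 0, 0, 0⟩, ⟨-2, 0, -2, 0, 0, -2, -2, 0⟩, ⟨0, 0, 0, 0, 0, 0, 4, 0⟩⟩,
  ⟨⟨4, 0, 0, 0, 0, 0, 0, 0⟩, ⟨-2, 0, -2, 0, 2, 0, 0, 2⟩, ⟨4, 0, 0, 0, 0, 0, 0, 0⟩⟩,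
  ⟨⟨-1, 1, 1, -1, 1, -1, -1, 1⟩, ⟨-1, -1, -1, -1, 1, 1, -1, -1⟩, ⟨4, 0, 0, 0, 0, 0, 0, 0⟩⟩,
  ⟨⟨2, 0, 0, 2, 2, 0, 2, 0⟩, ⟨4, 0, 0, 0, 0, 0, 0, 0⟩, ⟨0, 0, 0, 0, -4, 0, 0, 0⟩⟩,
  ⟨⟨2, 0, 0, 2, -2, 0, -2, 0⟩, ⟨4, 0, 0, 0, 0, 0, 0, 0⟩, ⟨0, 0, 0, 0, 0, 0, -4, 0⟩⟩,
  ⟨⟨4, 0, 0, 0, 0, 0, 0, 0⟩, ⟨4, 0, 0, 0, 0, 0, 0, 0⟩, ⟨2, 0, 2, 0, -2, 0, 0, -2⟩⟩,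
  ⟨⟨2, 0, -2, 0, 0, -2, 2, 0⟩, ⟨4, 0, 0, 0, 0, 0, 0, 0⟩, ⟨-4, 0, 0, 0, 0, 0, 0, 0⟩⟩,
  ⟨⟨4, 0, 0, 0, 0, 0, 0, 0⟩, ⟨0, 0, 0, 0, 0, 0, -4, 0⟩, ⟨-2, 0, -2, 0, 0, -2, -2, 0⟩⟩,
  ⟨⟨4, 0, 0, 0, 0, 0, 0, 0⟩, ⟨0, 0, 0, 0, 0, 0, 4, 0⟩, ⟨-2, 0, -2, 0, 0, -2, -2, 0⟩⟩,
  ⟨⟨4, 0, 0, 0, 0, 0, 0, 0⟩, ⟨0, 0, 0, 0, 4, 0, 0, 0⟩, ⟨0, 2, -2, 0, 2, 0, -2, 0⟩⟩,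
  ⟨⟨1, 1, -1, -1, 1, 1, 1, 1⟩, ⟨4, 0, 0, 0, 0, 0, 0, 0⟩, ⟨1, -1, -1, 1, 1, -1, -1, 1⟩⟩,
  ⟨⟨4, 0, 0, 0, 0, 0, 0, 0⟩, ⟨-4, 0, 0, 0, 0, 0, 0, 0⟩, ⟨2, 0, 2, 0, -2, 0, 0, -2⟩⟩,
  ⟨⟨4, 0, 0, 0, 0, 0, 0, 0⟩, ⟨-2, 0, 2, 0, 2, 0, 0, -2⟩, ⟨0, 0, 0, 0, -4, 0, 0, 0⟩⟩,
  ⟨⟨4, 0, 0, 0, 0, 0, 0, 0⟩, ⟨2, 0, -2, 0, -2, 0, 0, 2⟩, ⟨0, 0, 0, 0, -4, 0, 0, 0⟩⟩,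
  ⟨⟨0, -2, -2, 0, 2, 0, 2, 0⟩, ⟨4, 0, 0, 0, 0, 0, 0, 0⟩, ⟨0, 0, -4, 0, 0, 0, 0, 0⟩⟩,
  ⟨⟨4, 0, 0, 0, 0, 0, 0, 0⟩, ⟨1, -1, 1, -1, -1, 1, -1, 1⟩, ⟨1, 1, 1, 1, 1, 1, -1, -1⟩⟩,
  ⟨⟨1, 1, -1, -1, -1, -1, -1, -1⟩, ⟨1, -1, 1, -1, 1, -1, 1, -1⟩, ⟨4, 0, 0, 0, 0, 0, 0, 0⟩⟩,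
  ⟨⟨1, 1, -1, -1, -1, -1, -1, -1⟩, ⟨-1, 1, -1, 1, -1, 1, -1, 1⟩, ⟨4, 0, 0, 0, 0, 0, 0, 0⟩⟩,
  ⟨⟨-1, -1, -1, -1, 1, 1, -1, -1⟩, ⟨1, -1, -1, 1, -1, 1, 1, -1⟩, ⟨4, 0, 0, 0, 0, 0, 0, 0⟩⟩,
  ⟨⟨-2, 0, 2, 0, -2, 0, 0, 2⟩, ⟨4, 0, 0, 0, 0, 0, 0, 0⟩, ⟨0, 0, 0, 0, 0, 0, 4, 0⟩⟩,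
  ⟨⟨2, 0, -2, 0, 2, 0, 0, -2⟩, ⟨4, 0, 0, 0, 0, 0, 0, 0⟩, ⟨0, 0, 0, 0, 0, 0, -4, 0⟩⟩,
  ⟨⟨4, 0, 0, 0, 0, 0, 0, 0⟩, ⟨2, 0, -2, 0, 0, 2, -2, 0⟩, ⟨0, 0, 4, 0, 0, 0, 0, 0⟩⟩,
  ⟨⟨4, 0, 0, 0, 0, 0, 0, 0⟩, ⟨0, 0, 0, 0, -4, 0, 0, 0⟩, ⟨2, 0, 0, 2, 2, 0, 2, 0⟩⟩,
  ⟨⟨4, 0, 0, 0, 0, 0, 0, 0⟩, ⟨0, 0, 0, 0, 0, 0, -4, 0⟩, ⟨-2, 0, 2, 0, -2, 0, 0, 2⟩⟩,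
  ⟨⟨4, 0, 0, 0, 0, 0, 0, 0⟩, ⟨0, 0, 0, 0, 0, 0, 4, 0⟩, ⟨2, 0, 2, 0, 0, 2, 2, 0⟩⟩,
  ⟨⟨4, 0, 0, 0, 0, 0, 0, 0⟩, ⟨0, 0, 0, 0, 0, 0, 4, 0⟩, ⟨-2, 0, 2, 0, -2, 0, 0, 2⟩⟩,
  ⟨⟨4, 0, 0, 0, 0, 0, 0, 0⟩, ⟨2, 0, -2, 0, 0, -2, 2, 0⟩, ⟨4, 0, 0, 0, 0, 0, 0, 0⟩⟩,
  ⟨⟨-2, 0, 2, 0, 2, 0, 0, -2⟩, ⟨4, 0, 0, 0, 0, 0, 0, 0⟩, ⟨0, 0, 0, 0, -4, 0, 0, 0⟩⟩,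
  ⟨⟨4, 0, 0, 0, 0, 0, 0, 0⟩, ⟨0, 0, 0, 0, 4, 0, 0, 0⟩, ⟨2, 0, 2, 0, 0, -2, -2, 0⟩⟩,
  ⟨⟨1, -1, 1, -1, 1, -1, 1, -1⟩, ⟨-1, -1, 1, 1, 1, 1, 1, 1⟩, ⟨4, 0, 0, 0, 0, 0, 0, 0⟩⟩,
  ⟨⟨4, 0, 0, 0, 0, 0, 0, 0⟩, ⟨0, -2, -2, 0, 2, 0, 2, 0⟩, ⟨0, 0, -4, 0, 0, 0, 0, 0⟩⟩,
  ⟨⟨4, 0, 0, 0, 0, 0, 0, 0⟩, ⟨2, 0, -2, 0, -2, 0, 0, 2⟩, ⟨0, 0, 0, 0, 4, 0, 0, 0⟩⟩,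
  ⟨⟨4, 0, 0, 0, 0, 0, 0, 0⟩, ⟨2, 0, 0, 2, 2, 0, 2, 0⟩, ⟨0, 0, 0, 0, -4, 0, 0, 0⟩⟩,
  ⟨⟨4, 0, 0, 0, 0, 0, 0, 0⟩, ⟨2, 0, 2, 0, 0, -2, -2, 0⟩, ⟨0, 0, 0, 0, -4, 0, 0, 0⟩⟩,
  ⟨⟨4, 0, 0, 0, 0, 0, 0, 0⟩, ⟨-2, 0, -2, 0, 0, 2, 2, 0⟩, ⟨0, 0, 0, 0, -4, 0, 0, 0⟩⟩,
  ⟨⟨4, 0, 0, 0, 0, 0, 0, 0⟩, ⟨2, 0, 0, 2, -2, 0, -2, 0⟩, ⟨0, 0, 0, 0, 0, 0, 4, 0⟩⟩,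
  ⟨⟨4, 0, 0, 0, 0, 0, 0, 0⟩, ⟨0, 0, 0, 0, 0, 0, -4, 0⟩, ⟨0, 2, -2, 0, -2, 0, 2, 0⟩⟩,
  ⟨⟨4, 0, 0, 0, 0, 0, 0, 0⟩, ⟨0, 0, 0, 0, 0, 0, 4, 0⟩, ⟨0, 2, -2, 0, -2, 0, 2, 0⟩⟩,
  ⟨⟨4, 0, 0, 0, 0, 0, 0, 0⟩, ⟨0, -2, -2, 0, -2, 0, -2, 0⟩, ⟨-4, 0, 0, 0, 0, 0, 0, 0⟩⟩,
  ⟨⟨-1, -1, 1, 1, 1, 1, 1, 1⟩, ⟨4, 0, 0, 0, 0, 0, 0, 0⟩, ⟨-1, 1, -1, 1, -1, 1, -1, 1⟩⟩,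
  ⟨⟨0, 0, 0, 0, 0, 0, 0, 0⟩, ⟨0, -2, 2, 0, 2, 0, 2, 0⟩, ⟨0, 2, -2, 0, -2, 0, -2, 0⟩⟩,
  ⟨⟨1, 1, -1, -1, -1, -1, -1, -1⟩, ⟨4, 0, 0, 0, 0, 0, 0, 0⟩, ⟨1, -1, 1, -1, 1, -1, 1, -1⟩⟩,
  ⟨⟨4, 0, 0, 0, 0, 0, 0, 0⟩, ⟨2, 0, 2, 0, 0, 2, 2, 0⟩, ⟨0, 0, 0, 0, 0, 0, -4, 0⟩⟩,
  ⟨⟨-2, 0, -2, 0, 2, 0, 0, 2⟩, ⟨4, 0, 0, 0, 0, 0, 0, 0⟩, ⟨-4, 0, 0, 0, 0, 0, 0, 0⟩⟩,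
  ⟨⟨0, 0, 0, 0, 0, 0, 0, 0⟩, ⟨0, -2, 2, 0, 2, 0, 2, 0⟩, ⟨-2, 0, 2, 0, -2, 0, 0, -2⟩⟩,
  ⟨⟨4, 0, 0, 0, 0, 0, 0, 0⟩, ⟨-2, 0, 0, -2, -2, 0, -2, 0⟩, ⟨0, 0, 0, 0, -4, 0, 0, 0⟩⟩,
  ⟨⟨4, 0, 0, 0, 0, 0, 0, 0⟩, ⟨2, 0, 2, 0, -2, 0, 0, -2⟩, ⟨4, 0, 0, 0, 0, 0, 0, 0⟩⟩,
  ⟨⟨-2, 0, 0, -2, -2, 0, -2, 0⟩, ⟨4, 0, 0, 0, 0, 0, 0, 0⟩, ⟨0, 0, 0, 0, -4, 0, 0, 0⟩⟩,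
  ⟨⟨-1, 1, 1, -1, 1, -1, -1, 1⟩, ⟨1, 1, 1, 1, -1, -1, 1, 1⟩, ⟨4, 0, 0, 0, 0, 0, 0, 0⟩⟩,
  ⟨⟨4, 0, 0, 0, 0, 0, 0, 0⟩, ⟨-2, 0, -2, 0, 2, 0, 0, 2⟩, ⟨-4, 0, 0, 0, 0, 0, 0, 0⟩⟩,
  ⟨⟨4, 0, 0, 0, 0, 0, 0, 0⟩, ⟨2, 0, 2, 0, -2, 0, 0, -2⟩, ⟨-4, 0, 0, 0, 0, 0, 0, 0⟩⟩,
  ⟨⟨1, -1, -1, 1, -1, 1, 1, -1⟩, ⟨1, 1, 1, 1, -1, -1, 1, 1⟩, ⟨4, 0, 0, 0, 0, 0, 0, 0⟩⟩,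
  ⟨⟨1, -1, -1, 1, -1, 1, 1, -1⟩, ⟨-1, -1, -1, -1, 1, 1, -1, -1⟩, ⟨4, 0, 0, 0, 0, 0, 0, 0⟩⟩,
  ⟨⟨4, 0, 0, 0, 0, 0, 0, 0⟩, ⟨-1, 1, -1, 1, 1, -1, 1, -1⟩, ⟨1, 1, 1, 1, 1, 1, -1, -1⟩⟩,
  ⟨⟨2, 0, 0, 2, -2, 0, -2, 0⟩, ⟨4, 0, 0, 0, 0, 0, 0, 0⟩, ⟨0, 0, 0, 0, 0, 0, 4, 0⟩⟩,
  ⟨⟨-2, 0, 0, -2, 2, 0, 2, 0⟩, ⟨4, 0, 0, 0, 0, 0, 0, 0⟩, ⟨0, 0, 0, 0, 0, 0, -4, 0⟩⟩,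
  ⟨⟨0, 2, 2, 0, 2, 0, 2, 0⟩, ⟨4, 0, 0, 0, 0, 0, 0, 0⟩, ⟨-4, 0, 0, 0, 0, 0, 0, 0⟩⟩,
  ⟨⟨2, 0, -2, 0, 0, -2, 2, 0⟩, ⟨4, 0, 0, 0, 0, 0, 0, 0⟩, ⟨4, 0, 0, 0, 0, 0, 0, 0⟩⟩,
  ⟨⟨-2, 0, 2, 0, 0, 2, -2, 0⟩, ⟨4, 0, 0, 0, 0, 0, 0, 0⟩, ⟨-4, 0, 0, 0, 0, 0, 0, 0⟩⟩,
  ⟨⟨2, 0, -2, 0, -2, 0, 0, 2⟩, ⟨4, 0, 0, 0, 0, 0, 0, 0⟩, ⟨0, 0, 0, 0, 4, 0, 0, 0⟩⟩,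
  ⟨⟨4, 0, 0, 0, 0, 0, 0, 0⟩, ⟨0, 0, 0, 0, 4, 0, 0, 0⟩, ⟨0, -2, 2, 0, -2, 0, 2, 0⟩⟩,
  ⟨⟨-1, -1, 1, 1, -1, -1, -1, -1⟩, ⟨4, 0, 0, 0, 0, 0, 0, 0⟩, ⟨1, -1, -1, 1, 1, -1, -1, 1⟩⟩,
  ⟨⟨4, 0, 0, 0, 0, 0, 0, 0⟩, ⟨0, 0, 0, 0, -4, 0, 0, 0⟩, ⟨0, -2, 2, 0, -2, 0, 2, 0⟩⟩,
  ⟨⟨1, 1, -1, -1, 1, 1, 1, 1⟩, ⟨4, 0, 0, 0, 0, 0, 0, 0⟩, ⟨-1, 1, 1, -1, -1, 1, 1, -1⟩⟩,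
  ⟨⟨-1, -1, 1, 1, -1, -1, -1, -1⟩, ⟨4, 0, 0, 0, 0, 0, 0, 0⟩, ⟨-1, 1, 1, -1, -1, 1, 1, -1⟩⟩,
  ⟨⟨0, 0, 0, 0, 0, 0, 0, 0⟩, ⟨0, -2, 2, 0, 2, 0, 2, 0⟩, ⟨2, 0, -2, 0, 2, 0, 0, 2⟩⟩,
  ⟨⟨-2, 0, 2, 0, 0, 2, -2, 0⟩, ⟨4, 0, 0, 0, 0, 0, 0, 0⟩, ⟨4, 0, 0, 0, 0, 0, 0, 0⟩⟩,
  ⟨⟨4, 0, 0, 0, 0, 0, 0, 0⟩, ⟨1, -1, 1, -1, -1, 1, -1, 1⟩, ⟨-1, -1, -1, -1, -1, -1, 1, 1⟩⟩,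
  ⟨⟨4, 0, 0, 0, 0, 0, 0, 0⟩, ⟨-1, 1, -1, 1, 1, -1, 1, -1⟩, ⟨-1, -1, -1, -1, -1, -1, 1, 1⟩⟩,
  ⟨⟨-1, 1, -1, 1, -1, 1, -1, 1⟩, ⟨4, 0, 0, 0, 0, 0, 0, 0⟩, ⟨1, 1, -1, -1, -1, -1, -1, -1⟩⟩,
  ⟨⟨-1, -1, 1, 1, 1, 1, 1, 1⟩, ⟨1, -1, 1, -1, 1, -1, 1, -1⟩, ⟨4, 0, 0, 0, 0, 0, 0, 0⟩⟩,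
  ⟨⟨1, 1, 1, 1, -1, -1, 1, 1⟩, ⟨-1, 1, 1, -1, 1, -1, -1, 1⟩, ⟨4, 0, 0, 0, 0, 0, 0, 0⟩⟩,
  ⟨⟨4, 0, 0, 0, 0, 0, 0, 0⟩, ⟨0, 2, 2, 0, -2, 0, -2, 0⟩, ⟨0, 0, -4, 0, 0, 0, 0, 0⟩⟩,
  ⟨⟨1, 1, 1, 1, -1, -1, 1, 1⟩, ⟨1, -1, -1, 1, -1, 1, 1, -1⟩, ⟨4, 0, 0, 0, 0, 0, 0, 0⟩⟩,
  ⟨⟨2, 0, -2, 0, 2, 0, 0, -2⟩, ⟨4, 0, 0, 0, 0, 0, 0, 0⟩, ⟨0, 0, 0, 0, 0, 0, 4, 0⟩⟩,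
  ⟨⟨4, 0, 0, 0, 0, 0, 0, 0⟩, ⟨2, 0, -2, 0, 0, 2, -2, 0⟩, ⟨0, 0, -4, 0, 0, 0, 0, 0⟩⟩,
  ⟨⟨2, 0, -2, 0, 0, 2, -2, 0⟩, ⟨4, 0, 0, 0, 0, 0, 0, 0⟩, ⟨0, 0, -4, 0, 0, 0, 0, 0⟩⟩,
  ⟨⟨4, 0, 0, 0, 0, 0, 0, 0⟩, ⟨-2, 0, 2, 0, 0, -2, 2, 0⟩, ⟨0, 0, -4, 0, 0, 0, 0, 0⟩⟩,
  ⟨⟨4, 0, 0, 0, 0, 0, 0, 0⟩, ⟨2, 0, -2, 0, 2, 0, 0, -2⟩, ⟨0, 0, 0, 0, 0, 0, -4, 0⟩⟩,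
  ⟨⟨4, 0, 0, 0, 0, 0, 0, 0⟩, ⟨1, 1, -1, -1, -1, -1, -1, -1⟩, ⟨1, -1, 1, -1, 1, -1, 1, -1⟩⟩,
  ⟨⟨4, 0, 0, 0, 0, 0, 0, 0⟩, ⟨0, 0, 0, 0, 0, 0, 4, 0⟩, ⟨2, 0, -2, 0, 2, 0, 0, -2⟩⟩,
  ⟨⟨4, 0, 0, 0, 0, 0, 0, 0⟩, ⟨0, 0, 0, 0, -4, 0, 0, 0⟩, ⟨0, 2, -2, 0, 2, 0, -2, 0⟩⟩,
  ⟨⟨4, 0, 0, 0, 0, 0, 0, 0⟩, ⟨0, 0, 0, 0, -4, 0, 0, 0⟩, ⟨-2, 0, -2, 0, 0, 2, 2, 0⟩⟩,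
  ⟨⟨-2, 0, 2, 0, 2, 0, 0, -2⟩, ⟨4, 0, 0, 0, 0, 0, 0, 0⟩, ⟨0, 0, 0, 0, 4, 0, 0, 0⟩⟩,
  ⟨⟨2, 0, -2, 0, -2, 0, 0, 2⟩, ⟨4, 0, 0, 0, 0, 0, 0, 0⟩, ⟨0, 0, 0, 0, -4, 0, 0, 0⟩⟩,
  ⟨⟨4, 0, 0, 0, 0, 0, 0, 0⟩, ⟨0, 0, 0, 0, 4, 0, 0, 0⟩, ⟨-2, 0, -2, 0, 0, 2, 2, 0⟩⟩,
  ⟨⟨4, 0, 0, 0, 0, 0, 0, 0⟩, ⟨0, -2, -2, 0, 2, 0, 2, 0⟩, ⟨0, 0, 4, 0, 0, 0, 0, 0⟩⟩,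
  ⟨⟨4, 0, 0, 0, 0, 0, 0, 0⟩, ⟨0, 2, 2, 0, -2, 0, -2, 0⟩, ⟨0, 0, 4, 0, 0, 0, 0, 0⟩⟩,
  ⟨⟨4, 0, 0, 0, 0, 0, 0, 0⟩, ⟨2, 0, 0, 2, 2, 0, 2, 0⟩, ⟨0, 0, 0, 0, 4, 0, 0, 0⟩⟩,
  ⟨⟨4, 0, 0, 0, 0, 0, 0, 0⟩, ⟨-2, 0, 0, -2, -2, 0, -2, 0⟩, ⟨0, 0, 0, 0, 4, 0, 0, 0⟩⟩,
  ⟨⟨4, 0, 0, 0, 0, 0, 0, 0⟩, ⟨-2, 0, 0, -2, 2, 0, 2, 0⟩, ⟨0, 0, 0, 0, 0, 0, -4, 0⟩⟩,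
  ⟨⟨4, 0, 0, 0, 0, 0, 0, 0⟩, ⟨2, 0, 0, 2, -2, 0, -2, 0⟩, ⟨0, 0, 0, 0, 0, 0, -4, 0⟩⟩,
  ⟨⟨4, 0, 0, 0, 0, 0, 0, 0⟩, ⟨0, 0, 0, 0, 0, 0, 4, 0⟩, ⟨0, -2, 2, 0, 2, 0, -2, 0⟩⟩,
  ⟨⟨4, 0, 0, 0, 0, 0, 0, 0⟩, ⟨0, -2, -2, 0, -2, 0, -2, 0⟩, ⟨4, 0, 0, 0, 0, 0, 0, 0⟩⟩,
  ⟨⟨4, 0, 0, 0, 0, 0, 0, 0⟩, ⟨0, 2, 2, 0, 2, 0, 2, 0⟩, ⟨4, 0, 0, 0, 0, 0, 0, 0⟩⟩,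
  ⟨⟨-1, -1, 1, 1, 1, 1, 1, 1⟩, ⟨4, 0, 0, 0, 0, 0, 0, 0⟩, ⟨1, -1, 1, -1, 1, -1, 1, -1⟩⟩,
  ⟨⟨4, 0, 0, 0, 0, 0, 0, 0⟩, ⟨1, 1, -1, -1, 1, 1, 1, 1⟩, ⟨-1, 1, 1, -1, -1, 1, 1, -1⟩⟩,
  ⟨⟨4, 0, 0, 0, 0, 0, 0, 0⟩, ⟨0, 2, 2, 0, 2, 0, 2, 0⟩, ⟨-4, 0, 0, 0, 0, 0, 0, 0⟩⟩,
  ⟨⟨-2, 0, -2, 0, 2, 0, 0, 2⟩, ⟨4, 0, 0, 0, 0, 0, 0, 0⟩, ⟨4, 0, 0, 0, 0, 0, 0, 0⟩⟩,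
  ⟨⟨2, 0, 2, 0, -2, 0, 0, -2⟩, ⟨4, 0, 0, 0, 0, 0, 0, 0⟩, ⟨-4, 0, 0, 0, 0, 0, 0, 0⟩⟩,
  ⟨⟨-2, 0, -2, 0, 0, -2, -2, 0⟩, ⟨4, 0, 0, 0, 0, 0, 0, 0⟩, ⟨0, 0, 0, 0, 0, 0, -4, 0⟩⟩,
  ⟨⟨0, -2, -2, 0, -2, 0, -2, 0⟩, ⟨4, 0, 0, 0, 0, 0, 0, 0⟩, ⟨-4, 0, 0, 0, 0, 0, 0, 0⟩⟩,
  ⟨⟨-2, 0, -2, 0, 0, -2, -2, 0⟩, ⟨4, 0, 0, 0, 0, 0, 0, 0⟩, ⟨0, 0, 0, 0, 0, 0, 4, 0⟩⟩,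
  ⟨⟨0, -2, -2, 0, -2, 0, -2, 0⟩, ⟨4, 0, 0, 0, 0, 0, 0, 0⟩, ⟨4, 0, 0, 0, 0, 0, 0, 0⟩⟩,
  ⟨⟨4, 0, 0, 0, 0, 0, 0, 0⟩, ⟨-1, 1, -1, 1, -1, 1, -1, 1⟩, ⟨1, 1, -1, -1, -1, -1, -1, -1⟩⟩,
  ⟨⟨-2, 0, 0, -2, 2, 0, 2, 0⟩, ⟨4, 0, 0, 0, 0, 0, 0, 0⟩, ⟨0, 0, 0, 0, 0, 0, 4, 0⟩⟩,
  ⟨⟨0, 2, 2, 0, 2, 0, 2, 0⟩, ⟨4, 0, 0, 0, 0, 0, 0, 0⟩, ⟨4, 0, 0, 0, 0, 0, 0, 0⟩⟩,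
  ⟨⟨-2, 0, 2, 0, 0, -2, 2, 0⟩, ⟨4, 0, 0, 0, 0, 0, 0, 0⟩, ⟨0, 0, 4, 0, 0, 0, 0, 0⟩⟩,
  ⟨⟨4, 0, 0, 0, 0, 0, 0, 0⟩, ⟨1, 1, -1, -1, -1, -1, -1, -1⟩, ⟨-1, 1, -1, 1, -1, 1, -1, 1⟩⟩,
  ⟨⟨-1, 1, -1, 1, -1, 1, -1, 1⟩, ⟨4, 0, 0, 0, 0, 0, 0, 0⟩, ⟨-1, -1, 1, 1, 1, 1, 1, 1⟩⟩,
  ⟨⟨4, 0, 0, 0, 0, 0, 0, 0⟩, ⟨-1, 1, -1, 1, -1, 1, -1, 1⟩, ⟨-1, -1, 1, 1, 1, 1, 1, 1⟩⟩,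
  ⟨⟨1, -1, 1, -1, 1, -1, 1, -1⟩, ⟨4, 0, 0, 0, 0, 0, 0, 0⟩, ⟨1, 1, -1, -1, -1, -1, -1, -1⟩⟩,
  ⟨⟨-1, 1, -1, 1, 1, -1, 1, -1⟩, ⟨4, 0, 0, 0, 0, 0, 0, 0⟩, ⟨-1, -1, -1, -1, -1, -1, 1, 1⟩⟩,
  ⟨⟨-1, -1, -1, -1, 1, 1, -1, -1⟩, ⟨-1, 1, 1, -1, 1, -1, -1, 1⟩, ⟨4, 0, 0, 0, 0, 0, 0, 0⟩⟩,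
  ⟨⟨4, 0, 0, 0, 0, 0, 0, 0⟩, ⟨-2, 0, 0, -2, 2, 0, 2, 0⟩, ⟨0, 0, 0, 0, 0, 0, 4, 0⟩⟩,
  ⟨⟨2, 0, -2, 0, 0, 2, -2, 0⟩, ⟨4, 0, 0, 0, 0, 0, 0, 0⟩, ⟨0, 0, 4, 0, 0, 0, 0, 0⟩⟩,
  ⟨⟨4, 0, 0, 0, 0, 0, 0, 0⟩, ⟨-2, 0, 2, 0, 0, -2, 2, 0⟩, ⟨0, 0, 4, 0, 0, 0, 0, 0⟩⟩,
  ⟨⟨4, 0, 0, 0, 0, 0, 0, 0⟩, ⟨2, 0, -2, 0, 2, 0, 0, -2⟩, ⟨0, 0, 0, 0, 0, 0, 4, 0⟩⟩,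
  ⟨⟨-2, 0, 2, 0, 0, -2, 2, 0⟩, ⟨4, 0, 0, 0, 0, 0, 0, 0⟩, ⟨0, 0, -4, 0, 0, 0, 0, 0⟩⟩,
  ⟨⟨4, 0, 0, 0, 0, 0, 0, 0⟩, ⟨-1, -1, 1, 1, 1, 1, 1, 1⟩, ⟨-1, 1, -1, 1, -1, 1, -1, 1⟩⟩,
  ⟨⟨4, 0, 0, 0, 0, 0, 0, 0⟩, ⟨-2, 0, 2, 0, -2, 0, 0, 2⟩, ⟨0, 0, 0, 0, 0, 0, 4, 0⟩⟩,
  ⟨⟨4, 0, 0, 0, 0, 0, 0, 0⟩, ⟨1, 1, -1, -1, 1, 1, 1, 1⟩, ⟨1, -1, -1, 1, 1, -1, -1, 1⟩⟩,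
  ⟨⟨4, 0, 0, 0, 0, 0, 0, 0⟩, ⟨0, 0, 0, 0, -4, 0, 0, 0⟩, ⟨2, 0, 2, 0, 0, -2, -2, 0⟩⟩,
  ⟨⟨4, 0, 0, 0, 0, 0, 0, 0⟩, ⟨-1, -1, 1, 1, -1, -1, -1, -1⟩, ⟨1, -1, -1, 1, 1, -1, -1, 1⟩⟩,
  ⟨⟨2, 0, 2, 0, -2, 0, 0, -2⟩, ⟨4, 0, 0, 0, 0, 0, 0, 0⟩, ⟨4, 0, 0, 0, 0, 0, 0, 0⟩⟩,
  ⟨⟨2, 0, 2, 0, 0, 2, 2, 0⟩, ⟨4, 0, 0, 0, 0, 0, 0, 0⟩, ⟨0, 0, 0, 0, 0, 0, -4, 0⟩⟩,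
  ⟨⟨2, 0, 2, 0, 0, 2, 2, 0⟩, ⟨4, 0, 0, 0, 0, 0, 0, 0⟩, ⟨0, 0, 0, 0, 0, 0, 4, 0⟩⟩,
  ⟨⟨4, 0, 0, 0, 0, 0, 0, 0⟩, ⟨1, -1, 1, -1, 1, -1, 1, -1⟩, ⟨-1, -1, 1, 1, 1, 1, 1, 1⟩⟩,
  ⟨⟨4, 0, 0, 0, 0, 0, 0, 0⟩, ⟨-1, -1, 1, 1, 1, 1, 1, 1⟩, ⟨1, -1, 1, -1, 1, -1, 1, -1⟩⟩,
  ⟨⟨1, -1, 1, -1, 1, -1, 1, -1⟩, ⟨4, 0, 0, 0, 0, 0, 0, 0⟩, ⟨-1, -1, 1, 1, 1, 1, 1, 1⟩⟩,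
  ⟨⟨-1, 1, -1, 1, 1, -1, 1, -1⟩, ⟨4, 0, 0, 0, 0, 0, 0, 0⟩, ⟨1, 1, 1, 1, 1, 1, -1, -1⟩⟩,
  ⟨⟨4, 0, 0, 0, 0, 0, 0, 0⟩, ⟨1, -1, 1, -1, 1, -1, 1, -1⟩, ⟨1, 1, -1, -1, -1, -1, -1, -1⟩⟩,
  ⟨⟨1, -1, 1, -1, -1, 1, -1, 1⟩, ⟨4, 0, 0, 0, 0, 0, 0, 0⟩, ⟨-1, -1, -1, -1, -1, -1, 1, 1⟩⟩,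
  ⟨⟨0, -2, 2, 0, 2, 0, 2, 0⟩, ⟨2, 0, 2, 0, 0, 2, -2, 0⟩, ⟨0, 0, 0, 0, 0, 0, 0, 0⟩⟩,
  ⟨⟨4, 0, 0, 0, 0, 0, 0, 0⟩, ⟨-2, 0, 2, 0, -2, 0, 0, 2⟩, ⟨0, 0, 0, 0, 0, 0, -4, 0⟩⟩,
  ⟨⟨4, 0, 0, 0, 0, 0, 0, 0⟩, ⟨-1, -1, 1, 1, -1, -1, -1, -1⟩, ⟨-1, 1, 1, -1, -1, 1, 1, -1⟩⟩,
  ⟨⟨0, -2, 2, 0, 2, 0, 2, 0⟩, ⟨-2, 0, -2, 0, 0, -2, 2, 0⟩, ⟨0, 0, 0, 0, 0, 0, 0, 0⟩⟩,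
  ⟨⟨1, -1, 1, -1, -1, 1, -1, 1⟩, ⟨4, 0, 0, 0, 0, 0, 0, 0⟩, ⟨1, 1, 1, 1, 1, 1, -1, -1⟩⟩,
  ⟨⟨0, -2, 2, 0, 2, 0, 2, 0⟩, ⟨-2, 0, 2, 0, -2, 0, 0, -2⟩, ⟨0, 0, 0, 0, 0, 0, 0, 0⟩⟩,
  ⟨⟨0, -2, 2, 0, 2, 0, 2, 0⟩, ⟨2, 0, -2, 0, 2, 0, 0, 2⟩, ⟨0, 0, 0, 0, 0, 0, 0, 0⟩⟩
]

end MV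

end Cfsg.Agent.Lib.Helper4.J2
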