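import Cfsg.Agent.Lib.Helper4.J2.H6

set_option autoImplicit false

/-! # A spanning tree of the 315 lines under the five generators -/

namespace Cfsg.Agent.Lib.Helper4.J2

/-- the entry `(i, j, c, u)` says that the generator `c` maps the vector `j` to `u` times the vector `i` -/
def tree : List (ℕ × ℕ × ℕ × MQ) := [
  (1, 0, 1, ⟨-2, 0, -2, 0, -2, 0, 2, 0⟩),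
  (2, 1, 0, ⟨4, 0, 0, 0, 0, 0, 0, 0⟩),
  (3, 1, 2, ⟨4, 0, 0, 0, 0, 0, 0, 0⟩),
  (4, 2, 1, ⟨2, 0, 2, 0, -2, 0, 2, 0⟩),
  (5, 2, 2, ⟨4, 0, 0, 0, 0, 0, 0, 0⟩),
  (6, 3, 3, ⟨0, 0, -1, -1, -2, 0, -1, 1⟩),
  (7, 4, 0, ⟨4, 0, 0, 0, 0, 0, 0, 0⟩),
  (8, 4, 2, ⟨-4, 0, 0, 0, 0, 0, 0, 0⟩),
  (9, 5, 1, ⟨2, 0, -2, 0, -2, 0, 2, 0⟩),
  (10, 5, 3, ⟨0, 0, -1, -1, -2, 0, -1, 1⟩),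
  (11, 6, 2, ⟨-4, 0, 0, 0, 0, 0, 0, 0⟩),
  (12, 6, 4, ⟨0, 0, 0, 0, 0, 0, 4, 0⟩),
  (13, 7, 2, ⟨-4, 0, 0, 0, 0, 0, 0, 0⟩),
  (14, 8, 1, ⟨-2, 0, 2, 0, -2, 0, -2, 0⟩),
  (15, 8, 3, ⟨0, 0, 1, -1, -1, -1, -2, 0⟩),
  (16, 9, 0, ⟨-4, 0, 0, 0, 0, 0, 0, 0⟩),
  (17, 9, 3, ⟨-1, 1, -1, -1, 0, 0, -2, 0⟩),
  (18, 10, 2, ⟨-4, 0, 0, 0, 0, 0, 0, 0⟩),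
  (19, 10, 4, ⟨0, 0, 0, 0, 0, 0, 4, 0⟩),
  (20, 11, 1, ⟨2, 0, -1, 1, 0, 0, 1, 1⟩),
  (21, 11, 4, ⟨0, 0, 0, 0, 0, 0, 4, 0⟩),
  (22, 13, 1, ⟨4, 0, 0, 0, 0, 0, 0, 0⟩),
  (23, 13, 3, ⟨0, 0, 1, -1, -1, -1, -2, 0⟩),
  (24, 14, 0, ⟨-4, 0, 0, 0, 0, 0, 0, 0⟩),
  (25, 14, 3, ⟨1, -1, 1, 1, 0, 0, 2, 0⟩),
  (26, 15, 2, ⟨4, 0, 0, 0, 0, 0, 0, 0⟩),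
  (27, 15, 4, ⟨0, 0, 0, 0, -4, 0, 0, 0⟩),
  (28, 16, 1, ⟨-2, 0, -2, 0, -2, 0, 2, 0⟩),
  (29, 16, 3, ⟨1, -1, 1, 1, 0, 0, 2, 0⟩),
  (30, 17, 2, ⟨-4, 0, 0, 0, 0, 0, 0, 0⟩),
  (31, 17, 4, ⟨0, 0, 0, 0, 0, 0, 4, 0⟩),
  (32, 18, 1, ⟨2, 0, 2, 0, -2, 0, 2, 0⟩),
  (33, 18, 4, ⟨0, 0, 0, 0, 0, 0, 4, 0⟩),
  (34, 20, 0, ⟨4, 0, 0, 0, 0, 0, 0, 0⟩),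
  (35, 20, 4, ⟨0, 0, -1, -1, -2, 0, -1, 1⟩),
  (36, 21, 3, ⟨0, 0, 1, 1, -2, 0, -1, 1⟩),
  (37, 22, 3, ⟨-2, 0, 0, 0, 1, 1, -1, 1⟩),
  (38, 23, 2, ⟨4, 0, 0, 0, 0, 0, 0, 0⟩),
  (39, 23, 4, ⟨0, 0, 0, 0, -4, 0, 0, 0⟩),
  (40, 24, 3, ⟨-1, 1, -1, -1, 0, 0, -2, 0⟩),
  (41, 25, 2, ⟨4, 0, 0, 0, 0, 0, 0, 0⟩),
  (42, 25, 4, ⟨0, 0, 0, 0, -4, 0, 0, 0⟩),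
  (43, 26, 1, ⟨-2, 0, 2, 0, 2, 0, -2, 0⟩),
  (44, 26, 4, ⟨0, 0, 0, 0, -4, 0, 0, 0⟩),
  (45, 28, 3, ⟨-2, 0, 0, 0, 1, 1, -1, 1⟩),
  (46, 29, 2, ⟨-4, 0, 0, 0, 0, 0, 0, 0⟩),
  (47, 29, 4, ⟨0, 0, 0, 0, 0, 0, 4, 0⟩),
  (48, 30, 1, ⟨2, 0, -2, 0, 2, 0, -2, 0⟩),
  (49, 30, 3, ⟨-1, 1, 1, 1, 0, 0, 2, 0⟩),
  (50, 30, 4, ⟨0, 0, 0, 0, 0, 0, 4, 0⟩),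
  (51, 32, 0, ⟨4, 0, 0, 0, 0, 0, 0, 0⟩),
  (52, 32, 4, ⟨0, 0, 0, 0, 0, 0, 4, 0⟩),
  (53, 33, 3, ⟨0, 0, 1, 1, -2, 0, -1, 1⟩),
  (54, 34, 1, ⟨-2, 0, -1, 1, 0, 0, 1, 1⟩),
  (55, 34, 4, ⟨0, 0, -1, -1, -2, 0, -1, 1⟩),
  (56, 35, 3, ⟨2, 0, 0, 0, 1, 1, -1, 1⟩),
  (57, 36, 2, ⟨4, 0, 0, 0, 0, 0, 0, 0⟩),
  (58, 37, 4, ⟨0, 0, 1, -1, 1, 1, 2, 0⟩),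
  (59, 38, 4, ⟨0, 0, 0, 0, -4, 0, 0, 0⟩),
  (60, 40, 4, ⟨0, 0, 0, 0, -4, 0, 0, 0⟩),
  (61, 41, 1, ⟨-2, 0, 2, 0, -2, 0, -2, 0⟩),
  (62, 41, 4, ⟨0, 0, 0, 0, -4, 0, 0, 0⟩),
  (63, 43, 4, ⟨0, 0, -4, 0, 0, 0, 0, 0⟩),
  (64, 44, 3, ⟨0, 0, -1, 1, -1, -1, -2, 0⟩),
  (65, 45, 4, ⟨0, 0, 1, -1, 1, 1, 2, 0⟩),
  (66, 46, 4, ⟨0, 0, 0, 0, 0, 0, 4, 0⟩),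
  (67, 48, 0, ⟨4, 0, 0, 0, 0, 0, 0, 0⟩),
  (68, 48, 3, ⟨-2, 0, 0, 0, 1, 1, -1, 1⟩),
  (69, 48, 4, ⟨0, 0, 0, 0, 0, 0, 4, 0⟩),
  (70, 49, 2, ⟨4, 0, 0, 0, 0, 0, 0, 0⟩),
  (71, 49, 4, ⟨0, 0, -4, 0, 0, 0, 0, 0⟩),
  (72, 50, 3, ⟨0, 0, 2, 0, -1, 1, -1, -1⟩),
  (73, 51, 4, ⟨0, 0, 0, 0, 0, 0, 4, 0⟩),
  (74, 52, 3, ⟨0, 0, 0, 0, 0, 0, -4, 0⟩),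
  (75, 53, 2, ⟨4, 0, 0, 0, 0, 0, 0, 0⟩),
  (76, 54, 4, ⟨0, 0, 0, 0, -4, 0, 0, 0⟩),
  (77, 55, 3, ⟨2, 0, 0, 0, 1, 1, -1, 1⟩),
  (78, 56, 2, ⟨-4, 0, 0, 0, 0, 0, 0, 0⟩),
  (79, 57, 1, ⟨0, 0, 2, 0, -1, 1, -1, -1⟩),
  (80, 59, 3, ⟨0, 0, -1, 1, -1, -1, -2, 0⟩),
  (81, 61, 4, ⟨0, 0, -4, 0, 0, 0, 0, 0⟩),
  (82, 62, 3, ⟨0, 0, -2, 0, -1, 1, -1, -1⟩),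
  (83, 63, 3, ⟨-1, -1, 1, -1, 2, 0, 0, 0⟩),
  (84, 64, 2, ⟨-4, 0, 0, 0, 0, 0, 0, 0⟩),
  (85, 66, 3, ⟨0, 0, 2, 0, -1, 1, -1, -1⟩),
  (86, 67, 1, ⟨1, -1, 0, 0, -2, 0, 1, 1⟩),
  (87, 67, 4, ⟨0, 0, 0, 0, 0, 0, 4, 0⟩),
  (88, 68, 4, ⟨0, 0, 1, -1, 1, 1, 2, 0⟩),
  (89, 69, 3, ⟨0, 0, 0, 0, -4, 0, 0, 0⟩),
  (90, 70, 4, ⟨0, 0, -4, 0, 0, 0, 0, 0⟩),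
  (91, 71, 3, ⟨1, 1, -1, 1, -2, 0, 0, 0⟩),
  (92, 72, 2, ⟨4, 0, 0, 0, 0, 0, 0, 0⟩),
  (93, 73, 3, ⟨0, 0, 0, 0, 0, 0, -4, 0⟩),
  (94, 74, 2, ⟨-4, 0, 0, 0, 0, 0, 0, 0⟩),
  (95, 75, 1, ⟨2, 0, 0, 0, 1, 1, 1, -1⟩),
  (96, 76, 3, ⟨0, 0, -2, 0, -1, 1, -1, -1⟩),
  (97, 77, 2, ⟨-4, 0, 0, 0, 0, 0, 0, 0⟩),
  (98, 78, 1, ⟨1, -1, -1, -1, 0, 0, 2, 0⟩),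
  (99, 78, 3, ⟨-2, 0, 0, 0, 1, 1, -1, 1⟩),
  (100, 79, 0, ⟨4, 0, 0, 0, 0, 0, 0, 0⟩),
  (101, 80, 2, ⟨-4, 0, 0, 0, 0, 0, 0, 0⟩),
  (102, 81, 3, ⟨1, 1, -1, 1, -2, 0, 0, 0⟩),
  (103, 82, 2, ⟨-4, 0, 0, 0, 0, 0, 0, 0⟩),
  (104, 83, 2, ⟨4, 0, 0, 0, 0, 0, 0, 0⟩),
  (105, 84, 1, ⟨1, -1, -2, 0, -1, -1, 0, 0⟩),
  (106, 85, 2, ⟨4, 0, 0, 0, 0, 0, 0, 0⟩),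
  (107, 86, 4, ⟨0, 0, 1, -1, 1, 1, 2, 0⟩),
  (108, 87, 3, ⟨0, 0, 0, 0, -4, 0, 0, 0⟩),
  (109, 88, 3, ⟨2, 0, 0, 0, 1, 1, -1, 1⟩),
  (110, 89, 2, ⟨-4, 0, 0, 0, 0, 0, 0, 0⟩),
  (111, 90, 3, ⟨-1, -1, 1, -1, 2, 0, 0, 0⟩),
  (112, 91, 2, ⟨4, 0, 0, 0, 0, 0, 0, 0⟩),
  (113, 92, 1, ⟨2, 0, 1, -1, 0, 0, -1, -1⟩),
  (114, 93, 2, ⟨-4, 0, 0, 0, 0, 0, 0, 0⟩),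
  (115, 94, 1, ⟨1, -1, 1, 1, 0, 0, 2, 0⟩),
  (116, 94, 3, ⟨0, 0, 0, 0, -4, 0, 0, 0⟩),
  (117, 95, 0, ⟨4, 0, 0, 0, 0, 0, 0, 0⟩),
  (118, 96, 2, ⟨-4, 0, 0, 0, 0, 0, 0, 0⟩),
  (119, 97, 1, ⟨1, 1, -1, 1, 2, 0, 0, 0⟩),
  (120, 97, 3, ⟨-2, 0, 0, 0, 1, 1, -1, 1⟩),
  (121, 98, 0, ⟨4, 0, 0, 0, 0, 0, 0, 0⟩),
  (122, 98, 3, ⟨-2, 0, -2, 0, -2, 0, -2, 0⟩),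
  (123, 99, 4, ⟨0, 0, 1, -1, 1, 1, 2, 0⟩),
  (124, 100, 1, ⟨0, 0, 2, 0, 1, -1, -1, -1⟩),
  (125, 101, 1, ⟨2, 0, -1, 1, 0, 0, 1, 1⟩),
  (126, 102, 2, ⟨-4, 0, 0, 0, 0, 0, 0, 0⟩),
  (127, 103, 1, ⟨-1, -1, -1, 1, -2, 0, 0, 0⟩),
  (128, 104, 1, ⟨1, 1, 0, 0, 1, -1, -2, 0⟩),
  (129, 104, 3, ⟨1, 1, 1, -1, 2, 0, 0, 0⟩),
  (130, 105, 0, ⟨4, 0, 0, 0, 0, 0, 0, 0⟩),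
  (131, 106, 1, ⟨1, 1, 0, 0, 1, -1, 2, 0⟩),
  (132, 107, 3, ⟨2, 0, 0, 0, 1, 1, -1, 1⟩),
  (133, 108, 2, ⟨-4, 0, 0, 0, 0, 0, 0, 0⟩),
  (134, 109, 2, ⟨-4, 0, 0, 0, 0, 0, 0, 0⟩),
  (135, 110, 1, ⟨0, 0, -1, -1, -2, 0, -1, 1⟩),
  (136, 110, 3, ⟨0, 0, 0, 0, 0, 0, -4, 0⟩),
  (137, 111, 2, ⟨-4, 0, 0, 0, 0, 0, 0, 0⟩),
  (138, 112, 1, ⟨1, -1, 2, 0, 1, 1, 0, 0⟩),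
  (139, 112, 3, ⟨-1, -1, -1, 1, -2, 0, 0, 0⟩),
  (140, 113, 0, ⟨4, 0, 0, 0, 0, 0, 0, 0⟩),
  (141, 114, 1, ⟨1, -1, -1, -1, 0, 0, -2, 0⟩),
  (142, 114, 3, ⟨0, 0, 0, 0, -4, 0, 0, 0⟩),
  (143, 115, 0, ⟨4, 0, 0, 0, 0, 0, 0, 0⟩),
  (144, 115, 3, ⟨2, 0, -2, 0, -2, 0, -2, 0⟩),
  (145, 116, 2, ⟨-4, 0, 0, 0, 0, 0, 0, 0⟩),
  (146, 116, 4, ⟨0, 0, 0, 0, 0, 0, 4, 0⟩),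
  (147, 117, 1, ⟨0, 0, -2, 0, -1, 1, -1, -1⟩),
  (148, 118, 1, ⟨1, -1, 1, 1, 0, 0, -2, 0⟩),
  (149, 119, 0, ⟨4, 0, 0, 0, 0, 0, 0, 0⟩),
  (150, 119, 3, ⟨-2, 0, 0, 0, 1, 1, -1, 1⟩),
  (151, 120, 4, ⟨0, 0, 1, -1, 1, 1, 2, 0⟩),
  (152, 121, 1, ⟨0, 0, -2, 0, 1, -1, -1, -1⟩),
  (153, 121, 3, ⟨-2, 0, -2, 0, -2, 0, -2, 0⟩),
  (154, 122, 2, ⟨-4, 0, 0, 0, 0, 0, 0, 0⟩),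
  (155, 122, 4, ⟨0, 0, 0, 0, 0, 0, 4, 0⟩),
  (156, 124, 0, ⟨4, 0, 0, 0, 0, 0, 0, 0⟩),
  (157, 124, 2, ⟨-4, 0, 0, 0, 0, 0, 0, 0⟩),
  (158, 125, 0, ⟨4, 0, 0, 0, 0, 0, 0, 0⟩),
  (159, 126, 1, ⟨-2, 0, 0, 0, -1, -1, 1, -1⟩),
  (160, 126, 3, ⟨1, 1, 1, -1, 2, 0, 0, 0⟩),
  (161, 127, 0, ⟨-4, 0, 0, 0, 0, 0, 0, 0⟩),
  (162, 128, 0, ⟨4, 0, 0, 0, 0, 0, 0, 0⟩),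
  (163, 128, 3, ⟨-1, -1, 1, -1, -2, 0, 0, 0⟩),
  (164, 129, 2, ⟨4, 0, 0, 0, 0, 0, 0, 0⟩),
  (165, 130, 1, ⟨2, 0, 1, -1, 0, 0, 1, 1⟩),
  (166, 131, 0, ⟨4, 0, 0, 0, 0, 0, 0, 0⟩),
  (167, 132, 2, ⟨-4, 0, 0, 0, 0, 0, 0, 0⟩),
  (168, 133, 1, ⟨0, 0, 1, 1, 2, 0, -1, 1⟩),
  (169, 134, 1, ⟨0, 0, 1, 1, 2, 0, -1, 1⟩),
  (170, 134, 3, ⟨-2, 0, 0, 0, 1, 1, -1, 1⟩),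
  (171, 135, 0, ⟨4, 0, 0, 0, 0, 0, 0, 0⟩),
  (172, 135, 3, ⟨-1, -1, 1, -1, -2, 0, 0, 0⟩),
  (173, 136, 4, ⟨0, 0, 0, 0, 0, 0, 4, 0⟩),
  (174, 137, 1, ⟨-1, -1, -1, 1, 2, 0, 0, 0⟩),
  (175, 138, 0, ⟨4, 0, 0, 0, 0, 0, 0, 0⟩),
  (176, 138, 3, ⟨-1, -1, -1, 1, -2, 0, 0, 0⟩),
  (177, 140, 1, ⟨-2, 0, -1, 1, 0, 0, -1, -1⟩),
  (178, 141, 0, ⟨4, 0, 0, 0, 0, 0, 0, 0⟩),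
  (179, 141, 3, ⟨2, 0, 0, 0, 1, 1, 1, -1⟩),
  (180, 142, 4, ⟨0, 0, 0, 0, 0, 0, 4, 0⟩),
  (181, 143, 1, ⟨2, 0, 0, 0, 1, 1, -1, 1⟩),
  (182, 143, 3, ⟨2, 0, -2, 0, -2, 0, -2, 0⟩),
  (183, 144, 2, ⟨-4, 0, 0, 0, 0, 0, 0, 0⟩),
  (184, 144, 4, ⟨0, 0, 0, 0, 0, 0, 4, 0⟩),
  (185, 145, 1, ⟨2, 0, 1, 1, 1, -1, 0, 0⟩),
  (186, 145, 4, ⟨0, 0, 0, 0, 0, 0, 4, 0⟩),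
  (187, 147, 0, ⟨4, 0, 0, 0, 0, 0, 0, 0⟩),
  (188, 147, 2, ⟨-4, 0, 0, 0, 0, 0, 0, 0⟩),
  (189, 148, 0, ⟨4, 0, 0, 0, 0, 0, 0, 0⟩),
  (190, 149, 1, ⟨0, 0, 2, 0, -1, 1, -1, -1⟩),
  (191, 149, 3, ⟨2, 0, 0, 0, -1, -1, 1, -1⟩),
  (192, 150, 2, ⟨4, 0, 0, 0, 0, 0, 0, 0⟩),
  (193, 150, 4, ⟨0, 0, -4, 0, 0, 0, 0, 0⟩),
  (194, 152, 0, ⟨4, 0, 0, 0, 0, 0, 0, 0⟩),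
  (195, 152, 2, ⟨4, 0, 0, 0, 0, 0, 0, 0⟩),
  (196, 152, 3, ⟨-1, 1, 1, 1, 0, 0, -2, 0⟩),
  (197, 153, 2, ⟨-4, 0, 0, 0, 0, 0, 0, 0⟩),
  (198, 153, 4, ⟨0, 0, 0, 0, 0, 0, 4, 0⟩),
  (199, 154, 3, ⟨-2, 0, 2, 0, -2, 0, -2, 0⟩),
  (200, 154, 4, ⟨0, 0, 0, 0, 0, 0, 4, 0⟩),
  (201, 156, 2, ⟨-4, 0, 0, 0, 0, 0, 0, 0⟩),
  (202, 157, 3, ⟨-1, 1, -1, -1, 0, 0, -2, 0⟩),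
  (203, 158, 1, ⟨1, -1, 2, 0, -1, -1, 0, 0⟩),
  (204, 159, 0, ⟨-4, 0, 0, 0, 0, 0, 0, 0⟩),
  (205, 159, 3, ⟨-2, 0, 0, 0, -1, -1, 1, -1⟩),
  (206, 161, 1, ⟨0, 0, -2, 0, -1, 1, 1, 1⟩),
  (207, 162, 1, ⟨0, 0, -1, -1, -2, 0, 1, -1⟩),
  (208, 162, 3, ⟨-1, -1, 1, -1, -2, 0, 0, 0⟩),
  (209, 163, 2, ⟨-4, 0, 0, 0, 0, 0, 0, 0⟩),
  (210, 164, 1, ⟨-1, -1, -2, 0, 0, 0, -1, 1⟩),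
  (211, 165, 0, ⟨4, 0, 0, 0, 0, 0, 0, 0⟩),
  (212, 165, 2, ⟨-4, 0, 0, 0, 0, 0, 0, 0⟩),
  (213, 166, 1, ⟨-1, -1, 0, 0, -1, 1, 2, 0⟩),
  (214, 167, 1, ⟨-1, -1, 0, 0, 1, -1, -2, 0⟩),
  (215, 167, 3, ⟨-2, 0, 0, 0, 1, 1, -1, 1⟩),
  (216, 168, 0, ⟨4, 0, 0, 0, 0, 0, 0, 0⟩),
  (217, 169, 0, ⟨4, 0, 0, 0, 0, 0, 0, 0⟩),
  (218, 169, 3, ⟨-1, -1, -1, 1, -2, 0, 0, 0⟩),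
  (219, 170, 4, ⟨0, 0, -1, -1, -2, 0, -1, 1⟩),
  (220, 171, 1, ⟨1, 1, 0, 0, 1, -1, 2, 0⟩),
  (221, 172, 4, ⟨0, 0, 0, 0, 0, 0, 4, 0⟩),
  (222, 174, 0, ⟨4, 0, 0, 0, 0, 0, 0, 0⟩),
  (223, 175, 1, ⟨0, 0, 1, 1, -2, 0, 1, -1⟩),
  (224, 175, 3, ⟨-1, -1, -1, 1, -2, 0, 0, 0⟩),
  (225, 176, 2, ⟨-4, 0, 0, 0, 0, 0, 0, 0⟩),
  (226, 177, 0, ⟨-4, 0, 0, 0, 0, 0, 0, 0⟩),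
  (227, 177, 2, ⟨4, 0, 0, 0, 0, 0, 0, 0⟩),
  (228, 178, 1, ⟨2, 0, 0, 0, 1, 1, 1, -1⟩),
  (229, 178, 3, ⟨2, 0, 0, 0, 1, 1, 1, -1⟩),
  (230, 179, 2, ⟨4, 0, 0, 0, 0, 0, 0, 0⟩),
  (231, 179, 4, ⟨0, 0, 0, 0, -4, 0, 0, 0⟩),
  (232, 181, 0, ⟨4, 0, 0, 0, 0, 0, 0, 0⟩),
  (233, 181, 2, ⟨4, 0, 0, 0, 0, 0, 0, 0⟩),
  (234, 181, 3, ⟨1, -1, 1, 1, 0, 0, 2, 0⟩),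
  (235, 182, 4, ⟨0, 0, 0, 0, 0, 0, 4, 0⟩),
  (236, 183, 1, ⟨1, -1, 0, 0, 2, 0, 1, 1⟩),
  (237, 183, 4, ⟨0, 0, 0, 0, 0, 0, 4, 0⟩),
  (238, 185, 0, ⟨4, 0, 0, 0, 0, 0, 0, 0⟩),
  (239, 185, 4, ⟨0, 0, 0, 0, -4, 0, 0, 0⟩),
  (240, 186, 3, ⟨-2, 0, 0, 0, 1, 1, -1, 1⟩),
  (241, 189, 1, ⟨1, 1, -1, 1, 2, 0, 0, 0⟩),
  (242, 190, 0, ⟨4, 0, 0, 0, 0, 0, 0, 0⟩),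
  (243, 190, 2, ⟨-4, 0, 0, 0, 0, 0, 0, 0⟩),
  (244, 190, 3, ⟨1, -1, 0, 0, -2, 0, -1, -1⟩),
  (245, 191, 2, ⟨4, 0, 0, 0, 0, 0, 0, 0⟩),
  (246, 191, 4, ⟨0, 0, -4, 0, 0, 0, 0, 0⟩),
  (247, 192, 3, ⟨-2, 0, 0, 0, -1, -1, 1, -1⟩),
  (248, 192, 4, ⟨0, 0, -4, 0, 0, 0, 0, 0⟩),
  (249, 194, 2, ⟨4, 0, 0, 0, 0, 0, 0, 0⟩),
  (250, 194, 3, ⟨-1, 1, 1, 1, 0, 0, -2, 0⟩),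
  (251, 195, 3, ⟨1, -1, -1, -1, 0, 0, 2, 0⟩),
  (252, 196, 2, ⟨-4, 0, 0, 0, 0, 0, 0, 0⟩),
  (253, 196, 4, ⟨0, 0, 0, 0, 0, 0, 4, 0⟩),
  (254, 197, 1, ⟨2, 0, -2, 0, -2, 0, 2, 0⟩),
  (255, 197, 4, ⟨0, 0, 0, 0, 0, 0, 4, 0⟩),
  (256, 199, 4, ⟨0, 0, 0, 0, 0, 0, 4, 0⟩),
  (257, 200, 3, ⟨2, 0, 2, 0, -2, 0, -2, 0⟩),
  (258, 201, 3, ⟨-1, 1, -1, -1, 0, 0, -2, 0⟩),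
  (259, 202, 2, ⟨4, 0, 0, 0, 0, 0, 0, 0⟩),
  (260, 203, 0, ⟨4, 0, 0, 0, 0, 0, 0, 0⟩),
  (261, 204, 3, ⟨2, 0, 0, 0, 1, 1, -1, 1⟩),
  (262, 205, 2, ⟨-4, 0, 0, 0, 0, 0, 0, 0⟩),
  (263, 207, 0, ⟨4, 0, 0, 0, 0, 0, 0, 0⟩),
  (264, 207, 2, ⟨-4, 0, 0, 0, 0, 0, 0, 0⟩),
  (265, 209, 1, ⟨1, 1, -2, 0, 0, 0, 1, -1⟩),
  (266, 210, 0, ⟨4, 0, 0, 0, 0, 0, 0, 0⟩),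
  (267, 211, 2, ⟨-4, 0, 0, 0, 0, 0, 0, 0⟩),
  (268, 213, 0, ⟨4, 0, 0, 0, 0, 0, 0, 0⟩),
  (269, 213, 2, ⟨-4, 0, 0, 0, 0, 0, 0, 0⟩),
  (270, 214, 0, ⟨4, 0, 0, 0, 0, 0, 0, 0⟩),
  (271, 214, 3, ⟨1, 1, 0, 0, -1, 1, -2, 0⟩),
  (272, 217, 1, ⟨1, 1, 0, 0, -1, 1, 2, 0⟩),
  (273, 217, 3, ⟨-1, -1, -1, 1, -2, 0, 0, 0⟩),
  (274, 218, 2, ⟨4, 0, 0, 0, 0, 0, 0, 0⟩),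
  (275, 218, 4, ⟨0, 0, 0, 0, -4, 0, 0, 0⟩),
  (276, 223, 3, ⟨0, 0, -2, 0, 1, -1, 1, 1⟩),
  (277, 225, 3, ⟨1, 1, -1, 1, -2, 0, 0, 0⟩),
  (278, 227, 3, ⟨0, 0, 2, 0, -1, 1, -1, -1⟩),
  (279, 228, 3, ⟨1, -1, 0, 0, -2, 0, -1, -1⟩),
  (280, 229, 2, ⟨4, 0, 0, 0, 0, 0, 0, 0⟩),
  (281, 229, 4, ⟨0, 0, 0, 0, -4, 0, 0, 0⟩),
  (282, 234, 4, ⟨0, 0, 0, 0, -4, 0, 0, 0⟩),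
  (283, 239, 3, ⟨-1, -1, 0, 0, -1, 1, -2, 0⟩),
  (284, 242, 3, ⟨1, -1, 0, 0, -2, 0, -1, -1⟩),
  (285, 243, 3, ⟨1, -1, 0, 0, -2, 0, -1, -1⟩),
  (286, 244, 2, ⟨4, 0, 0, 0, 0, 0, 0, 0⟩),
  (287, 244, 4, ⟨0, 0, 0, 0, -4, 0, 0, 0⟩),
  (288, 245, 4, ⟨0, 0, -4, 0, 0, 0, 0, 0⟩),
  (289, 247, 4, ⟨0, 0, 0, 0, 0, 0, 4, 0⟩),
  (290, 249, 3, ⟨1, -1, -1, -1, 0, 0, 2, 0⟩),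
  (291, 250, 2, ⟨-4, 0, 0, 0, 0, 0, 0, 0⟩),
  (292, 250, 4, ⟨0, 0, 0, 0, 0, 0, 4, 0⟩),
  (293, 251, 2, ⟨4, 0, 0, 0, 0, 0, 0, 0⟩),
  (294, 252, 1, ⟨2, 0, 2, 0, 2, 0, -2, 0⟩),
  (295, 252, 3, ⟨1, -1, 1, 1, 0, 0, -2, 0⟩),
  (296, 254, 4, ⟨0, 0, 0, 0, 0, 0, 4, 0⟩),
  (297, 255, 3, ⟨2, 0, 2, 0, -2, 0, -2, 0⟩),
  (298, 271, 2, ⟨-4, 0, 0, 0, 0, 0, 0, 0⟩),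
  (299, 273, 2, ⟨4, 0, 0, 0, 0, 0, 0, 0⟩),
  (300, 274, 3, ⟨-1, -1, 1, -1, 2, 0, 0, 0⟩),
  (301, 277, 2, ⟨4, 0, 0, 0, 0, 0, 0, 0⟩),
  (302, 279, 2, ⟨-4, 0, 0, 0, 0, 0, 0, 0⟩),
  (303, 283, 2, ⟨-4, 0, 0, 0, 0, 0, 0, 0⟩),
  (304, 284, 2, ⟨4, 0, 0, 0, 0, 0, 0, 0⟩),
  (305, 284, 4, ⟨0, 0, 0, 0, -4, 0, 0, 0⟩),
  (306, 285, 2, ⟨-4, 0, 0, 0, 0, 0, 0, 0⟩),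
  (307, 286, 3, ⟨1, -1, 0, 0, 2, 0, 1, 1⟩),
  (308, 291, 1, ⟨-1, -1, 0, 0, 1, -1, -2, 0⟩),
  (309, 291, 3, ⟨1, -1, 1, 1, 0, 0, -2, 0⟩),
  (310, 294, 3, ⟨1, 1, 0, 0, -1, 1, -2, 0⟩),
  (311, 304, 1, ⟨1, -1, 2, 0, 1, 1, 0, 0⟩),
  (312, 304, 3, ⟨1, -1, 0, 0, 2, 0, 1, 1⟩),
  (313, 308, 3, ⟨-2, 0, 0, 0, -1, -1, -1, 1⟩),
  (314, 311, 3, ⟨2, 0, -2, 0, -2, 0, -2, 0⟩)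
]

end Cfsg.Agent.Lib.Helper4.J2
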